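import Groth.Agent.ProjTwist.Pn.H0
import Groth.Agent.ProjTwist.Quotient
import Groth.Agent.CohLin.Basic
import Groth.Agent.S0022
import Mathlib.AlgebraicGeometry.Noetherian
import Mathlib.AlgebraicGeometry.ProjectiveSpectrum.Proper

/-!
Coherent modules on `P^n_R`, `R` Noetherian, and finiteness of their cohomology.
-/

open CategoryTheory CategoryTheory.Limits AlgebraicGeometry TopologicalSpace Opposite

universe u

noncomputable section

namespace Groth.Agent.ProjTwist.Pn

open Twist

set_option backward.isDefEq.respectTransparency.types false in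
theorem locallyOfFiniteType_toSpecZero {R A : Type u} [CommRing R] [CommRing A] [Algebra R A]
    (𝒜 : ℕ → Submodule R A) [GradedAlgebra 𝒜] (h : Algebra.FiniteType (𝒜 0) A) :
    LocallyOfFiniteType (Proj.toSpecZero 𝒜) := inferInstance

theorem locallyOfFiniteType_toSpec (n : ℕ) (R : Type u) [CommRing R] :
    LocallyOfFiniteType (CohB1.ProjSpace.toSpec n R) := by
  have : IsScalarTower R (CohB1.polyGrading n R 0) (MvPolynomial (Fin (n + 1)) R) :=
    IsScalarTower.of_algebraMap_eq (R := R) (S := CohB1.polyGrading n R 0) (A := MvPolynomial (Fin (n + 1)) R) (fun _ => rfl)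
  have : Algebra.FiniteType (CohB1.polyGrading n R 0) (MvPolynomial (Fin (n + 1)) R) :=
    Algebra.FiniteType.of_restrictScalars_finiteType R _ _
  have hs : Function.Surjective (algebraMap R (CohB1.polyGrading n R 0)) := fun p => by
    refine ⟨MvPolynomial.coeff 0 p.1, Subtype.ext ?_⟩
    have hp : p.1.totalDegree = 0 :=
      Nat.le_zero.mp ((MvPolynomial.mem_homogeneousSubmodule 0 p.1).mp p.2).totalDegree_le
    conv_rhs => rw [MvPolynomial.totalDegree_eq_zero_iff_eq_C.mp hp]
    rfl
  have : IsClosedImmersion (Spec.map (CommRingCat.ofHom (algebraMap R (CohB1.polyGrading n R 0)))) :=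
    IsClosedImmersion.spec_of_surjective _ hs
  have h1 : LocallyOfFiniteType (Proj.toSpecZero (CohB1.polyGrading n R)) :=
    locallyOfFiniteType_toSpecZero _ (by assumption)
  have h2 : LocallyOfFiniteType
      (Spec.map (CommRingCat.ofHom (algebraMap R (CohB1.polyGrading n R 0)))) := inferInstance
  exact MorphismProperty.comp_mem _ _ _ h1 h2

theorem isLocallyNoetherian_projSpace (n : ℕ) (R : Type u) [CommRing R] [IsNoetherianRing R] :
    IsLocallyNoetherian (CohB1.ProjSpace n R) := by
  have := locallyOfFiniteType_toSpec n R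
  exact LocallyOfFiniteType.isLocallyNoetherian (CohB1.ProjSpace.toSpec n R)

/-- Twists of projective space are coherent. -/
theorem isCoh_twistProjSpace (n : ℕ) (R : Type u) [CommRing R] (d : ℤ) :
    Coh.IsCoh (twistProjSpace n R d) := by
  have := isQCoh_twistProjSpace n R d
  refine ⟨this, QCoh.isFiniteType_of_forall_exists _ fun x => ?_⟩
  obtain ⟨i, hi⟩ := Opens.mem_iSup.mp
    ((iSup_stdOpen n R).ge (trivial : x ∈ (⊤ : (CohB1.ProjSpace n R).Opens)))
  refine ⟨stdOpen n R i, isAffineOpen_stdOpen n R i, hi, ?_⟩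
  have hU : ∀ y : stdOpen n R i, (MvPolynomial.X i : MvPolynomial (Fin (n + 1)) R) ∉
      (show ProjectiveSpectrum (CohB1.polyGrading n R) from y.1).asHomogeneousIdeal :=
    fun y => not_mem_of_le_basicOpen (le_refl _) y
  let u : Γ(twistProjSpace n R d, stdOpen n R i) :=
    show sectN (𝒜 := CohB1.polyGrading n R) d (op (stdOpen n R i)) from
      unitSec (X_mem_polyGrading n R i) d (op (stdOpen n R i)) hU
  exact Module.Finite.of_surjective
    (LinearMap.toSpanSingleton Γ(CohB1.ProjSpace n R, stdOpen n R i) _ u)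
    (bijective_smul_unitSec (X_mem_polyGrading n R i) d (op (stdOpen n R i)) hU).2

/-- Finite sums of coherent modules are coherent. -/
theorem isCoh_sigma {X : Scheme.{u}} {κ : Type u} [Finite κ] (F : κ → X.Modules)
    (hF : ∀ j, Coh.IsCoh (F j)) : Coh.IsCoh (∐ F) := by
  have := fun j => (hF j).1
  have hq : Coh.IsQCoh (∐ F) := QCoh.isQuasicoherent_coproduct F
  refine ⟨hq, (QCoh.isFiniteType_iff _).mpr fun U hU => ?_⟩
  classical
  cases nonempty_fintype κ
  have := fun j => (QCoh.isFiniteType_iff (F j)).mp (hF j).2 U hU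
  let ιL : ∀ j, Γ(F j, U) →ₗ[Γ(X, U)] Γ(∐ F, U) := fun j =>
    { toFun := (Sigma.ι F j).app U
      map_add' := map_add _
      map_smul' := fun r x => Scheme.Modules.Hom.app_smul _ _ _ }
  refine Module.Finite.of_surjective
    (∑ j, (ιL j).comp (LinearMap.proj j) : ((j : κ) → Γ(F j, U)) →ₗ[Γ(X, U)] Γ(∐ F, U)) fun x => ?_
  let e := biproduct.isoCoproduct F
  refine ⟨fun j => (e.inv ≫ biproduct.π F j).app U x, ?_⟩
  simp only [LinearMap.coe_sum, Finset.sum_apply, LinearMap.comp_apply, LinearMap.proj_apply]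
  have h : (∑ j, (e.inv ≫ biproduct.π F j) ≫ Sigma.ι F j) = 𝟙 (∐ F) := by
    have hι : ∀ j, Sigma.ι F j = biproduct.ι F j ≫ e.hom := fun j => by
      have h1 := biproduct.isoCoproduct_inv (f := F)
      rw [← Iso.comp_inv_eq e, h1, Sigma.ι_desc]
    simp only [hι, Category.assoc]
    rw [← Preadditive.comp_sum]
    simp only [← Category.assoc]
    rw [← Preadditive.sum_comp, CohLin.total_eq, Category.id_comp, e.inv_hom_id]
  let φ : (∐ F ⟶ ∐ F) →+ Γ(∐ F, U) :=
    AddMonoidHom.mk' (fun f => f.app U x) fun _ _ => rfl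
  refine Eq.trans ?_ (congrArg φ h)
  rw [map_sum]
  rfl

/-- Kernels of maps of coherent modules are coherent on a locally Noetherian scheme. -/
theorem isCoh_kernel {X : Scheme.{u}} [IsLocallyNoetherian X] {M N : X.Modules} (φ : M ⟶ N)
    (hM : Coh.IsCoh M) (hN : Coh.IsQCoh N) : Coh.IsCoh (kernel φ) := by
  have := hM.1
  have hq : Coh.IsQCoh (kernel φ) := QCoh.isQuasicoherent_kernel φ
  refine ⟨hq, (QCoh.isFiniteType_iff _).mpr fun U hU => ?_⟩
  have := (QCoh.isFiniteType_iff M).mp hM.2 U hU
  have : IsNoetherianRing Γ(X, U) := IsLocallyNoetherian.component_noetherian ⟨U, hU⟩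
  exact Module.Finite.of_injective
    ({ toFun := (kernel.ι φ).app U
       map_add' := map_add _
       map_smul' := fun r x => Scheme.Modules.Hom.app_smul _ _ _ } :
      Γ(kernel φ, U) →ₗ[Γ(X, U)] Γ(M, U))
    (QCoh.app_injective_of_mono (kernel.ι φ) U)

/-- The short exact sequence of an epimorphism. -/
theorem shortExact_kernel {X : Scheme.{u}} {M N : X.Modules} (φ : M ⟶ N) [Epi φ] :
    (ShortComplex.mk (kernel.ι φ) φ (kernel.condition φ)).ShortExact where
  exact := ShortComplex.exact_of_f_is_kernel _ (kernelIsKernel φ)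

variable {n : ℕ} {R : Type u} [CommRing R] [IsNoetherianRing R]

theorem finite_twist (d : ℤ) (i : ℕ) :
    Module.Finite R (Coh.HH (CohB1.ProjSpace n R) (twistProjSpace n R d) i) := by
  cases i with
  | zero => exact finite_twist_zero d
  | succ i => exact finite_twist_succ d i

/-- Every coherent module on `P^n_R` is a quotient of a finite sum of twists, with coherent kernel. -/
theorem exists_presentation (F : (CohB1.ProjSpace n R).Modules) (hF : Coh.IsCoh F) :
    ∃ (κ : Type u) (_ : Finite κ) (d : κ → ℕ) (S : ShortComplex (CohB1.ProjSpace n R).Modules),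
      S.ShortExact ∧ Coh.IsCoh S.X₁ ∧
        S.X₂ = (∐ fun j => twistProjSpace n R (-(d j : ℤ))) ∧ S.X₃ = F := by
  have := isLocallyNoetherian_projSpace n R
  obtain ⟨κ, hκ, d, φ, hφ⟩ := exists_epi_twists (𝒜 := CohB1.polyGrading n R) F hF
  let ψ : (∐ fun j => twistProjSpace n R (-(d j : ℤ))) ⟶ F := φ
  have : Epi ψ := hφ
  exact ⟨κ, hκ, d, ShortComplex.mk (kernel.ι ψ) ψ (kernel.condition ψ), shortExact_kernel ψ,
    isCoh_kernel ψ (isCoh_sigma _ fun j => isCoh_twistProjSpace n R _) hF.1, rfl, rfl⟩

/-- `H^i(P^n_R, F)` is finite for coherent `F`. -/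
theorem finite_cohomology (F : (CohB1.ProjSpace n R).Modules) (hF : Coh.IsCoh F) (i : ℕ) :
    Module.Finite R (Coh.HH (CohB1.ProjSpace n R) F i) := by
  suffices H : ∀ k i, n + 1 ≤ i + k → ∀ F : (CohB1.ProjSpace n R).Modules, Coh.IsCoh F →
      Module.Finite R (Coh.HH (CohB1.ProjSpace n R) F i) from H (n + 1) i (by omega) F hF
  intro k
  induction k with
  | zero =>
    intro i hi F hF
    have := hF.1
    have := Groth.Agent.S0022.result n R F i (by omega)
    infer_instance
  | succ k ih =>
    intro i hi F hF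
    obtain ⟨κ, hκ, d, S, hS, hK, hE, rfl⟩ := exists_presentation F hF
    have h1 := ih (i + 1) (by omega) S.X₁ hK
    have h2 : Module.Finite R (Coh.HH (CohB1.ProjSpace n R) S.X₂ i) := by
      rw [hE]
      have := fun j => finite_twist (n := n) (R := R) (-(d j : ℤ)) i
      exact CohLin.finite_sigma _ R i
    exact CohLin.finite_X₃ hS R

end Groth.Agent.ProjTwist.Pn
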