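import Groth.Agent.ProjTwist.Pn.Regular
import Groth.Agent.ModShf.Flasque
import Groth.Agent.CohTop.Flasque
import Groth.Agent.CohDev.Coh
import Groth.Agent.ProjProper.Basic

/-!
A module supported at finitely many closed points has no higher cohomology.
-/

open CategoryTheory CategoryTheory.Limits AlgebraicGeometry TopologicalSpace Opposite

universe u

noncomputable section

namespace Groth.Agent.ProjTwist.Pn

variable {X : Scheme.{u}}

/-- A coherent module on a Noetherian scheme with support of dimension `≤ 0` has finite support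
consisting of closed points. -/
theorem finite_support_of_dim_le_zero [NoetherianSpace X] {M : X.Modules} (hM : Coh.IsCoh M)
    (h : topologicalKrullDim (CohB1.support M) ≤ 0) :
    (CohB1.support M).Finite ∧ ∀ x ∈ CohB1.support M, IsClosed ({x} : Set X) := by
  have hS : IsClosed (CohB1.support M) := CohDev.isClosed_support hM
  have hcl : ∀ x ∈ CohB1.support M, IsClosed ({x} : Set X) := by
    intro x hx
    refine closure_eq_iff_isClosed.1 (Set.Subset.antisymm (fun y hy => ?_) subset_closure)
    have hyS : y ∈ CohB1.support M := closure_minimal (Set.singleton_subset_iff.2 hx) hS hy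
    let a : IrreducibleCloseds (CohB1.support M) :=
      ⟨closure {⟨y, hyS⟩}, isIrreducible_singleton.closure, isClosed_closure⟩
    let b : IrreducibleCloseds (CohB1.support M) :=
      ⟨closure {⟨x, hx⟩}, isIrreducible_singleton.closure, isClosed_closure⟩
    have hab : a ≤ b := closure_minimal
      (Set.singleton_subset_iff.2 (show (⟨y, hyS⟩ : CohB1.support M) ∈ closure {⟨x, hx⟩} by
        rw [closure_subtype]; simpa using hy)) isClosed_closure
    have hba : b ≤ a := (Order.krullDim_nonpos_iff_forall_isMin.1 h) b hab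
    have hx' : (⟨x, hx⟩ : CohB1.support M) ∈ closure ({⟨y, hyS⟩} : Set (CohB1.support M)) :=
      hba (subset_closure rfl)
    rw [closure_subtype] at hx'
    have hx'' : x ∈ closure ({y} : Set X) := by simpa using hx'
    exact (Inseparable.eq (inseparable_iff_closure_eq.2 (Set.Subset.antisymm
      (closure_minimal (Set.singleton_subset_iff.2 hy) isClosed_closure)
      (closure_minimal (Set.singleton_subset_iff.2 hx'') isClosed_closure))))
  refine ⟨?_, hcl⟩
  obtain ⟨F, hFfin, hFc, hFirr, hSF⟩ :=
    NoetherianSpace.exists_finite_set_isClosed_irreducible hS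
  refine hSF ▸ hFfin.sUnion fun t ht => Set.Subsingleton.finite fun a ha b hb => ?_
  obtain ⟨g, hg⟩ := QuasiSober.sober (hFirr t ht) (hFc t ht)
  have hgS : g ∈ CohB1.support M := hSF ▸ Set.mem_sUnion.2 ⟨t, ht, hg.mem⟩
  have e : t = {g} := hg.def.symm.trans (hcl g hgS).closure_eq
  rw [e] at ha hb
  exact ha.trans hb.symm

/-- a module supported at finitely many closed points is flasque -/
theorem isFlasque_of_finite_support (M : X.Modules) (hfin : (CohB1.support M).Finite)
    (hcl : ∀ x ∈ CohB1.support M, IsClosed ({x} : Set X)) :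
    TopCat.Sheaf.IsFlasque (X := X.toTopCat) (Coh.toAb M) := by
  suffices H : ∀ (V U : X.Opens) (h : V ≤ U), Function.Surjective (QCoh.res M h) from
    ModShf.isFlasque_of_surjective (X := X.toTopCat) _ fun g => H _ _ (leOfHom g)
  intro V U g s
  let T : Set X := CohB1.support M ∩ (V : Set X)
  have hT : IsClosed T := by
    rw [← Set.biUnion_of_singleton T]
    exact (hfin.inter_of_left _).isClosed_biUnion fun x hx => hcl x hx.1
  let W : X.Opens := ⟨Tᶜ, hT.isOpen_compl⟩ ⊓ U
  let O : Bool → X.Opens := fun b => bif b then V else W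
  have hO : ∀ b, O b ≤ U := fun b => by
    cases b
    · exact inf_le_right
    · exact g
  have hcov : U ≤ ⨆ b, O b := by
    intro x hx
    by_cases hxV : x ∈ V
    · exact Opens.mem_iSup.2 ⟨true, hxV⟩
    · exact Opens.mem_iSup.2 ⟨false, ⟨fun hxT => hxV hxT.2, hx⟩⟩
  let sf : ∀ b, Γ(M, O b) := fun b => match b with
    | true => (show Γ(M, V) from s)
    | false => 0
  have hzero : ∀ z : Γ(M, V ⊓ W), z = 0 := fun z => by
    refine TopCat.Presheaf.section_ext (⟨M.presheaf, M.isSheaf⟩ : TopCat.Sheaf AddCommGrpCat X)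
      (V ⊓ W) _ _ fun y hy => ?_
    have : Subsingleton (M.presheaf.stalk y) := by
      by_contra hn
      exact hy.2.1 ⟨hn, hy.1⟩
    exact Subsingleton.elim _ _
  have hzero' : ∀ z : Γ(M, W ⊓ V), z = 0 := by rw [inf_comm]; exact hzero
  obtain ⟨t, ht⟩ := QCoh.exists_glue M hO hcov sf (fun i j => by
    cases i <;> cases j
    · simp only [sf, map_zero]
    · exact (hzero' _).trans (hzero' _).symm
    · exact (hzero _).trans (hzero _).symm
    · rfl)
  exact ⟨t, ht true⟩

/-- no higher cohomology for zero-dimensional support -/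
theorem subsingleton_of_dim_le_zero [NoetherianSpace X] {M : X.Modules} (hM : Coh.IsCoh M)
    (h : topologicalKrullDim (CohB1.support M) ≤ 0) (q : ℕ) :
    Subsingleton (Coh.HH X M (q + 1)) :=
  let ⟨h1, h2⟩ := finite_support_of_dim_le_zero hM h
  @CohTop.Flasque.H_subsingleton X.toTopCat (Coh.toAb M) (isFlasque_of_finite_support M h1 h2) q

/-- regularity is unaffected by zero-dimensional cokernels -/
theorem isMRegular_of_mono {n : ℕ} {k : Type u} [Field k]
    {F' F : (CohB1.ProjSpace n k).Modules} (hF : Coh.IsCoh F)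
    (hF' : Coh.IsQCoh F') (φ : F' ⟶ F) [Mono φ]
    (hsupp : topologicalKrullDim (CohB1.support (cokernel φ)) ≤ 0) {m : ℤ}
    (h : Curv2.IsMRegular k n F' m) : Curv2.IsMRegular k n F m := by
  have := isLocallyNoetherian_projSpace n k
  have := locallyOfFiniteType_toSpec n k
  have : IsProper (CohB1.ProjSpace.toSpec n k) := ProjProper.Basic.isProper_toSpec n k
  have : CompactSpace (CohB1.ProjSpace n k) :=
    QuasiCompact.compactSpace_of_compactSpace (CohB1.ProjSpace.toSpec n k)
  have : IsNoetherian (CohB1.ProjSpace n k) := ⟨⟩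
  let S : ShortComplex (CohB1.ProjSpace n k).Modules :=
    ShortComplex.mk φ (cokernel.π φ) (cokernel.condition φ)
  have hS : S.ShortExact :=
    ShortComplex.ShortExact.mk' (ShortComplex.exact_cokernel φ) ‹Mono φ›
      (inferInstanceAs (Epi (cokernel.π φ)))
  have hC : Coh.IsCoh (cokernel φ) :=
    CohDev.isCoh_of_epi (cokernel.π φ) hF
      (@QCoh.isQuasicoherent_cokernel _ _ _ φ hF' hF.1)
  refine isMRegular_X₂ hS h fun i hi hin => ?_
  obtain ⟨q, rfl⟩ := Nat.exists_eq_add_of_le' hi
  have hC' := isCoh_tw hC (m - ((q + 1 : ℕ) : ℤ))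
  refine subsingleton_of_dim_le_zero hC' (le_trans ?_ hsupp) q
  refine Topology.IsInducing.topologicalKrullDim_le (f := Set.inclusion ?_) ?_
  · intro x hx
    exact CohDev.support_tens_subset (Twist.twistProjSpace n k _) (cokernel φ)
      ((CohDev.support_subset_of_epi (tensComm _ _).hom) hx)
  · exact (Topology.IsEmbedding.inclusion _).isInducing

end Groth.Agent.ProjTwist.Pn
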