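import Groth.Agent.ProjTwist.Tensor
import Groth.Agent.ProjTwist.Pn.Finite
import Groth.Agent.LimTop.TensorQC
import Groth.Agent.S0022

/-!
Twisting coherent modules on `P^n_R`: formal properties and Serre vanishing.
-/

open CategoryTheory CategoryTheory.Limits AlgebraicGeometry TopologicalSpace Opposite

universe u

noncomputable section

namespace Groth.Agent.ProjTwist.Pn

open Twist

theorem preservesColimits_tensorFlip (X : Scheme.{u}) (L : X.Modules) :
    PreservesColimitsOfSize.{u, u} ((DCoh.tensorBi (X := X)).flip.obj L) :=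
  KFlat.preservesColimitsOfSize_tensorBi_flip_obj (O := X.sheaf) L

variable {n : ℕ} {R : Type u} [CommRing R]

/-- `F(d)` -/
abbrev twF (F : (CohB1.ProjSpace n R).Modules) (d : ℤ) : (CohB1.ProjSpace n R).Modules :=
  CohB1.tensorMod F (twistProjSpace n R d)

/-- twisting as a functor -/
abbrev twFun (n : ℕ) (R : Type u) [CommRing R] (d : ℤ) :
    (CohB1.ProjSpace n R).Modules ⥤ (CohB1.ProjSpace n R).Modules :=
  (DCoh.tensorBi (X := CohB1.ProjSpace n R)).flip.obj (twistProjSpace n R d)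

/-- an isomorphism of modules gives one of twists -/
def twCongr {F G : (CohB1.ProjSpace n R).Modules} (e : F ≅ G) (d : ℤ) : twF F d ≅ twF G d :=
  (twFun n R d).mapIso e

/-- `F(a)(b) ≅ F(a+b)` -/
def twTw (F : (CohB1.ProjSpace n R).Modules) (a b c : ℤ) (h : a + b = c) :
    twF (twF F a) b ≅ twF F c :=
  tensAssoc _ _ _ ≪≫ tensCongr (Iso.refl F)
    ((nonempty_twistProjSpace_tensor n R a b).some ≪≫ eqToIso (by rw [h]))

/-- `F(0) ≅ F` -/
def twZero (F : (CohB1.ProjSpace n R).Modules) : twF F 0 ≅ F :=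
  tensCongr (Iso.refl F) (twistZeroIso (CohB1.polyGrading n R)).symm ≪≫ tensOne F

theorem shortExact_tw {S : ShortComplex (CohB1.ProjSpace n R).Modules} (hS : S.ShortExact) (d : ℤ) :
    (S.map (twFun n R d)).ShortExact :=
  shortExact_tensor (isInvertible_twistProjSpace n R d) hS

/-- twisting commutes with finite sums -/
def twSigma {κ : Type u} (F : κ → (CohB1.ProjSpace n R).Modules) (d : ℤ) :
    twF (∐ F) d ≅ ∐ fun j => twF (F j) d :=
  have : PreservesColimitsOfSize.{u, u} (twFun n R d) :=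
    preservesColimits_tensorFlip _ (twistProjSpace n R d)
  PreservesCoproduct.iso (twFun n R d) F

theorem isQCoh_tw (F : (CohB1.ProjSpace n R).Modules) (hF : Coh.IsQCoh F) (d : ℤ) :
    Coh.IsQCoh (twF F d) :=
  have := isQCoh_twistProjSpace n R d
  have : F.IsQuasicoherent := hF
  LimTop.TensorQC.isQuasicoherent_tensM F (twistProjSpace n R d)

theorem isCoh_tw {F : (CohB1.ProjSpace n R).Modules} (hF : Coh.IsCoh F) (d : ℤ) :
    Coh.IsCoh (twF F d) :=
  have := (isCoh_twistProjSpace n R d).2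
  have := (isCoh_twistProjSpace n R d).1
  have := hF.1
  have := hF.2
  ⟨LimTop.TensorQC.isQuasicoherent_tensM F (twistProjSpace n R d),
    LimTop.TensorQC.isFT_tensM F (twistProjSpace n R d)⟩

theorem subsingleton_of_iso {F G : (CohB1.ProjSpace n R).Modules} (e : F ≅ G) (i : ℕ)
    [Subsingleton (Coh.HH (CohB1.ProjSpace n R) F i)] :
    Subsingleton (Coh.HH (CohB1.ProjSpace n R) G i) :=
  (CohLin.hIso e i).symm.toEquiv.subsingleton

theorem subsingleton_above (F : (CohB1.ProjSpace n R).Modules) (hF : Coh.IsQCoh F) (i : ℕ)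
    (hi : n < i) : Subsingleton (Coh.HH (CohB1.ProjSpace n R) F i) :=
  have : Coh.IsQCoh F := hF
  Groth.Agent.S0022.result n R F i hi

/-- Serre vanishing on `P^n_R` -/
theorem serre_vanishing [IsNoetherianRing R] (F : (CohB1.ProjSpace n R).Modules) (hF : Coh.IsCoh F) :
    ∃ d₀ : ℤ, ∀ d : ℤ, d₀ ≤ d → ∀ p : ℕ, 0 < p →
      Subsingleton (Coh.HH (CohB1.ProjSpace n R) (twF F d) p) := by
  suffices H : ∀ k, ∀ F : (CohB1.ProjSpace n R).Modules, Coh.IsCoh F →
      ∃ d₀ : ℤ, ∀ d : ℤ, d₀ ≤ d → ∀ p : ℕ, 0 < p → n + 1 ≤ p + k →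
        Subsingleton (Coh.HH (CohB1.ProjSpace n R) (twF F d) p) by
    obtain ⟨d₀, h⟩ := H (n + 1) F hF
    exact ⟨d₀, fun d hd p hp => h d hd p hp (by omega)⟩
  intro k
  induction k with
  | zero => exact fun F hF => ⟨0, fun d _ p _ hp => subsingleton_above _ (isQCoh_tw F hF.1 d) p (by omega)⟩
  | succ k ih =>
    intro F hF
    obtain ⟨κ, hκ, e, S, hS, hK, hE, rfl⟩ := exists_presentation F hF
    obtain ⟨d₁, h₁⟩ := ih S.X₁ hK
    obtain ⟨M, hM⟩ := (Set.finite_range e).bddAbove
    refine ⟨max d₁ M, fun d hd p hp hpk => ?_⟩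
    have h2 : Subsingleton (Coh.HH (CohB1.ProjSpace n R) (S.map (twFun n R d)).X₂ p) := by
      have hj : ∀ j, Subsingleton (Coh.HH (CohB1.ProjSpace n R)
          (twF (twistProjSpace n R (-(e j : ℤ))) d) p) := fun j => by
        obtain ⟨q, rfl⟩ := Nat.exists_eq_add_of_le' hp
        have := hM ⟨j, rfl⟩
        have := subsingleton_twist (n := n) (R := R) (-(e j : ℤ) + d) q (Or.inr (by omega))
        exact subsingleton_of_iso (nonempty_twistProjSpace_tensor n R (-(e j : ℤ)) d).some.symm (q + 1)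
      show Subsingleton (Coh.HH (CohB1.ProjSpace n R) (twF S.X₂ d) p)
      rw [hE]
      have := CohLin.subsingleton_sigma (fun j => twF (twistProjSpace n R (-(e j : ℤ))) d) p
      exact subsingleton_of_iso (twSigma _ d).symm p
    have h3 : Subsingleton (Coh.HH (CohB1.ProjSpace n R) (S.map (twFun n R d)).X₁ (p + 1)) :=
      h₁ d (le_of_max_le_left hd) (p + 1) (Nat.succ_pos p) (by omega)
    exact CohLin.subsingleton_X₃ (shortExact_tw hS d)

end Groth.Agent.ProjTwist.Pn
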