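import Groth.Agent.ProjTwist.Pn.Coh

/-!
`H^0(P^n_R, O(d))`.
-/

open CategoryTheory AlgebraicGeometry TopologicalSpace Opposite

universe u

noncomputable section

namespace Groth.Agent.ProjTwist.Pn

open Twist CohAff MvPolynomial

variable {n : ℕ} {R : Type u} [CommRing R] {d : ℤ}

variable (n R d) in
/-- The class map, as a linear map. -/
def classHom (q : ℕ) :
    cocL n R d q →ₗ[R] Coh.HH (CohB1.ProjSpace n R) (twistProjSpace n R d) q where
  toFun := classL
  map_add' := classL_add
  map_smul' := classL_smul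

theorem classHom_apply {q : ℕ} (f : cocL n R d q) : classHom n R d q f = classL f := rfl

theorem classHom_surjective (q : ℕ) : Function.Surjective (classHom n R d q) := fun x => by
  obtain ⟨c, hc, rfl⟩ := exists_cocycle q x
  exact ⟨⟨_, lauC_mem c, tupD_lauC_eq_zero hc⟩, classL_eq _ hc rfl⟩

theorem classHom_zero_injective : Function.Injective (classHom n R d 0) := by
  refine (injective_iff_map_eq_zero _).mpr fun f hf => ?_
  obtain ⟨c, hc, hcf⟩ := exists_cochain f
  obtain ⟨s, rfl⟩ := exists_aug_eq (tw n R d) iSup_cov hc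
  rw [classHom_apply, classL_eq f hc hcf, toH_zero_eq iSup_cov (tw n R d) hc rfl] at hf
  have hs : s = 0 := (AddEquiv.map_eq_zero_iff _).mp hf
  refine Subtype.ext ?_
  rw [← hcf, hs, map_zero, map_zero]
  rfl

theorem mem_lauPart_empty (h : 1 ≤ n ∨ 0 ≤ d) {v : Lau n R}
    (hv : ∀ i, v ∈ lauPart R d ({i} : Finset (Fin (n + 1)))) : v ∈ lauPart R d ∅ := by
  intro e he
  refine ⟨(hv 0 e he).1, fun i hi => absurd hi ?_⟩
  push Not
  rcases h with h | h
  · obtain ⟨l, hl⟩ : ∃ l, l ≠ i := by
      have : Nontrivial (Fin (n + 1)) := Fin.nontrivial_iff_two_le.mpr (by omega)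
      exact exists_ne i
    by_contra hneg
    push Not at hneg
    exact hl.symm (Finset.mem_singleton.mp ((hv l e he).2 i hneg))
  · by_contra hneg
    push Not at hneg
    have hsum := (hv i e he).1
    have : ∑ l, e l = e i + ∑ l ∈ Finset.univ.erase i, e l :=
      (Finset.add_sum_erase _ _ (Finset.mem_univ i)).symm
    by_cases hn : n = 0
    · subst hn
      have : (Finset.univ.erase i : Finset (Fin 1)) = ∅ :=
        Finset.eq_empty_of_forall_notMem fun x hx =>
          (Finset.mem_erase.mp hx).1 (Subsingleton.elim _ _)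
      simp_all
      omega
    · obtain ⟨l, hl⟩ : ∃ l, l ≠ i := by
        have : Nontrivial (Fin (n + 1)) := Fin.nontrivial_iff_two_le.mpr (by omega)
        exact exists_ne i
      exact hl.symm (Finset.mem_singleton.mp ((hv l e he).2 i hneg))

/-- Constant families of Laurent polynomials with no negative exponent, as cocycles. -/
def constCoc : lauPart (n := n) R d ∅ →ₗ[R] cocL n R d 0 where
  toFun v := ⟨fun _ => v.1, fun t e he => ⟨(v.2 e he).1, fun i hi =>
      absurd ((v.2 e he).2 i hi) (Finset.notMem_empty i)⟩, fun t => by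
    simp [tupD, Fin.sum_univ_two]⟩
  map_add' _ _ := rfl
  map_smul' _ _ := rfl

theorem constCoc_bijective (h : 1 ≤ n ∨ 0 ≤ d) :
    Function.Bijective (constCoc (n := n) (R := R) (d := d)) := by
  refine ⟨fun v w hvw => Subtype.ext (congrFun (congrArg Subtype.val hvw) fun _ => 0), fun f => ?_⟩
  have hc : ∀ i, f.1 (fun _ => i) = f.1 (fun _ => 0) := fun i => eq_of_tupD_eq_zero f.1 f.2.2 i 0
  refine ⟨⟨f.1 (fun _ => 0), mem_lauPart_empty h fun i => ?_⟩, Subtype.ext (funext fun t => ?_)⟩
  · rw [← hc i]
    have := f.2.1 (fun _ => i)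
    simpa [tupImage] using this
  · show f.1 (fun _ => 0) = f.1 t
    exact ((hc (t 0)).symm.trans (congrArg f.1 (funext fun k => congrArg t (Fin.eq_zero k).symm)))

theorem toLau_smul (r : R) (p : MvPolynomial (Fin (n + 1)) R) : toLau (r • p) = r • toLau p := by
  rw [smul_eq_C_mul, map_mul, show (C r : MvPolynomial (Fin (n + 1)) R) = monomial 0 r from rfl,
    toLau_monomial, map_zero]
  ext e
  simp

variable (n R) in
/-- Polynomials of degree `d` as Laurent polynomials without negative exponents. -/
def polyLau (d : ℕ) :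
    MvPolynomial.homogeneousSubmodule (Fin (n + 1)) R d →ₗ[R] lauPart (n := n) R (d : ℤ) ∅ where
  toFun p := ⟨toLau p.1, fun e he => by
    obtain ⟨m, hm, rfl⟩ := mem_range_of_mem_support_toLau he
    refine ⟨?_, fun i hi => absurd hi (by simp [castExpo_apply])⟩
    have := (mem_homogeneousSubmodule d p.1).mp p.2 (mem_support_iff.mp hm)
    rw [Finsupp.weight_apply, Finsupp.sum_fintype _ _ (fun i => by simp)] at this
    simp only [Pi.one_apply, smul_eq_mul, mul_one] at this
    simp only [castExpo_apply]
    exact_mod_cast this⟩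
  map_add' p q := Subtype.ext (map_add toLau p.1 q.1)
  map_smul' r p := Subtype.ext (toLau_smul r p.1)

theorem polyLau_bijective (d : ℕ) : Function.Bijective (polyLau n R d) := by
  refine ⟨fun p q h => Subtype.ext (toLau_injective (congrArg Subtype.val h)), fun v => ?_⟩
  let p : MvPolynomial (Fin (n + 1)) R :=
    AddMonoidAlgebra.ofCoeff (v.1.coeff.comapDomain castExpo castExpo_injective.injOn)
  have hp : ∀ m, p.coeff m = v.1.coeff (castExpo m) := fun m => rfl
  have hnat : ∀ e ∈ v.1.coeff.support, ∃ m, castExpo m = e := fun e he =>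
    ⟨Finsupp.equivFunOnFinite.symm fun i => (e i).toNat, funext fun i => by
      have : 0 ≤ e i := by
        by_contra hneg
        push Not at hneg
        exact Finset.notMem_empty i ((v.2 e he).2 i hneg)
      simp [castExpo_apply]; omega⟩
  refine ⟨⟨p, (mem_homogeneousSubmodule d p).mpr fun m hm => ?_⟩, Subtype.ext ?_⟩
  · rw [hp] at hm
    have := (v.2 _ (Finsupp.mem_support_iff.mpr hm)).1
    simp only [castExpo_apply] at this
    rw [Finsupp.weight_apply, Finsupp.sum_fintype _ _ (fun i => by simp)]
    simp only [Pi.one_apply, smul_eq_mul, mul_one]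
    exact_mod_cast this
  · refine AddMonoidAlgebra.ext (Finsupp.ext fun e => ?_)
    show (toLau p).coeff e = v.1.coeff e
    by_cases he : ∃ m, castExpo m = e
    · obtain ⟨m, rfl⟩ := he
      rw [coeff_toLau, hp]
    · rw [Finsupp.notMem_support_iff.mp fun h =>
          he (let ⟨m, _, h'⟩ := mem_range_of_mem_support_toLau h; ⟨m, h'⟩),
        Finsupp.notMem_support_iff.mp fun h => he (hnat e h)]

/-- `H^0(P^n_R, O(d))` for `n ≥ 1` or `d ≥ 0`. -/
def h0LauEquiv (h : 1 ≤ n ∨ 0 ≤ d) :
    lauPart (n := n) R d ∅ ≃ₗ[R] Coh.HH (CohB1.ProjSpace n R) (twistProjSpace n R d) 0 :=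
  (LinearEquiv.ofBijective constCoc (constCoc_bijective h)).trans
    (LinearEquiv.ofBijective (classHom n R d 0) ⟨classHom_zero_injective, classHom_surjective 0⟩)

/-- `H^0(P^n_R, O(d))` is the module of forms of degree `d`. -/
def h0Equiv (n : ℕ) (R : Type u) [CommRing R] (d : ℕ) :
    MvPolynomial.homogeneousSubmodule (Fin (n + 1)) R d ≃ₗ[R]
      Coh.HH (CohB1.ProjSpace n R) (twistProjSpace n R (d : ℤ)) 0 :=
  (LinearEquiv.ofBijective (polyLau n R d) (polyLau_bijective d)).trans
    (h0LauEquiv (Or.inr (Int.natCast_nonneg d)))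

theorem lauPart_empty_eq_bot (hd : d < 0) : lauPart (n := n) R d ∅ = ⊥ := by
  refine eq_bot_iff.mpr fun v hv => ?_
  rw [Submodule.mem_bot]
  refine AddMonoidAlgebra.ext (Finsupp.ext fun e => ?_)
  show v.coeff e = 0
  by_contra he
  have h := hv e (Finsupp.mem_support_iff.mpr he)
  have : 0 ≤ ∑ i, e i := Finset.sum_nonneg fun i _ => by
    by_contra hneg
    push Not at hneg
    exact Finset.notMem_empty i (h.2 i hneg)
  rw [h.1] at this
  omega

/-- `H^0(P^n_R, O(d)) = 0` for `d < 0`, `n ≥ 1`. -/
theorem subsingleton_H0 (hn : 1 ≤ n) (hd : d < 0) :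
    Subsingleton (Coh.HH (CohB1.ProjSpace n R) (twistProjSpace n R d) 0) := by
  have : Subsingleton (lauPart (n := n) R d ∅) := by
    rw [lauPart_empty_eq_bot hd]; infer_instance
  exact (h0LauEquiv (R := R) (d := d) (Or.inl hn)).symm.toEquiv.subsingleton

/-- `H^0(P^n_R, O(d))` is finite. -/
theorem finite_twist_zero [IsNoetherianRing R] (d : ℤ) :
    Module.Finite R (Coh.HH (CohB1.ProjSpace n R) (twistProjSpace n R d) 0) := by
  have hfin : ∀ d : ℕ, Module.Finite R (MvPolynomial.homogeneousSubmodule (Fin (n + 1)) R d) := by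
    intro d
    have hle : (MvPolynomial.homogeneousSubmodule (Fin (n + 1)) R d) ≤
        MvPolynomial.restrictTotalDegree (Fin (n + 1)) R d := fun p hp =>
      (mem_restrictTotalDegree _ _ p).mpr ((mem_homogeneousSubmodule d p).mp hp).totalDegree_le
    have : Finite {m : Fin (n + 1) →₀ ℕ | (m.sum fun _ e => e) ≤ d} :=
      (Finsupp.finite_of_degree_le d).to_subtype
    have : Module.Finite R (MvPolynomial.restrictTotalDegree (Fin (n + 1)) R d) :=
      Module.Finite.of_basis (MvPolynomial.basisRestrictSupport R _)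
    exact Module.Finite.of_injective (Submodule.inclusion hle) (Submodule.inclusion_injective _)
  rcases le_or_gt 0 d with hd | hd
  · obtain ⟨d, rfl⟩ := Int.eq_ofNat_of_zero_le hd
    have := hfin d
    exact Module.Finite.equiv (h0Equiv n R d)
  rcases Nat.eq_zero_or_pos n with rfl | hn
  · let φ : R →ₗ[R] cocL 0 R d 0 :=
      { toFun := fun r => ⟨fun _ => AddMonoidAlgebra.single (fun _ => d) r, fun t e he => by
            obtain rfl := Finset.mem_singleton.mp (Finsupp.support_single_subset he)
            exact ⟨by simp, fun i _ => Finset.mem_image.mpr ⟨0, Finset.mem_univ _,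
              Subsingleton.elim (α := Fin 1) _ _⟩⟩, fun t => by simp [tupD, Fin.sum_univ_two]⟩
        map_add' := fun a b => Subtype.ext (funext fun _ => AddMonoidAlgebra.single_add _ _ _)
        map_smul' := fun a b => Subtype.ext (funext fun _ =>
          (AddMonoidAlgebra.smul_single a (fun _ => d) b).symm) }
    refine Module.Finite.of_surjective ((classHom 0 R d 0).comp φ)
      ((classHom_surjective 0).comp fun f => ⟨(f.1 fun _ => 0).coeff fun _ => d, ?_⟩)
    refine Subtype.ext (funext fun t => AddMonoidAlgebra.ext (Finsupp.ext fun e => ?_))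
    show (AddMonoidAlgebra.single (fun _ => d) ((f.1 fun _ => 0).coeff fun _ => d)).coeff e =
      (f.1 t).coeff e
    rw [show t = fun _ => (0 : Fin 1) from funext fun _ => Subsingleton.elim (α := Fin 1) _ _]
    by_cases he : e = fun _ => d
    · subst he; simp
    · have h0 : (f.1 fun _ => 0).coeff e = 0 := by
        by_contra hne
        have h := (f.2.1 (fun _ => 0) e (Finsupp.mem_support_iff.mpr hne)).1
        exact he (funext fun i => by
          rw [Subsingleton.elim (α := Fin 1) i 0]; simpa using h)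
      simp [Ne.symm he, h0]
  · haveI := subsingleton_H0 (R := R) hn hd
    infer_instance

end Groth.Agent.ProjTwist.Pn
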