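import Groth.Agent.CohTop.Vanishing
import Groth.Agent.CohDev.Coh
import Groth.Agent.ProjTwist.Pn.PointSupport

/-!
Cohomology vanishes above the dimension of the support.
-/

set_option autoImplicit false

open CategoryTheory CategoryTheory.Limits AlgebraicGeometry TopologicalSpace Opposite

universe u

noncomputable section

namespace Groth.Agent.ProjTwist.Pn

variable {X : Scheme.{u}}

open Groth.Agent.CohTop.Basic Groth.Agent.CohTop.Vanishing in
theorem subsingleton_of_supportDim_le [NoetherianSpace X] {M : X.Modules} (hM : Coh.IsCoh M) (d : ℕ)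
    (h : topologicalKrullDim (CohB1.support M) ≤ d) (q : ℕ) (hq : d < q) :
    Subsingleton (Coh.HH X M q) := by
  haveI : NoetherianSpace X.toTopCat := ‹NoetherianSpace X›
  let Z : Closeds X.toTopCat := ⟨CohB1.support M, CohDev.isClosed_support hM⟩
  have hb : Bound (Z : Set X.toTopCat) (d + 1) := fun T hT => by
    refine lt_of_le_of_lt ?_ (show ((d : ℕ) : ℕ∞) < ((d + 1 : ℕ) : ℕ∞) by exact_mod_cast Nat.lt_succ_self d)
    refine Order.height_le fun l hl => ?_
    have hsub : ∀ i, (l i : Set X.toTopCat) ⊆ CohB1.support M := fun i x hx =>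
      hT (hl ▸ ((show l i ≤ l.last from l.monotone (Fin.le_last i)) hx))
    have hirr : ∀ i, IsIrreducible (Subtype.val ⁻¹' (l i : Set X.toTopCat) : Set (CohB1.support M)) := fun i => by
      refine ⟨?_, ?_⟩
      · obtain ⟨x, hx⟩ := (l i).isIrreducible.1
        exact ⟨⟨x, hsub i hx⟩, hx⟩
      · intro u v hu hv hut hvt
        obtain ⟨U, hU, rfl⟩ := isOpen_induced_iff.1 hu
        obtain ⟨V, hV, rfl⟩ := isOpen_induced_iff.1 hv
        obtain ⟨a, ha, ha'⟩ := hut
        obtain ⟨b, hb', hb''⟩ := hvt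
        obtain ⟨x, hx, hxUV⟩ := (l i).isIrreducible.2 U V hU hV ⟨a.1, ha, ha'⟩ ⟨b.1, hb', hb''⟩
        exact ⟨⟨x, hsub i hx⟩, hx, hxUV⟩
    let pre : Fin (l.length + 1) → IrreducibleCloseds (CohB1.support M) := fun i =>
      ⟨Subtype.val ⁻¹' (l i : Set X.toTopCat), hirr i, (l i).isClosed.preimage continuous_subtype_val⟩
    have hpre : StrictMono pre := fun i j hij => by
      refine lt_of_le_of_ne (fun x hx => (l.strictMono hij).le hx) fun e => ?_
      refine (l.strictMono hij).ne (SetLike.ext' (Set.Subset.antisymm (l.strictMono hij).le fun x hx => ?_))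
      exact (Set.ext_iff.1 (congrArg SetLike.coe e) ⟨x, hsub j hx⟩).2 hx
    have hle : (l.length : WithBot ℕ∞) ≤ ((d : ℕ) : WithBot ℕ∞) :=
      le_trans (Order.LTSeries.length_le_krullDim (LTSeries.mk l.length pre hpre)) h
    exact_mod_cast hle
  have hs : Supp (Z : Set X.toTopCat) (Coh.toAb M) := fun V hV s => by
    refine TopCat.Presheaf.section_ext (⟨M.presheaf, M.isSheaf⟩ : TopCat.Sheaf AddCommGrpCat X)
      V s 0 fun y hy => ?_
    have : Subsingleton (M.presheaf.stalk y) := by
      by_contra hn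
      exact Set.disjoint_left.1 hV hy hn
    exact Subsingleton.elim _ _
  have := van_of_supp Z (d + 1) hb (Coh.toAb M) hs q hq
  exact (HEquivHUTop (X := X.toTopCat) (Coh.toAb M) q).injective.subsingleton

end Groth.Agent.ProjTwist.Pn
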