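import Groth.Agent.ProjTwist.Pn.Boundedness
import Groth.Agent.HilbPolyX.Ample
import Groth.Agent.Props.AmpleTwist

/-!
Growth of the cohomology of negative twists on projective space, and non-vanishing in the dimension
of the support.
-/

set_option autoImplicit false

open CategoryTheory CategoryTheory.Limits AlgebraicGeometry TopologicalSpace Opposite
open Polynomial

universe u

noncomputable section

namespace Groth.Agent.ProjTwist.Pn

open Twist

variable {n : ℕ} {k : Type u} [Field k]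

theorem finrank_X₁_succ_le {X : Scheme.{u}} [X.Over (Spec (CommRingCat.of k))]
    (T : X.Modules ⥤ X.Modules) [T.PreservesZeroMorphisms] {S : ShortComplex X.Modules}
    (hS : (S.map T).ShortExact) (i : ℕ) [Module.Finite k (Coh.HH X (T.obj S.X₁) (i + 1))]
    [Module.Finite k (Coh.HH X (T.obj S.X₂) (i + 1))] [Module.Finite k (Coh.HH X (T.obj S.X₃) i)] :
    Module.finrank k (Coh.HH X (T.obj S.X₁) (i + 1)) ≤
      Module.finrank k (Coh.HH X (T.obj S.X₂) (i + 1)) + Module.finrank k (Coh.HH X (T.obj S.X₃) i) := by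
  have : Module.Finite k (Coh.HH X (S.map T).X₁ (i + 1)) := ‹_›
  have : Module.Finite k (Coh.HH X (S.map T).X₂ (i + 1)) := ‹_›
  have : Module.Finite k (Coh.HH X (S.map T).X₃ i) := ‹_›
  change Module.finrank k (Coh.HH X (S.map T).X₁ (i + 1)) ≤
    Module.finrank k (Coh.HH X (S.map T).X₂ (i + 1)) + Module.finrank k (Coh.HH X (S.map T).X₃ i)
  have he := CurveCoh.exact_deltaL_mapL k hS i (i + 1) rfl
  have h1 := LinearMap.finrank_range_add_finrank_ker (CurveCoh.mapL k (S.map T).f (i + 1))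
  rw [LinearMap.exact_iff.mp he] at h1
  have h2 := Submodule.finrank_le (LinearMap.range (CurveCoh.mapL k (S.map T).f (i + 1)))
  have h3 := LinearMap.finrank_range_le (CurveCoh.deltaL k hS i (i + 1) rfl)
  omega

/-- `hⁱ(F(t))` -/
def hTw (F : (CohB1.ProjSpace n k).Modules) (t : ℤ) (i : ℕ) : ℕ :=
  Module.finrank k (Coh.HH (CohB1.ProjSpace n k) (twF F t) i)

theorem finrank_hh_iso {X : Scheme.{u}} [X.Over (Spec (CommRingCat.of k))] {M N : X.Modules}
    (e : M ≅ N) (i : ℕ) :
    Module.finrank k (Coh.HH X M i) = Module.finrank k (Coh.HH X N i) := by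
  have h : ∀ {M N : X.Modules} (e : M ≅ N) (x : Coh.HH X M i),
      CurveCoh.mapL k e.inv i (CurveCoh.mapL k e.hom i x) = x := fun {M N} e x => by
    show Sheaf.H.map _ i (Sheaf.H.map _ i x) = x
    rw [← Sheaf.H.map_comp_apply, ← Functor.map_comp, e.hom_inv_id, CategoryTheory.Functor.map_id,
      Sheaf.H.map_id_apply]
  exact LinearEquiv.finrank_eq (LinearEquiv.ofBijective (CurveCoh.mapL k e.hom i)
    ⟨fun x y hxy => (h e x).symm.trans ((congrArg _ hxy).trans (h e y)), fun y => ⟨_, h e.symm y⟩⟩)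

theorem hTw_twF (F : (CohB1.ProjSpace n k).Modules) (a t c : ℤ) (h : a + t = c) (i : ℕ) :
    hTw (twF F a) t i = hTw F c i :=
  finrank_hh_iso (twTw F a t c h) i

/-- `hⁱ(G(-s)) = O(sⁱ)`. -/
theorem exists_hTw_neg_le [Infinite k] : ∀ (i : ℕ) (G : (CohB1.ProjSpace n k).Modules),
    Coh.IsCoh G → ∃ C : ℕ, ∀ s : ℕ, hTw G (-(s : ℤ)) i ≤ C * (s + 1) ^ i := by
  intro i
  induction i with
  | zero =>
    intro G hG
    obtain ⟨τ, hmono, -⟩ := exists_hyperSection (fun _ : Unit => G) (fun _ => hG)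
    have := hmono ()
    let S := ShortComplex.mk (τ.app G) (cokernel.π (τ.app G)) (cokernel.condition _)
    have hS : S.ShortExact :=
      ShortComplex.ShortExact.mk' (ShortComplex.exact_cokernel _) (hmono ())
        (inferInstanceAs (Epi (cokernel.π (τ.app G))))
    refine ⟨hTw G 0 0, fun s => ?_⟩
    rw [pow_zero, mul_one]
    induction s with
    | zero => exact le_rfl
    | succ s ih =>
      refine le_trans ?_ ih
      have h : h0Tw (twF G (-1)) (-(s : ℤ)) ≤ h0Tw G (-(s : ℤ)) :=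
        h0Tw_le_of_mono hS hG (-(s : ℤ))
      exact (hTw_twF G (-1) (-(s : ℤ)) _ (by push_cast; ring) 0).symm.le.trans h
  | succ i ih =>
    intro G hG
    obtain ⟨τ, hmono, -⟩ := exists_hyperSection (fun _ : Unit => G) (fun _ => hG)
    have := hmono ()
    have := isLocallyNoetherian_projSpace n k
    let G' := cokernel (τ.app G)
    have hG' : Coh.IsCoh G' := CohDev.isCoh_cokernel _ (isCoh_tw hG (-1)).1 hG
    let S := ShortComplex.mk (τ.app G) (cokernel.π (τ.app G)) (cokernel.condition _)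
    have hS : S.ShortExact :=
      ShortComplex.ShortExact.mk' (ShortComplex.exact_cokernel _) (hmono ())
        (inferInstanceAs (Epi (cokernel.π (τ.app G))))
    obtain ⟨C, hC⟩ := ih G' hG'
    refine ⟨hTw G 0 (i + 1) + C, fun s => ?_⟩
    induction s with
    | zero => simp
    | succ s ihs =>
      have h : hTw (twF G (-1)) (-(s : ℤ)) (i + 1) ≤
          hTw G (-(s : ℤ)) (i + 1) + hTw G' (-(s : ℤ)) i :=
        @finrank_X₁_succ_le k _ (CohB1.ProjSpace n k) _ (twFun n k (-(s : ℤ))) _ S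
          (shortExact_tw hS _) i (finite_hh (isCoh_tw (isCoh_tw hG (-1)) _) _)
          (finite_hh (isCoh_tw hG _) _) (finite_hh (isCoh_tw hG' _) _)
      rw [hTw_twF G (-1) (-(s : ℤ)) (-((s + 1 : ℕ) : ℤ)) (by push_cast; ring) (i + 1)] at h
      refine h.trans ((add_le_add ihs (hC s)).trans ?_)
      have h1 : C * (s + 1) ^ i ≤ (hTw G 0 (i + 1) + C) * (s + 1) ^ i :=
        Nat.mul_le_mul_right _ (Nat.le_add_left _ _)
      have h2 : (s + 1 + 1) * (s + 1) ^ i ≤ (s + 1 + 1) ^ (i + 1) := by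
        rw [pow_succ, mul_comm]
        exact Nat.mul_le_mul_right _ (Nat.pow_le_pow_left (by omega) i)
      have h3 := Nat.mul_le_mul_left (hTw G 0 (i + 1) + C) h2
      have h4 : (hTw G 0 (i + 1) + C) * ((s + 1 + 1) * (s + 1) ^ i) =
          (hTw G 0 (i + 1) + C) * (s + 1) ^ (i + 1) + (hTw G 0 (i + 1) + C) * (s + 1) ^ i := by ring
      omega

theorem isAmple_one : CohB1.IsAmple (twistProjSpace n k 1) := by
  have := Props.AmpleTwist.compactSpace n k
  exact Props.AmpleTwist.isAmple_twist (𝒜 := CohB1.polyGrading n k) (D := 1) Nat.one_pos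
    (fun i : ULift.{u} (Fin (n + 1)) => Props.AmpleTwist.X_pow_mem n k 1 i.down)
    (Props.AmpleTwist.iSup_basicOpen_X_pow n k Nat.one_pos)

theorem tensorPow_one_iso (m : ℕ) :
    Nonempty (CohB1.tensorPow (twistProjSpace n k 1) m ≅ twistProjSpace n k (m : ℤ)) := by
  induction m with
  | zero => exact ⟨ProjTwist.twistZeroIso _⟩
  | succ m ih =>
    obtain ⟨e⟩ := ih
    exact ⟨tensCongr e (Iso.refl _) ≪≫ (nonempty_twistProjSpace_tensor n k (m : ℤ) 1).some⟩

theorem chi_eq_hilb {F : (CohB1.ProjSpace n k).Modules} {P : ℚ[X]}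
    (hP : ShStab.IsHilbPoly k (CohB1.ProjSpace n k) (twistProjSpace n k 1) F P) (m : ℕ) :
    (chi F (m : ℤ) : ℚ) = P.eval (m : ℚ) := by
  have : IsProper (CohB1.ProjSpace n k ↘ Spec (CommRingCat.of k)) := ProjProper.Basic.isProper_toSpec n k
  obtain ⟨e⟩ := tensorPow_one_iso (n := n) (k := k) m
  rw [← hP m, chi]
  exact congrArg (fun z : ℤ => (z : ℚ))
    (EulerChar.euler_iso k (tensCongr (Iso.refl F) e.symm : twF F (m : ℤ) ≅ ShStab.twist _ _ F m))

/-- The Hilbert polynomial computes the Euler characteristic of every twist. -/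
theorem exists_chi_poly {F : (CohB1.ProjSpace n k).Modules} (hF : Coh.IsCoh F) :
    ∃ P : ℚ[X], ShStab.IsHilbPoly k (CohB1.ProjSpace n k) (twistProjSpace n k 1) F P ∧
      ∀ s : ℕ, (chi F (-(s : ℤ)) : ℚ) = P.eval (-(s : ℚ)) := by
  have : IsProper (CohB1.ProjSpace n k ↘ Spec (CommRingCat.of k)) := ProjProper.Basic.isProper_toSpec n k
  obtain ⟨P, hP⟩ := HilbPolyX.exists_hilbPoly k isAmple_one.1 hF
  refine ⟨P, hP, fun s => ?_⟩
  obtain ⟨Q, hQ⟩ := HilbPolyX.exists_hilbPoly k isAmple_one.1 (isCoh_tw hF (-(s : ℤ)))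
  have he : Q.comp (X + C (s : ℚ)) = P := by
    refine HilbPolyX.poly_ext fun m => ?_
    rw [eval_comp, eval_add, eval_X, eval_C, show (m : ℚ) + (s : ℚ) = ((m + s : ℕ) : ℚ) by push_cast; ring,
      ← chi_eq_hilb hQ, ← chi_eq_hilb hP, chi_tw]
    push_cast
    rw [neg_add_cancel_comm_assoc]
  have h0 := chi_eq_hilb hQ 0
  rw [chi_tw, Nat.cast_zero, add_zero] at h0
  rw [h0, ← he, eval_comp, eval_add, eval_X, eval_C, neg_add_cancel, Nat.cast_zero]

/-- Some twist has non-vanishing cohomology in the dimension of the support. -/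
theorem exists_nontrivial_top [Infinite k] {G : (CohB1.ProjSpace n k).Modules} (hG : Coh.IsCoh G)
    {a : ℕ} (ha : 1 ≤ a) (hdim : topologicalKrullDim (CohB1.support G) = (a : WithBot ℕ∞)) :
    ∃ m : ℤ, Nontrivial (Coh.HH (CohB1.ProjSpace n k) (twF G m) a) := by
  classical
  by_contra! hcon
  have := isLocallyNoetherian_projSpace n k
  have : IsProper (CohB1.ProjSpace n k ↘ Spec (CommRingCat.of k)) := ProjProper.Basic.isProper_toSpec n k
  have : CompactSpace (CohB1.ProjSpace n k) := EulerChar.compactSpace k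
  have : IsNoetherian (CohB1.ProjSpace n k) := {}
  choose B hB using fun i => exists_hTw_neg_le i G hG
  let K := ∑ i ∈ Finset.range a, B i
  obtain ⟨P, hP, hchi⟩ := exists_chi_poly hG
  have hlead := HilbPolyX.coeff_pos k isAmple_one a hG hP hdim
  have hdeg : P.natDegree = a := by
    refine le_antisymm ?_ (le_natDegree_of_ne_zero hlead.ne')
    refine natDegree_le_iff_coeff_eq_zero.mpr fun i hi => ?_
    refine HilbPolyX.coeff_eq_zero k isAmple_one.1 hG hP (n := a + 1) ?_ hi
    rw [hdim]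
    exact_mod_cast Nat.lt_succ_self a
  have hbound : ∀ s : ℕ, |(chi G (-(s : ℤ)) : ℚ)| ≤ (K : ℚ) * ((s : ℚ) + 1) ^ (a - 1) := by
    intro s
    have hvan : ∀ i, a ≤ i → Subsingleton (Coh.HH (CohB1.ProjSpace n k) (twF G (-(s : ℤ))) i) := by
      intro i hi
      rcases hi.eq_or_lt with rfl | hlt
      · exact hcon _
      · exact subsingleton_of_supportDim_le (isCoh_tw hG _) a
          ((topologicalKrullDim_support_twF_le G _).trans hdim.le) i hlt
    rw [chi, EulerChar.euler_eq_sum k hvan]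
    push_cast
    refine (Finset.abs_sum_le_sum_abs _ _).trans ?_
    simp only [K, Nat.cast_sum, Finset.sum_mul]
    refine Finset.sum_le_sum fun i hi => ?_
    rw [abs_mul, abs_pow, abs_neg, abs_one, one_pow, one_mul, Nat.abs_cast]
    have h1 : ((hTw G (-(s : ℤ)) i : ℕ) : ℚ) ≤ ((B i * (s + 1) ^ i : ℕ) : ℚ) := by
      exact_mod_cast hB i s
    refine h1.trans ?_
    push_cast
    refine mul_le_mul_of_nonneg_left (pow_le_pow_right₀ (by linarith [(s.cast_nonneg : (0 : ℚ) ≤ s)]) ?_)
      (Nat.cast_nonneg _)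
    have := Finset.mem_range.mp hi
    omega
  let Q : ℚ[X] := P.comp (-X)
  let W : ℚ[X] := C (K : ℚ) * (X + C 1) ^ (a - 1)
  have hQdeg : (Q * Q).natDegree = a + a := by
    have hQ0 : Q.natDegree = a := by simp [Q, natDegree_comp, hdeg]
    have hQne : Q ≠ 0 := fun h => by rw [h, natDegree_zero] at hQ0; omega
    rw [natDegree_mul hQne hQne, hQ0]
  have hWdeg : (W * W).natDegree < a + a := by
    have h2 : W.natDegree ≤ a - 1 := by
      refine (natDegree_C_mul_le _ _).trans (natDegree_pow_le.trans ?_)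
      rw [natDegree_X_add_C, mul_one]
    have h3 := natDegree_mul_le (p := W) (q := W)
    omega
  have hd : (W * W).degree < (Q * Q).degree := by
    refine lt_of_le_of_lt degree_le_natDegree ?_
    rw [degree_eq_natDegree (fun h => by rw [h, natDegree_zero] at hQdeg; omega), hQdeg]
    exact_mod_cast hWdeg
  have hR : Filter.Tendsto (fun x : ℚ => (Q * Q - W * W).eval x) Filter.atTop Filter.atTop := by
    refine tendsto_atTop_of_leadingCoeff_nonneg _ ?_ ?_
    · rw [degree_sub_eq_left_of_degree_lt hd,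
        degree_eq_natDegree (fun h => by rw [h, natDegree_zero] at hQdeg; omega), hQdeg]
      exact_mod_cast (by omega : 0 < a + a)
    · rw [leadingCoeff_sub_of_degree_lt hd, leadingCoeff_mul]
      exact mul_self_nonneg _
  obtain ⟨s, hs⟩ := ((hR.comp tendsto_natCast_atTop_atTop).eventually_gt_atTop 0).exists
  have h := hbound s
  rw [hchi s] at h
  simp only [Function.comp_apply, eval_sub, eval_mul, Q, W, eval_comp, eval_neg, eval_X, eval_C,
    eval_pow, eval_add] at hs
  have h2 := mul_self_le_mul_self (abs_nonneg _) h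
  rw [abs_mul_abs_self] at h2
  linarith

end Groth.Agent.ProjTwist.Pn
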