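import Mathlib.Algebra.BigOperators.Fin
import Mathlib.Algebra.Ring.Parity
import Mathlib.Data.Fintype.BigOperators
import Mathlib.Algebra.Group.Pi.Lemmas
import Mathlib.Algebra.Module.BigOperators
import Mathlib.Tactic.Ring
import Mathlib.Data.Fin.Parity

/-!
Cochains on tuples: the cone contraction, and acyclicity of cochains supported on tuples with a
prescribed image.
-/

noncomputable section

namespace Groth.Agent.ProjTwist.Pn

open Finset

variable {ι M : Type*} [AddCommGroup M]

/-- The Čech differential on cochains on tuples. -/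
def tupD {q : ℕ} (f : (Fin q → ι) → M) (t : Fin (q + 1) → ι) : M :=
  ∑ k : Fin (q + 1), (-1 : ℤ) ^ (k : ℕ) • f (t ∘ k.succAbove)

theorem tupD_sub {q : ℕ} (f g : (Fin q → ι) → M) (t : Fin (q + 1) → ι) :
    tupD (f - g) t = tupD f t - tupD g t := by
  simp [tupD, smul_sub, Finset.sum_sub_distrib]

theorem tupD_cons {q : ℕ} (f : (Fin (q + 1) → ι) → M) (j : ι) (t : Fin (q + 1) → ι) :
    tupD f (Fin.cons j t) =
      f t - ∑ k : Fin (q + 1), (-1 : ℤ) ^ (k : ℕ) • f (Fin.cons j (t ∘ k.succAbove)) := by
  have h0 : (Fin.cons j t : Fin (q + 2) → ι) ∘ (0 : Fin (q + 2)).succAbove = t := by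
    funext i; simp
  have hs : ∀ k : Fin (q + 1), (Fin.cons j t : Fin (q + 2) → ι) ∘ k.succ.succAbove =
      Fin.cons j (t ∘ k.succAbove) := by
    intro k; funext i
    induction i using Fin.cases with
    | zero => simp
    | succ i => simp [Fin.succ_succAbove_succ]
  rw [tupD, Fin.sum_univ_succ, h0, sub_eq_add_neg, ← Finset.sum_neg_distrib]
  simp [hs, pow_succ, mul_comm]

/-- Cone contraction: a cocycle is the coboundary of its cone at `j`. -/
theorem eq_tupD_cone {q : ℕ} (f : (Fin (q + 1) → ι) → M) (j : ι) (t : Fin (q + 1) → ι)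
    (h : tupD f (Fin.cons j t) = 0) : f t = tupD (fun s => f (Fin.cons j s)) t := by
  rw [tupD_cons, sub_eq_zero] at h
  exact h

theorem succAbove_comp_comm {q : ℕ} (k : Fin (q + 2)) (l : Fin (q + 1)) (t : Fin (q + 2) → ι) :
    (t ∘ k.succAbove) ∘ l.succAbove =
      (t ∘ (k.succAbove l).succAbove) ∘ (l.predAbove k).succAbove := by
  funext i
  simp [Fin.succAbove_succAbove_succAbove_predAbove]

/-- The differential squares to zero. -/
theorem tupD_tupD {q : ℕ} (f : (Fin q → ι) → M) (t : Fin (q + 2) → ι) : tupD (tupD f) t = 0 := by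
  simp only [tupD, Finset.smul_sum, smul_smul]
  rw [← Finset.sum_product' (f := fun (k : Fin (q + 2)) (l : Fin (q + 1)) =>
    ((-1 : ℤ) ^ (k : ℕ) * (-1 : ℤ) ^ (l : ℕ)) • f ((t ∘ k.succAbove) ∘ l.succAbove))]
  refine Finset.sum_involution (fun p _ => (p.1.succAbove p.2, p.2.predAbove p.1)) ?_ ?_ ?_ ?_
  · rintro ⟨k, l⟩ -
    dsimp only
    rw [← succAbove_comp_comm, ← pow_add, ← pow_add, Fin.neg_one_pow_succAbove_add_predAbove]
    simp
  · rintro ⟨k, l⟩ - -
    exact fun h => Fin.succAbove_ne k l (congrArg Prod.fst h)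
  · intro p _; simp
  · rintro ⟨k, l⟩ -
    simp [Fin.succAbove_succAbove_predAbove, Fin.predAbove_predAbove_succAbove]

variable [DecidableEq ι]

/-- The set of entries of a tuple. -/
def tupImage {q : ℕ} (t : Fin q → ι) : Finset ι := Finset.univ.image t

theorem tupImage_comp_subset {q p : ℕ} (t : Fin q → ι) (g : Fin p → Fin q) :
    tupImage (t ∘ g) ⊆ tupImage t := by
  intro x hx
  obtain ⟨i, -, rfl⟩ := Finset.mem_image.mp hx
  exact Finset.mem_image.mpr ⟨g i, Finset.mem_univ _, rfl⟩

theorem tupImage_cons {q : ℕ} (j : ι) (t : Fin q → ι) :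
    tupImage (Fin.cons j t) = insert j (tupImage t) := by
  ext x
  simp only [tupImage, Finset.mem_image, Finset.mem_univ, true_and, Finset.mem_insert]
  rw [Fin.exists_fin_succ]
  simp [eq_comm]

theorem card_tupImage_le {q : ℕ} (t : Fin q → ι) : (tupImage t).card ≤ q :=
  Finset.card_image_le.trans (by simp)

theorem tupImage_nonempty {q : ℕ} (t : Fin (q + 1) → ι) : (tupImage t).Nonempty :=
  ⟨t 0, Finset.mem_image.mpr ⟨0, Finset.mem_univ _, rfl⟩⟩

theorem tupD_const {q : ℕ} (f : (Fin q → ι) → M) (s : ι) :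
    tupD f (fun _ => s) = if Even q then f (fun _ => s) else 0 := by
  have : ∀ k : Fin (q + 1), (fun _ : Fin (q + 1) => s) ∘ k.succAbove = fun _ => s := fun k => rfl
  simp only [tupD, this, ← Finset.sum_smul]
  rw [Fin.sum_neg_one_pow]
  rcases Nat.even_or_odd q with h | h
  · simp [h, Nat.even_add_one]
  · simp [Nat.not_even_iff_odd.mpr h, Nat.even_add_one]

/-- Cochains supported on tuples with image exactly `S` are acyclic outside degree `|S| - 1`. -/
theorem exists_tupD_eq_of_exact_support (S : Finset ι) (hS : S.Nonempty) :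
    ∀ (q : ℕ), q + 2 ≠ S.card → ∀ (f : (Fin (q + 2) → ι) → M),
      (∀ t, tupImage t ≠ S → f t = 0) → (∀ t, tupImage t ⊆ S → tupD f t = 0) →
      ∃ g : (Fin (q + 1) → ι) → M,
        (∀ t, tupImage t ≠ S → g t = 0) ∧ ∀ t, tupImage t ⊆ S → tupD g t = f t := by
  induction hn : S.card using Nat.strong_induction_on generalizing S with
  | _ N ih =>
  intro q hq f hf hd
  obtain ⟨j, hj⟩ := hS
  rcases Nat.lt_or_ge 1 N with hN | hN
  swap
  · have hSj : S = {j} := (Finset.eq_singleton_iff_unique_mem).mpr
      ⟨hj, fun x hx => Finset.card_le_one.mp (hn ▸ hN) x hx j hj⟩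
    subst hSj
    have himg : ∀ {p : ℕ} (t : Fin (p + 1) → ι), tupImage t ⊆ {j} → t = fun _ => j :=
      fun t ht => funext fun i => by
        simpa using ht (Finset.mem_image.mpr ⟨i, Finset.mem_univ _, rfl⟩)
    have hconst : ∀ p : ℕ, tupImage (fun _ : Fin (p + 1) => j) = {j} := fun p => by
      ext x; simp [tupImage, eq_comm]
    refine ⟨fun t => if tupImage t = {j} then f (fun _ => j) else 0,
      fun t ht => if_neg ht, fun t ht => ?_⟩
    obtain rfl := himg t ht
    rw [tupD_const, if_pos (hconst q)]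
    have h2 := hd (fun _ => j) (hconst (q + 2)).le
    rw [tupD_const] at h2
    rcases Nat.even_or_odd q with he | ho
    · rw [if_pos (by simpa [Nat.even_add] using he)] at h2
      rw [h2, if_neg (by simpa [Nat.even_add_one] using he)]
    · rw [if_pos (by simpa [Nat.even_add_one] using ho)]
  set S' := S.erase j with hS'
  have hcard : S'.card + 1 = N := by rw [hS', Finset.card_erase_add_one hj, hn]
  have hS'ne : S'.Nonempty := Finset.card_pos.mp (by omega)
  have hsub : S' ⊆ S := Finset.erase_subset _ _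
  have hjS' : j ∉ S' := Finset.notMem_erase _ _
  have hne : S' ≠ S := fun e => hjS' (e ▸ hj)
  have hins : insert j S' = S := Finset.insert_erase hj
  set g₀ : (Fin (q + 1) → ι) → M := fun s => f (Fin.cons j s) with hg₀
  have hg₀supp : ∀ t, tupImage t ⊆ S → g₀ t ≠ 0 → S' ⊆ tupImage t := by
    intro t _ ht x hx
    have h1 : tupImage (Fin.cons j t : Fin (q + 2) → ι) = S := by
      by_contra h; exact ht (hf _ h)
    have : x ∈ insert j (tupImage t) := by rw [← tupImage_cons, h1]; exact hsub hx
    exact (Finset.mem_insert.mp this).resolve_left (fun e => hjS' (e ▸ hx))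
  have hdg₀ : ∀ t : Fin (q + 2) → ι, tupImage t ⊆ S → tupD g₀ t = f t := fun t ht =>
    (eq_tupD_cone f j t (hd _ (by rw [tupImage_cons]; exact Finset.insert_subset hj ht))).symm
  -- the part of `g₀` on tuples inside `S'` is a coboundary
  obtain ⟨h, hh0, hhd⟩ : ∃ h : (Fin q → ι) → M, (∀ t, tupImage t ≠ S' → h t = 0) ∧
      ∀ t, tupImage t ⊆ S' → tupD h t = g₀ t := by
    rcases Nat.eq_zero_or_pos q with rfl | hqpos
    · refine ⟨0, fun _ _ => rfl, fun t ht => ?_⟩
      have h0 : g₀ t = 0 := by
        by_contra hne0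
        have := Finset.card_le_card (hg₀supp t (ht.trans hsub) hne0)
        have := card_tupImage_le t
        omega
      rw [h0]; simp [tupD]
    · obtain ⟨q', rfl⟩ : ∃ q', q = q' + 1 := ⟨q - 1, by omega⟩
      obtain ⟨h, hh0, hhd⟩ := ih S'.card (by omega) S' hS'ne rfl q' (by omega)
        (fun t => if tupImage t = S' then g₀ t else 0) (fun t ht => if_neg ht)
        (fun t ht => by
          have e : ∀ k : Fin (q' + 3),
              (if tupImage (t ∘ k.succAbove) = S' then g₀ (t ∘ k.succAbove) else 0) =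
                g₀ (t ∘ k.succAbove) := fun k => by
            split_ifs with hk
            · rfl
            · by_contra hne0
              exact hk (Finset.Subset.antisymm ((tupImage_comp_subset _ _).trans ht)
                (hg₀supp _ (((tupImage_comp_subset _ _).trans ht).trans hsub) (Ne.symm hne0)))
          have : tupD (fun t => if tupImage t = S' then g₀ t else 0) t = tupD g₀ t := by
            simp only [tupD, e]
          rw [this, hdg₀ t (ht.trans hsub)]
          exact hf t fun e' => hne (Finset.Subset.antisymm hsub (e'.symm.le.trans ht)))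
      refine ⟨h, hh0, fun t ht => (hhd t ht).trans ?_⟩
      split_ifs with hk
      · rfl
      · by_contra hne0
        exact hk (Finset.Subset.antisymm ht (hg₀supp _ (ht.trans hsub) (Ne.symm hne0)))
  refine ⟨fun t => if tupImage t = S then g₀ t - tupD h t else 0, fun t ht => if_neg ht,
    fun t ht => ?_⟩
  have key : ∀ s : Fin (q + 1) → ι, tupImage s ⊆ S →
      (if tupImage s = S then g₀ s - tupD h s else 0) = g₀ s - tupD h s := by
    intro s hs
    split_ifs with hk
    · rfl
    · by_cases hs' : tupImage s ⊆ S'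
      · rw [hhd s hs', sub_self]
      · obtain ⟨x, hx, hx'⟩ := Finset.not_subset.mp hs'
        have hxj : x = j := by
          by_contra hxj; exact hx' (Finset.mem_erase.mpr ⟨hxj, hs hx⟩)
        subst hxj
        have hnS' : ¬ S' ⊆ tupImage s := fun hs'' => hk (Finset.Subset.antisymm hs
          (hins ▸ Finset.insert_subset hx hs''))
        have h1 : g₀ s = 0 := by
          by_contra hne0; exact hnS' (hg₀supp s hs hne0)
        have h2 : tupD h s = 0 := Finset.sum_eq_zero fun k _ => by
          rw [hh0 _ fun e' => hnS' (e' ▸ tupImage_comp_subset _ _), smul_zero]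
        rw [h1, h2, sub_zero]
  have : tupD (fun t => if tupImage t = S then g₀ t - tupD h t else 0) t =
      tupD (g₀ - tupD h) t := by
    refine Finset.sum_congr rfl fun k _ => ?_
    exact congrArg _ (key _ ((tupImage_comp_subset t k.succAbove).trans ht))
  rw [this, tupD_sub, tupD_tupD, sub_zero, hdg₀ t ht]

end Groth.Agent.ProjTwist.Pn
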