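import Groth.Agent.ProjTwist.Pn.Laurent
import Groth.Agent.ProjTwist.Pn.Tuple
import Mathlib.Data.Pi.Interval
import Mathlib.Data.Int.Interval

/-!
The Čech complex of `O(d)` on `P^n` in terms of Laurent polynomials: acyclicity in degrees `≥ 1`
apart from degree `n`, finiteness there, and degree zero.
-/

universe u

noncomputable section

namespace Groth.Agent.ProjTwist.Pn

variable {n : ℕ} {R : Type u} [CommRing R]

theorem coeff_tupD {q : ℕ} (c : (Fin q → Fin (n + 1)) → Lau n R) (t : Fin (q + 1) → Fin (n + 1))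
    (e : Expo n) : (tupD c t).coeff e = tupD (fun t => (c t).coeff e) t := by
  let φ : Lau n R →+ R := AddMonoidHom.mk' (fun x => x.coeff e) fun a b => by
    rw [AddMonoidAlgebra.coeff_add, Finsupp.add_apply]
  show φ (tupD c t) = tupD (fun t => φ (c t)) t
  simp only [tupD, map_sum, map_zsmul]

/-- The negative coordinates of an exponent. -/
def negSet (e : Expo n) : Finset (Fin (n + 1)) := Finset.univ.filter fun i => e i < 0

theorem mem_lauPart_iff_negSet {d : ℤ} {I : Finset (Fin (n + 1))} {p : Lau n R} :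
    p ∈ lauPart R d I ↔ ∀ e, p.coeff e ≠ 0 → ∑ i, e i = d ∧ negSet e ⊆ I := by
  simp [mem_lauPart, negSet, Finset.subset_iff]

/-- A coefficientwise primitive. -/
theorem exists_coeff_primitive {d : ℤ} {q : ℕ} (c : (Fin (q + 2) → Fin (n + 1)) → Lau n R)
    (hc : ∀ t, c t ∈ lauPart R d (tupImage t)) (hd : ∀ t, tupD c t = 0) (e : Expo n)
    (he : q + 1 ≠ n ∨ (∃ i, 0 ≤ e i) ∨ ∀ t, (c t).coeff e = 0) :
    ∃ g : (Fin (q + 1) → Fin (n + 1)) → R, (∀ t, g t ≠ 0 → negSet e ⊆ tupImage t) ∧
      ∀ t, tupD g t = (c t).coeff e := by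
  have hsupp : ∀ t, (c t).coeff e ≠ 0 → negSet e ⊆ tupImage t :=
    fun t ht => ((mem_lauPart_iff_negSet.mp (hc t)) e ht).2
  have hd' : ∀ t, tupD (fun t => (c t).coeff e) t = 0 := fun t => by
    rw [← coeff_tupD, hd t]; rfl
  by_cases hj : ∃ j, 0 ≤ e j
  · obtain ⟨j, hj⟩ := hj
    refine ⟨fun s => (c (Fin.cons j s)).coeff e, fun t ht i hi => ?_,
      fun t => (eq_tupD_cone (fun t => (c t).coeff e) j t (hd' _)).symm⟩
    have := hsupp _ ht hi
    rw [tupImage_cons, Finset.mem_insert] at this
    refine this.resolve_left fun h => ?_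
    subst h
    simp [negSet] at hi
    omega
  · have huniv : negSet e = Finset.univ :=
      Finset.eq_univ_of_forall fun i => by
        simp [negSet, not_le.mp fun h => hj ⟨i, h⟩]
    rcases he with he | he | he
    · obtain ⟨g, hg, hgd⟩ := exists_tupD_eq_of_exact_support (Finset.univ : Finset (Fin (n + 1)))
        Finset.univ_nonempty q (by simpa using he) (fun t => (c t).coeff e)
        (fun t ht => by
          by_contra h
          exact ht (Finset.univ_subset_iff.mp (huniv ▸ hsupp t h)))
        (fun t _ => hd' t)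
      refine ⟨g, fun t ht => ?_, fun t => hgd t (Finset.subset_univ _)⟩
      by_contra h
      exact ht (hg t fun h' => h (h' ▸ Finset.subset_univ _))
    · exact absurd he hj
    · exact ⟨0, fun t ht => absurd rfl ht, fun t => by rw [he t]; simp [tupD]⟩

/-- Čech cocycles of `O(d)` of positive degree whose exponents are never all negative (or of degree
different from `n`) are coboundaries. -/
theorem exists_tupD_eq {d : ℤ} {q : ℕ} (c : (Fin (q + 2) → Fin (n + 1)) → Lau n R)
    (hc : ∀ t, c t ∈ lauPart R d (tupImage t)) (hd : ∀ t, tupD c t = 0)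
    (h : q + 1 ≠ n ∨ ∀ t, ∀ e ∈ (c t).coeff.support, ∃ i, 0 ≤ e i) :
    ∃ b : (Fin (q + 1) → Fin (n + 1)) → Lau n R,
      (∀ t, b t ∈ lauPart R d (tupImage t)) ∧ ∀ t, tupD b t = c t := by
  classical
  have he : ∀ e : Expo n, q + 1 ≠ n ∨ (∃ i, 0 ≤ e i) ∨ ∀ t, (c t).coeff e = 0 := by
    intro e
    rcases h with h | h
    · exact Or.inl h
    · by_cases hex : ∃ i, 0 ≤ e i
      · exact Or.inr (Or.inl hex)
      · refine Or.inr (Or.inr fun t => ?_)
        by_contra hne
        exact hex (h t e (Finsupp.mem_support_iff.mpr hne))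
  set E : Finset (Expo n) := Finset.univ.biUnion fun t => (c t).coeff.support with hE
  choose g hg hgd using fun e => exists_coeff_primitive c hc hd e (he e)
  refine ⟨fun t => AddMonoidAlgebra.ofCoeff
    (Finsupp.onFinset E (fun e => if e ∈ E then g e t else 0) fun e he' => by
      by_contra h'; simp [h'] at he'), fun t => ?_, fun t => ?_⟩
  · rw [mem_lauPart_iff_negSet]
    intro e he'
    simp only [AddMonoidAlgebra.coeff_ofCoeff, Finsupp.onFinset_apply] at he'
    split_ifs at he' with hmem
    · refine ⟨?_, hg e t he'⟩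
      simp only [hE, Finset.mem_biUnion, Finset.mem_univ, true_and, Finsupp.mem_support_iff] at hmem
      obtain ⟨s, hs⟩ := hmem
      exact ((mem_lauPart_iff_negSet.mp (hc s)) e hs).1
    · exact absurd rfl he'
  · refine AddMonoidAlgebra.ext (Finsupp.ext fun e => ?_)
    rw [coeff_tupD]
    simp only [AddMonoidAlgebra.coeff_ofCoeff, Finsupp.onFinset_apply]
    by_cases hmem : e ∈ E
    · simp only [if_pos hmem]; exact hgd e t
    · simp only [if_neg hmem]
      simp only [tupD, smul_zero, Finset.sum_const_zero]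
      by_contra hne
      exact hmem (Finset.mem_biUnion.mpr ⟨t, Finset.mem_univ _,
        Finsupp.mem_support_iff.mpr (Ne.symm hne)⟩)

/-- No exponent is all negative in degrees `> -(n + 1)`. -/
theorem exists_nonneg_of_mem_support {d : ℤ} (hd : -((n : ℤ) + 1) < d) {I : Finset (Fin (n + 1))}
    {p : Lau n R} (hp : p ∈ lauPart R d I) {e : Expo n} (he : e ∈ p.coeff.support) :
    ∃ i, 0 ≤ e i := by
  by_contra h
  push Not at h
  have h1 : ∑ i, e i ≤ ∑ _i : Fin (n + 1), (-1 : ℤ) := Finset.sum_le_sum fun i _ => by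
    have := h i; omega
  rw [(hp e he).1] at h1
  simp at h1
  omega

/-- Acyclicity of the Čech complex of `O(d)`, `d ≥ -n`, in positive degrees. -/
theorem exists_tupD_eq_of_lt {d : ℤ} (hd0 : -((n : ℤ) + 1) < d) {q : ℕ}
    (c : (Fin (q + 2) → Fin (n + 1)) → Lau n R)
    (hc : ∀ t, c t ∈ lauPart R d (tupImage t)) (hd : ∀ t, tupD c t = 0) :
    ∃ b : (Fin (q + 1) → Fin (n + 1)) → Lau n R,
      (∀ t, b t ∈ lauPart R d (tupImage t)) ∧ ∀ t, tupD b t = c t :=
  exists_tupD_eq c hc hd (Or.inr fun t _ he => exists_nonneg_of_mem_support hd0 (hc t) he)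

variable (n) in
/-- The all-negative exponents of degree `d`. -/
def negExpos (d : ℤ) : Finset (Expo n) :=
  Finset.Icc (fun _ => d) (fun _ => -1)

theorem mem_negExpos {d : ℤ} {e : Expo n} (he : ∑ i, e i = d) (hneg : ∀ i, e i < 0) :
    e ∈ negExpos n d := by
  refine Finset.mem_Icc.mpr ⟨fun i => ?_, fun i => by have := hneg i; show e i ≤ -1; omega⟩
  show d ≤ e i
  rw [← he, ← Finset.add_sum_erase _ _ (Finset.mem_univ i)]
  have : ∑ l ∈ Finset.univ.erase i, e l ≤ 0 := Finset.sum_nonpos fun l _ => (hneg l).le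
  omega

/-- Every cocycle is a coboundary plus a combination of finitely many elementary cochains. -/
theorem exists_finite_generators (d : ℤ) (q : ℕ) :
    ∃ G : Finset ((Fin (q + 2) → Fin (n + 1)) → Lau n R),
      ∀ c : (Fin (q + 2) → Fin (n + 1)) → Lau n R,
        (∀ t, c t ∈ lauPart R d (tupImage t)) → (∀ t, tupD c t = 0) →
        ∃ b : (Fin (q + 1) → Fin (n + 1)) → Lau n R, (∀ t, b t ∈ lauPart R d (tupImage t)) ∧
          (fun t => c t - tupD b t) ∈ Submodule.span R (G : Set _) := by
  classical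
  refine ⟨(Finset.univ ×ˢ negExpos n d).image fun p =>
    Pi.single (M := fun _ : Fin (q + 2) → Fin (n + 1) => Lau n R) p.1
      (AddMonoidAlgebra.single p.2 1), fun c hc hd => ?_⟩
  let P : Expo n → Prop := fun e => ∀ i, e i < 0
  set cu : (Fin (q + 2) → Fin (n + 1)) → Lau n R := fun t =>
    AddMonoidAlgebra.ofCoeff ((c t).coeff.filter P) with hcu
  have hcu_coeff : ∀ t e, (cu t).coeff e = if P e then (c t).coeff e else 0 := fun t e => by
    simp [hcu, Finsupp.filter_apply]
  have hsub : ∀ t e, (c t - cu t).coeff e = if P e then 0 else (c t).coeff e := fun t e => by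
    rw [AddMonoidAlgebra.coeff_sub, Finsupp.sub_apply, hcu_coeff]
    split_ifs <;> simp
  obtain ⟨b, hb, hbd⟩ := exists_tupD_eq (d := d) (fun t => c t - cu t) (fun t => by
      rw [mem_lauPart_iff_negSet]
      intro e he
      rw [hsub] at he
      split_ifs at he
      · exact absurd rfl he
      · exact (mem_lauPart_iff_negSet.mp (hc t)) e he)
    (fun t => AddMonoidAlgebra.ext (Finsupp.ext fun e => by
      rw [coeff_tupD]
      simp only [hsub]
      by_cases hP : P e
      · simp [hP, tupD]
      · simp only [if_neg hP]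
        rw [← coeff_tupD, hd t]))
    (Or.inr fun t e he => by
      rw [Finsupp.mem_support_iff, hsub] at he
      split_ifs at he with hP
      · exact absurd rfl he
      · simp only [P, not_forall, not_lt] at hP
        exact hP)
  refine ⟨b, hb, ?_⟩
  have : (fun t => c t - tupD b t) = cu := funext fun t => by rw [hbd t, sub_sub_cancel]
  rw [this, ← Finset.univ_sum_single cu]
  refine Submodule.sum_mem _ fun t _ => ?_
  rw [← AddMonoidAlgebra.sum_coeff_single (cu t), Finsupp.sum]
  rw [show Pi.single (M := fun _ : Fin (q + 2) → Fin (n + 1) => Lau n R) t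
      (∑ e ∈ (cu t).coeff.support, AddMonoidAlgebra.single e ((cu t).coeff e)) =
      ∑ e ∈ (cu t).coeff.support, Pi.single (M := fun _ : Fin (q + 2) → Fin (n + 1) => Lau n R) t
        (AddMonoidAlgebra.single e ((cu t).coeff e)) from
    map_sum (AddMonoidHom.single (fun _ : Fin (q + 2) → Fin (n + 1) => Lau n R) t) _ _]
  refine Submodule.sum_mem _ fun e he => ?_
  rw [Finsupp.mem_support_iff, hcu_coeff] at he
  split_ifs at he with hP
  · have : Pi.single (M := fun _ : Fin (q + 2) → Fin (n + 1) => Lau n R) t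
        (AddMonoidAlgebra.single e ((cu t).coeff e)) =
        (cu t).coeff e • Pi.single (M := fun _ : Fin (q + 2) → Fin (n + 1) => Lau n R) t
          (AddMonoidAlgebra.single e (1 : R)) := by
      rw [← Pi.single_smul, AddMonoidAlgebra.smul_single, smul_eq_mul, mul_one]
    rw [this]
    refine Submodule.smul_mem _ _ (Submodule.subset_span ?_)
    refine Finset.mem_coe.mpr (Finset.mem_image.mpr ⟨(t, e), Finset.mem_product.mpr
      ⟨Finset.mem_univ _, mem_negExpos ((mem_lauPart_iff_negSet.mp (hc t)) e he).1 hP⟩, rfl⟩)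
  · exact absurd rfl he

/-- Degree zero cocycles are constant. -/
theorem eq_of_tupD_eq_zero (c : (Fin 1 → Fin (n + 1)) → Lau n R) (hd : ∀ t, tupD c t = 0)
    (i j : Fin (n + 1)) : c (fun _ => i) = c (fun _ => j) := by
  have h := hd ![j, i]
  unfold tupD at h
  erw [Fin.sum_univ_two] at h
  have e0 : (![j, i] : Fin 2 → Fin (n + 1)) ∘ (0 : Fin 2).succAbove = fun _ => i := by
    funext k; fin_cases k; rfl
  have e1 : (![j, i] : Fin 2 → Fin (n + 1)) ∘ (1 : Fin 2).succAbove = fun _ => j := by
    funext k; fin_cases k; rfl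
  rw [e0, e1] at h
  simpa [← sub_eq_add_neg, sub_eq_zero] using h

/-- For `n ≥ 1` the degree zero cocycles are the polynomials of degree `d`. -/
theorem exists_of_tupD_eq_zero (hn : 1 ≤ n) {d : ℤ} (c : (Fin 1 → Fin (n + 1)) → Lau n R)
    (hc : ∀ t, c t ∈ lauPart R d (tupImage t)) (hd : ∀ t, tupD c t = 0) :
    ∃ v ∈ lauPart R d ∅, ∀ t, c t = v := by
  refine ⟨c (fun _ => 0), ?_, fun t => by
    rw [show t = fun _ => t 0 from funext fun k => by rw [Subsingleton.elim k 0]]
    exact eq_of_tupD_eq_zero c hd _ _⟩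
  intro e he
  refine ⟨(hc (fun _ => 0) e he).1, fun i hi => ?_⟩
  obtain ⟨l, hl⟩ : ∃ l, l ≠ i := by
    have : Nontrivial (Fin (n + 1)) := Fin.nontrivial_iff_two_le.mpr (by omega)
    exact exists_ne i
  have := hc (fun _ => l)
  rw [eq_of_tupD_eq_zero c hd l 0] at this
  have h2 := (this e he).2 i hi
  simp [tupImage] at h2
  exact absurd h2 (Ne.symm hl)

end Groth.Agent.ProjTwist.Pn
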