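import Groth.Agent.ProjTwist.Pn.Scalar
import Groth.Agent.ProjTwist.Pn.Acyclic
import Groth.Agent.CohAff.CechH
import Groth.Agent.CohAff.AffineCech

/-!
Cohomology of `O(d)` on `P^n_R` from the standard covering: vanishing and finiteness.
-/

open CategoryTheory AlgebraicGeometry TopologicalSpace Opposite

universe u

noncomputable section

namespace Groth.Agent.ProjTwist.Pn

open Twist CohAff

variable {n : ℕ} {R : Type u} [CommRing R]

variable (n R) in
/-- The standard covering of `P^n`, with index type in `Type u`. -/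
abbrev cov : ULift.{u} (Fin (n + 1)) → Opens (CohB1.ProjSpace n R).toPresheafedSpace.carrier :=
  fun i => stdOpen n R i.down

theorem iSup_cov : ⨆ i, cov n R i = ⊤ :=
  (Equiv.ulift.iSup_comp (g := fun i => stdOpen n R i)).trans (iSup_stdOpen n R)

/-- The indices of a tuple. -/
abbrev img {q : ℕ} (x : Fin q → ULift.{u} (Fin (n + 1))) : Finset (Fin (n + 1)) :=
  tupImage fun a => (x a).down

theorem img_nonempty {q : ℕ} (x : Fin (q + 1) → ULift.{u} (Fin (n + 1))) : (img x).Nonempty :=
  tupImage_nonempty _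

theorem inter_cov {q : ℕ} (x : Fin (q + 1) → ULift.{u} (Fin (n + 1))) :
    inter (cov n R) x = (dI R (img x) : Opens (CohB1.ProjSpace n R).toPresheafedSpace.carrier) := by
  refine Opens.ext (Set.ext fun p => ?_)
  simp only [SetLike.mem_coe]
  rw [mem_inter]
  constructor
  · intro h hp
    rw [mI_eq_prod] at hp
    obtain ⟨i, hi, hpi⟩ := (p.isPrime.prod_mem_iff).mp hp
    obtain ⟨a, -, rfl⟩ := Finset.mem_image.mp hi
    exact h a hpi
  · intro h a hpa
    refine h ?_
    rw [mI_eq_prod]
    exact Ideal.prod_mem _ (Finset.mem_image.mpr ⟨a, Finset.mem_univ _, rfl⟩) hpa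

theorem affCov_mem_inter {q : ℕ} (x : Fin (q + 1) → ULift.{u} (Fin (n + 1))) :
    (affCov (CohB1.ProjSpace n R)).mem (inter (cov n R) x) := by
  rw [inter_cov]
  exact Proj.isAffineOpen_basicOpen (CohB1.polyGrading n R) _ (mI_mem _)
    (Finset.card_pos.mpr (img_nonempty x))

variable (d : ℤ)

variable (n R) in
/-- The abelian sheaf of `O(d)`. -/
abbrev tw : AbSh (CohB1.ProjSpace n R).toPresheafedSpace.carrier :=
  Coh.toAb (twistProjSpace n R d)

theorem good_tw : (affCov (CohB1.ProjSpace n R)).Good (tw n R d) :=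
  haveI := isQCoh_twistProjSpace n R d
  good_affCov (twistProjSpace n R d)

variable {d}

/-- A section over an intersection of the covering, as an element of `sectN`. -/
def toSect {q : ℕ} {x : Fin (q + 1) → ULift.{u} (Fin (n + 1))}
    (s : (tw n R d).obj.obj (op (inter (cov n R) x))) :
    sectN (𝒜 := CohB1.polyGrading n R) d (op (dI R (img x))) :=
  res (tw n R d).obj (inter_cov x).ge s

theorem toSect_add {q : ℕ} {x : Fin (q + 1) → ULift.{u} (Fin (n + 1))}
    (s t : (tw n R d).obj.obj (op (inter (cov n R) x))) : toSect (s + t) = toSect s + toSect t :=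
  map_add (res (tw n R d).obj (inter_cov x).ge) s t

theorem toSect_bijective {q : ℕ} {x : Fin (q + 1) → ULift.{u} (Fin (n + 1))} :
    Function.Bijective (toSect (R := R) (d := d) (x := x)) := by
  refine Function.bijective_iff_has_inverse.mpr
    ⟨fun s => res (tw n R d).obj (inter_cov x).le s, fun s => ?_, fun s => ?_⟩
  · exact (res_res (tw n R d).obj _ _ _).trans (res_self _ _ _)
  · exact (res_res (tw n R d).obj _ _ _).trans (res_self _ _ _)

/-- The Laurent polynomial of a section over an intersection of the covering. -/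
def lauOf {q : ℕ} (x : Fin (q + 1) → ULift.{u} (Fin (n + 1))) :
    (tw n R d).obj.obj (op (inter (cov n R) x)) →+ Lau n R :=
  AddMonoidHom.mk' (fun s => secLau d (img_nonempty x) (toSect s)) fun s t => by
    rw [toSect_add, secLau_add]

theorem lauOf_mem {q : ℕ} (x : Fin (q + 1) → ULift.{u} (Fin (n + 1)))
    (s : (tw n R d).obj.obj (op (inter (cov n R) x))) : lauOf x s ∈ lauPart R d (img x) :=
  secLau_mem d (img_nonempty x) _

theorem lauOf_injective {q : ℕ} (x : Fin (q + 1) → ULift.{u} (Fin (n + 1))) :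
    Function.Injective (lauOf (R := R) (d := d) x) :=
  fun _ _ h => toSect_bijective.1 (eq_of_secLau_eq (img_nonempty x) h)

theorem exists_lauOf_eq {q : ℕ} (x : Fin (q + 1) → ULift.{u} (Fin (n + 1))) {p : Lau n R}
    (hp : p ∈ lauPart R d (img x)) : ∃ s, lauOf (d := d) x s = p := by
  obtain ⟨s, hs⟩ := secLau_surjective (img_nonempty x) hp
  obtain ⟨s', rfl⟩ := toSect_bijective.2 s
  exact ⟨s', hs⟩

theorem lauOf_res {q p : ℕ} (x : Fin (q + 1) → ULift.{u} (Fin (n + 1)))
    (σ : Fin (p + 1) → Fin (q + 1)) (s : (tw n R d).obj.obj (op (inter (cov n R) (x ∘ σ)))) :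
    lauOf x (res (tw n R d).obj (inter_comp_le (cov n R) x σ) s) = lauOf (x ∘ σ) s := by
  have hsub : img (x ∘ σ) ⊆ img x := tupImage_comp_subset (fun a => (x a).down) σ
  have key : toSect (res (tw n R d).obj (inter_comp_le (cov n R) x σ) s) =
      resN d (homOfLE (dI_anti (R := R) hsub)).op (toSect s) :=
    (res_res (tw n R d).obj _ _ s).trans (res_res (tw n R d).obj _ _ s).symm
  show secLau d (img_nonempty x) _ = secLau d (img_nonempty (x ∘ σ)) _
  rw [key]
  exact secLau_res hsub (img_nonempty (x ∘ σ)) _ (toSect s)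

/-- Cochains of `O(d)` as families of Laurent polynomials. -/
def lauC (q : ℕ) : Cochain (tw n R d).obj (cov n R) q →+ ((Fin (q + 1) → Fin (n + 1)) → Lau n R) :=
  AddMonoidHom.mk' (fun c t => lauOf (fun a => ⟨t a⟩) (c fun a => ⟨t a⟩))
    fun _ _ => funext fun _ => map_add _ _ _

theorem lauC_apply {q : ℕ} (c : Cochain (tw n R d).obj (cov n R) q) (t : Fin (q + 1) → Fin (n + 1)) :
    lauC q c t = lauOf (fun a => ⟨t a⟩) (c fun a => ⟨t a⟩) := rfl

theorem lauC_mem {q : ℕ} (c : Cochain (tw n R d).obj (cov n R) q) (t : Fin (q + 1) → Fin (n + 1)) :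
    lauC q c t ∈ lauPart R d (tupImage t) :=
  lauOf_mem (fun a => ⟨t a⟩) _

theorem lauC_injective (q : ℕ) : Function.Injective (lauC (n := n) (R := R) (d := d) q) :=
  fun _ _ h => funext fun x => lauOf_injective x (congrFun h fun a => (x a).down)

theorem exists_lauC_eq {q : ℕ} {f : (Fin (q + 1) → Fin (n + 1)) → Lau n R}
    (hf : ∀ t, f t ∈ lauPart R d (tupImage t)) :
    ∃ c : Cochain (tw n R d).obj (cov n R) q, lauC q c = f := by
  choose c hc using fun x : Fin (q + 1) → ULift.{u} (Fin (n + 1)) =>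
    exists_lauOf_eq (d := d) x (hf fun a => (x a).down)
  exact ⟨c, funext fun t => hc fun a => ⟨t a⟩⟩

theorem lauC_cd {q : ℕ} (c : Cochain (tw n R d).obj (cov n R) q) :
    lauC (q + 1) (cd (tw n R d).obj (cov n R) q c) = tupD (lauC q c) := by
  funext t
  rw [lauC_apply, cd_apply, map_sum, tupD]
  refine Finset.sum_congr rfl fun j _ => ?_
  rw [map_zsmul, lauOf_res]
  rfl

theorem tupD_lauC_eq_zero {q : ℕ} {c : Cochain (tw n R d).obj (cov n R) q}
    (hc : cd (tw n R d).obj (cov n R) q c = 0) (t : Fin (q + 2) → Fin (n + 1)) :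
    tupD (lauC q c) t = 0 := by
  rw [← lauC_cd, hc, map_zero]
  rfl

/-- A class of positive degree comes from a cocycle. -/
theorem exists_cocycle (q : ℕ) (h : Coh.HH (CohB1.ProjSpace n R) (twistProjSpace n R d) q) :
    ∃ c hc, toH (U := cov n R) iSup_cov q (tw n R d) c hc = h :=
  exists_toH_eq iSup_cov (fun x => affCov_mem_inter x) (good_tw d) h

/-- `H^q(P^n, O(d)) = 0` for `q ≠ 0, n`, and for all `q ≠ 0` when `d ≥ -n`. -/
theorem subsingleton_twist (d : ℤ) (q : ℕ) (h : q + 1 ≠ n ∨ -((n : ℤ) + 1) < d) :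
    Subsingleton (Coh.HH (CohB1.ProjSpace n R) (twistProjSpace n R d) (q + 1)) := by
  refine subsingleton_of_forall_eq 0 fun x => ?_
  obtain ⟨c, hc, rfl⟩ := exists_cocycle (q + 1) x
  have H : ∃ b : (Fin (q + 1) → Fin (n + 1)) → Lau n R,
      (∀ t, b t ∈ lauPart R d (tupImage t)) ∧ ∀ t, tupD b t = lauC (q + 1) c t := by
    rcases h with h | h
    · exact exists_tupD_eq _ (lauC_mem c) (tupD_lauC_eq_zero hc) (Or.inl h)
    · exact exists_tupD_eq_of_lt h _ (lauC_mem c) (tupD_lauC_eq_zero hc)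
  obtain ⟨b, hb, hbc⟩ := H
  obtain ⟨e, rfl⟩ := exists_lauC_eq hb
  have : cd (tw n R d).obj (cov n R) q e = c :=
    lauC_injective _ ((lauC_cd e).trans (funext hbc))
  subst this
  exact toH_cd _ _ e

/-- The action of a scalar on sections. -/
theorem lauOf_smul {q : ℕ} (x : Fin (q + 1) → ULift.{u} (Fin (n + 1))) (r : R)
    (s : (tw n R d).obj.obj (op (inter (cov n R) x))) :
    lauOf x ((((Coh.smulAb (twistProjSpace n R d)
      (Coh.toGlobal (CohB1.ProjSpace.toSpec n R) r))).hom.app (op (inter (cov n R) x))).hom s) =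
      r • lauOf x s := by
  have key : toSect ((((Coh.smulAb (twistProjSpace n R d)
      (Coh.toGlobal (CohB1.ProjSpace.toSpec n R) r))).hom.app (op (inter (cov n R) x))).hom s) =
      actN (scalarO r (op (dI R (img x)))) (toSect s) :=
    res_app _ _ s
  show secLau d (img_nonempty x) _ = r • secLau d (img_nonempty x) _
  rw [key, secLau_smul]

variable (n R d) in
/-- The cocycles of the Laurent polynomial complex. -/
def cocL (q : ℕ) : Submodule R ((Fin (q + 1) → Fin (n + 1)) → Lau n R) where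
  carrier := {f | (∀ t, f t ∈ lauPart R d (tupImage t)) ∧ ∀ t, tupD f t = 0}
  zero_mem' := ⟨fun _ => zero_mem _, fun _ => by simp [tupD]⟩
  add_mem' {f g} hf hg := ⟨fun t => add_mem (hf.1 t) (hg.1 t), fun t => by
    simp only [tupD, Pi.add_apply, smul_add, Finset.sum_add_distrib]
    exact (congrArg₂ (· + ·) (hf.2 t) (hg.2 t)).trans (add_zero 0)⟩
  smul_mem' r f hf := ⟨fun t => Submodule.smul_mem _ _ (hf.1 t), fun t => by
    simp only [tupD, Pi.smul_apply, smul_comm _ r, ← Finset.smul_sum]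
    exact (congrArg (r • ·) (hf.2 t)).trans (smul_zero r)⟩

/-- The class of a cocycle of Laurent polynomials. -/
def classL {q : ℕ} (f : cocL n R d q) : Coh.HH (CohB1.ProjSpace n R) (twistProjSpace n R d) q :=
  toH (U := cov n R) iSup_cov q (tw n R d) (exists_lauC_eq f.2.1).choose
    (lauC_injective _ ((lauC_cd _).trans (by
      rw [(exists_lauC_eq f.2.1).choose_spec, map_zero]
      exact funext f.2.2)))

theorem classL_eq {q : ℕ} (f : cocL n R d q) {c : Cochain (tw n R d).obj (cov n R) q}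
    (hc : cd (tw n R d).obj (cov n R) q c = 0) (h : lauC q c = f.1) :
    classL f = toH (U := cov n R) iSup_cov q (tw n R d) c hc :=
  toH_congr _ (lauC_injective _ ((exists_lauC_eq f.2.1).choose_spec.trans h.symm)) _ _

theorem exists_cochain {q : ℕ} (f : cocL n R d q) :
    ∃ c, cd (tw n R d).obj (cov n R) q c = 0 ∧ lauC q c = f.1 := by
  obtain ⟨c, hc⟩ := exists_lauC_eq f.2.1
  exact ⟨c, lauC_injective _ ((lauC_cd _).trans (by rw [hc, map_zero]; exact funext f.2.2)), hc⟩

theorem classL_add {q : ℕ} (f g : cocL n R d q) : classL (f + g) = classL f + classL g := by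
  obtain ⟨c, hc, hcf⟩ := exists_cochain f
  obtain ⟨c', hc', hcg⟩ := exists_cochain g
  rw [classL_eq f hc hcf, classL_eq g hc' hcg,
    classL_eq (f + g) (c := c + c') (by rw [map_add, hc, hc', add_zero])
      (by rw [map_add, hcf, hcg]; rfl)]
  exact toH_add _ _ c c' hc hc'

theorem classL_smul {q : ℕ} (r : R) (f : cocL n R d q) :
    classL (r • f) = Coh.toGlobal (CohB1.ProjSpace.toSpec n R) r • classL f := by
  obtain ⟨c, hc, hcf⟩ := exists_cochain f
  rw [classL_eq f hc hcf, classL_eq (r • f)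
    (c := cmap (Coh.smulAb (twistProjSpace n R d)
      (Coh.toGlobal (CohB1.ProjSpace.toSpec n R) r)).hom (cov n R) q c)
    (by rw [cd_cmap, hc, map_zero]) (funext fun t =>
      (lauOf_smul (fun a => ⟨t a⟩) r _).trans (congrArg (r • ·) (congrFun hcf t)))]
  exact toH_map _ _ c hc

/-- `H^q(P^n_R, O(d))` is a finite `R`-module for `q ≥ 1`. -/
theorem finite_twist_succ [IsNoetherianRing R] (d : ℤ) (q : ℕ) :
    letI : (CohB1.ProjSpace n R).Over (Spec (CommRingCat.of R)) := ⟨CohB1.ProjSpace.toSpec n R⟩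
    Module.Finite R (Coh.HH (CohB1.ProjSpace n R) (twistProjSpace n R d) (q + 1)) := by
  let : (CohB1.ProjSpace n R).Over (Spec (CommRingCat.of R)) := ⟨CohB1.ProjSpace.toSpec n R⟩
  let ψ : cocL n R d (q + 1) →ₗ[R] Coh.HH (CohB1.ProjSpace n R) (twistProjSpace n R d) (q + 1) :=
    { toFun := classL, map_add' := classL_add, map_smul' := classL_smul }
  obtain ⟨G, hG⟩ := exists_finite_generators (n := n) (R := R) d q
  let S := Submodule.span R (G : Set ((Fin (q + 2) → Fin (n + 1)) → Lau n R))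
  have : Module.Finite R S := Module.Finite.span_of_finite R G.finite_toSet
  have : Module.Finite R (S ⊓ cocL n R d (q + 1) : Submodule R _) :=
    Module.Finite.of_injective (Submodule.inclusion (inf_le_left : S ⊓ cocL n R d (q + 1) ≤ S))
      (Submodule.inclusion_injective _)
  refine Module.Finite.of_surjective
    (ψ ∘ₗ Submodule.inclusion (inf_le_right : S ⊓ cocL n R d (q + 1) ≤ cocL n R d (q + 1))) fun x => ?_
  obtain ⟨c, hc, rfl⟩ := exists_cocycle (q + 1) x
  obtain ⟨b, hb, hbS⟩ := hG _ (lauC_mem c) (tupD_lauC_eq_zero hc)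
  obtain ⟨e, rfl⟩ := exists_lauC_eq hb
  have hce : lauC (q + 1) (c - cd (tw n R d).obj (cov n R) q e) =
      fun t => lauC (q + 1) c t - tupD (lauC q e) t := by
    rw [map_sub, lauC_cd]; rfl
  have hz : cd (tw n R d).obj (cov n R) (q + 1) (c - cd (tw n R d).obj (cov n R) q e) = 0 := by
    rw [map_sub, hc, cd_cd, sub_zero]
  refine ⟨⟨_, hbS, ⟨fun t => hce ▸ lauC_mem _ t, fun t => hce ▸ tupD_lauC_eq_zero hz t⟩⟩, ?_⟩
  refine (classL_eq _ hz hce).trans ?_
  have h1 := toH_add iSup_cov (tw n R d) _ _ hz (cd_cd _ _ _ e)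
  have h2 := h1.trans (congrArg₂ (· + ·) rfl (toH_cd _ _ e))
  exact (add_zero _).symm.trans (h2.symm.trans (toH_congr _ (sub_add_cancel _ _) _ _))

end Groth.Agent.ProjTwist.Pn
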