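import Groth.Agent.ProjTwist.Pn.Multiplication
import Groth.Agent.AmpleLib.Twist

/-!
`F(m)` is globally generated for an `m`-regular `F` on `P^n_k`.
-/

set_option autoImplicit false

open CategoryTheory CategoryTheory.Limits AlgebraicGeometry TopologicalSpace Opposite

universe u

noncomputable section

namespace Groth.Agent.ProjTwist

open Groth.Agent.QCoh Groth.Agent.PullStalk.Sky Groth.Agent.PullStalk.Exact Groth.Agent.Omega.Stalks
  Groth.Agent.Props.GenLocus Groth.Agent.Props.GenTensor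

section General

variable {X : Scheme.{u}}

/-- the submodule of the stalk spanned by the global sections -/
def globSpan (G : X.Modules) (y : X) : Submodule (X.presheaf.stalk y) (G.presheaf.stalk y) :=
  Submodule.span (X.presheaf.stalk y) (Set.range fun σ : Γ(G, ⊤) => germM G ⊤ y trivial σ)

theorem map_globSpan_le {G H : X.Modules} (φ : G ⟶ H) (y : X) :
    (globSpan G y).map (stalkLin φ y) ≤ globSpan H y := by
  rw [globSpan, Submodule.map_span, Submodule.span_le]
  rintro _ ⟨_, ⟨σ, rfl⟩, rfl⟩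
  exact Submodule.subset_span ⟨φ.app ⊤ σ, (stalkLin_germ φ ⊤ y trivial σ).symm⟩

theorem globSpan_eq_top_of_epi {G H : X.Modules} (φ : G ⟶ H) [Epi φ] (y : X) (h : globSpan G y = ⊤) :
    globSpan H y = ⊤ := by
  refine top_le_iff.mp fun t _ => map_globSpan_le φ y ?_
  obtain ⟨s, rfl⟩ := Groth.Agent.PullStalk.Exact.stalk_surjective φ y t
  exact Submodule.mem_map_of_mem (h ▸ Submodule.mem_top)

theorem globSpan_sigma_eq_top {κ : Type u} [Finite κ] (F : κ → X.Modules) (y : X)
    (h : ∀ j, globSpan (F j) y = ⊤) : globSpan (∐ F) y = ⊤ := by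
  classical
  cases nonempty_fintype κ
  refine globSpan_eq_top_of_epi (biproduct.isoCoproduct F).hom y (top_le_iff.mp fun t _ => ?_)
  have ht : t = ∑ j, stalkLin (biproduct.ι F j) y (stalkLin (biproduct.π F j) y t) := by
    conv_lhs => rw [← Groth.Agent.Omega.ProdDiff.stalkLin_id y t, ← CohLin.total_eq F,
      CohDev.stalkLin_sum_apply]
    exact Finset.sum_congr rfl fun j _ => stalkLin_comp _ _ y t
  rw [ht]
  exact sum_mem fun j _ => map_globSpan_le _ y (Submodule.mem_map_of_mem (h j ▸ Submodule.mem_top))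

theorem germM_res_eq (G : X.Modules) {U V : X.Opens} (h : V ≤ U) (y : X) (hy : y ∈ V) (s : Γ(G, U)) :
    germM G V y hy (res G h s) = germM G U y (h hy) s :=
  G.presheaf.germ_res_apply (homOfLE h) y hy s

theorem isGloballyGenerated_of_globSpan {G : X.Modules} (h : ∀ y, globSpan G y = ⊤) :
    Curv2.IsGloballyGenerated G := by
  refine AmpleLib.isGloballyGenerated_of_local fun V m x hx => ?_
  suffices H : ∀ t ∈ globSpan G x, ∀ (V : X.Opens) (hx : x ∈ V) (m : Γ(G, V)), germM G V x hx m = t →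
      ∃ (W : X.Opens) (hW : W ≤ V), x ∈ W ∧
        res G hW m ∈ Submodule.span Γ(X, W) (Set.range fun σ : Γ(G, ⊤) ↦ res G le_top σ) from
    H (germM G V x hx m) (h x ▸ Submodule.mem_top) V hx m rfl
  clear hx m V
  intro t ht
  -- representatives over a neighbourhood
  have hrep : ∃ (U : X.Opens) (_ : x ∈ U) (z : Γ(G, U)),
      z ∈ Submodule.span Γ(X, U) (Set.range fun σ : Γ(G, ⊤) ↦ res G le_top σ) ∧ ∀ hxU, germM G U x hxU z = t := by
    refine Submodule.span_induction (p := fun t _ => ∃ (U : X.Opens) (_ : x ∈ U) (z : Γ(G, U)),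
      z ∈ Submodule.span Γ(X, U) (Set.range fun σ : Γ(G, ⊤) ↦ res G le_top σ) ∧ ∀ hxU, germM G U x hxU z = t)
      ?_ ?_ ?_ ?_ ht
    · rintro _ ⟨σ, rfl⟩
      exact ⟨⊤, trivial, res G le_rfl σ, Submodule.subset_span ⟨σ, rfl⟩,
        fun hxU => germM_res_eq G le_rfl x hxU σ⟩
    · exact ⟨⊤, trivial, 0, zero_mem _, fun hxU => map_zero _⟩
    · rintro a b _ _ ⟨U, hU, z, hz, ha⟩ ⟨U', hU', z', hz', hb⟩
      refine ⟨U ⊓ U', ⟨hU, hU'⟩, res G inf_le_left z + res G inf_le_right z',
        add_mem ?_ ?_, fun hxU => ?_⟩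
      · exact res_mem_span G inf_le_left z hz
      · exact res_mem_span G inf_le_right z' hz'
      · refine (map_add _ _ _).trans (congrArg₂ (· + ·) ?_ ?_)
        · exact (germM_res_eq G inf_le_left x hxU z).trans (ha _)
        · exact (germM_res_eq G inf_le_right x hxU z').trans (hb _)
    · rintro c a _ ⟨U, hU, z, hz, ha⟩
      obtain ⟨U', hU', c', rfl⟩ := X.presheaf.exists_germ_eq (x := x) c
      refine ⟨U ⊓ U', ⟨hU, hU'⟩, rres inf_le_right c' • res G inf_le_left z,
        Submodule.smul_mem _ _ (res_mem_span G inf_le_left z hz), fun hxU => ?_⟩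
      refine (germM_smul G _ x hxU _ _).trans (congrArg₂ (· • ·) ?_ ?_)
      · exact X.presheaf.germ_res_apply (homOfLE inf_le_right) x hxU c'
      · exact (germM_res_eq G inf_le_left x hxU z).trans (ha _)
  obtain ⟨U, hxU, z, hz, hzt⟩ := hrep
  intro V hxV m hm
  obtain ⟨W, hxW, iU, iV, hW⟩ := G.presheaf.germ_eq x hxU hxV z m ((hzt hxU).trans hm.symm)
  exact ⟨W, iV.le, hxW, (show res G iU.le z = res G iV.le m from hW) ▸ res_mem_span G iU.le z hz⟩
where
  res_mem_span (G : X.Modules) {U V : X.Opens} (h : V ≤ U) (z : Γ(G, U))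
      (hz : z ∈ Submodule.span Γ(X, U) (Set.range fun σ : Γ(G, ⊤) ↦ res G le_top σ)) :
      res G h z ∈ Submodule.span Γ(X, V) (Set.range fun σ : Γ(G, ⊤) ↦ res G le_top σ) := by
    induction hz using Submodule.span_induction with
    | mem z hz =>
      obtain ⟨σ, rfl⟩ := hz
      rw [res_res]
      exact Submodule.subset_span ⟨σ, rfl⟩
    | zero => rw [map_zero]; exact zero_mem _
    | add a b _ _ ha hb => rw [map_add]; exact add_mem ha hb
    | smul c a _ ha => rw [res_smul]; exact Submodule.smul_mem _ _ ha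

/-- if the sections of `A ⊗ L` are sums of `a ⊗ s_j` and some `s_i` generates near `y`, generation at
`y` descends from `A ⊗ L` to `A` -/
theorem globSpan_descend {A L : X.Modules} {ι : Type*} [Fintype ι] (s : ι → (Coh.structureModule X ⟶ L))
    (hsum : ∀ x : Γ(CohB1.tensorMod A L, ⊤), ∃ a : ι → Γ(A, ⊤), x = ∑ j, tmul (a j) (sec (s j) ⊤))
    (i : ι) (U : X.Opens) (hi : IsGen L U (sec (s i) U)) (y : X) (hy : y ∈ U)
    (h : globSpan (CohB1.tensorMod A L) y = ⊤) : globSpan A y = ⊤ := by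
  have hb : Function.Bijective (stalkLin (mulSecHom L (s i) A) y) :=
    stalkLin_bijective_of_app _ U (fun V hV => mulSecHom_bijective L (s i) U hi A V hV) y hy
  suffices H : globSpan (CohB1.tensorMod A L) y ≤ (globSpan A y).map (stalkLin (mulSecHom L (s i) A) y) by
    refine top_le_iff.mp fun t _ => ?_
    obtain ⟨t', ht', e⟩ := H (show stalkLin (mulSecHom L (s i) A) y t ∈ globSpan _ y from h ▸ Submodule.mem_top)
    rwa [← hb.1 e]
  rw [globSpan, Submodule.span_le]
  rintro _ ⟨x, rfl⟩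
  obtain ⟨a, rfl⟩ := hsum x
  show ((CohB1.tensorMod A L).presheaf.germ ⊤ y trivial).hom (∑ j, tmul (a j) (sec (s j) ⊤)) ∈ _
  rw [map_sum]
  refine sum_mem fun j _ => ?_
  obtain ⟨c, hc, -⟩ := hi.exists_eq le_rfl (sec (s j) U)
  refine ⟨X.presheaf.germ U y hy c • germM A ⊤ y trivial (a j),
    Submodule.smul_mem _ _ (Submodule.subset_span ⟨a j, rfl⟩), ?_⟩
  rw [map_smul, stalkLin_germ, ← germM_res_eq _ (le_top : U ≤ ⊤) y hy ((mulSecHom L (s i) A).app ⊤ (a j)),
    ← germM_smul]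
  refine Eq.trans ?_ (germM_res_eq (CohB1.tensorMod A L) (le_top : U ≤ ⊤) y hy _)
  refine congrArg (germM _ U y hy) ?_
  show c • res _ le_top (tmul (a j) (sec (s i) ⊤)) = res _ le_top (tmul (a j) (sec (s j) ⊤))
  rw [res_tmul, res_tmul, sec_res, sec_res, hc, res_self, tmul_smul_right]

end General

namespace Pn

open Twist

variable {n : ℕ}

theorem globSpan_twist {R : Type u} [CommRing R] (c : ℕ) (y : CohB1.ProjSpace n R) :
    globSpan (twistProjSpace n R (c : ℤ)) y = ⊤ := by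
  obtain ⟨i, hi⟩ := Opens.mem_iSup.mp ((iSup_stdOpen n R).ge (trivial : y ∈ (⊤ : (CohB1.ProjSpace n R).Opens)))
  have hX := X_mem_polyGrading n R i
  let σ : Γ(twistProjSpace n R (c : ℤ), ⊤) :=
    globalOf (𝒜 := CohB1.polyGrading n R) (i := c)
      ⟨MvPolynomial.X i ^ c, by simpa using SetLike.pow_mem_graded c hX⟩
  have hσ : res _ le_top σ = powGen (𝒜 := CohB1.polyGrading n R) hX (c : ℤ) :=
    sectN_ext (𝒜 := CohB1.polyGrading n R) fun x => by
      refine Eq.trans ?_ (unitSec_coe hX (c : ℤ) _ _ x).symm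
      rw [zpow_natCast, Units.val_pow_eq_pow_val, val_unitAt, ← map_pow]
      rfl
  refine top_le_iff.mp fun t _ => ?_
  obtain ⟨U, hyU, m, rfl⟩ := exists_germM_eq (twistProjSpace n R (c : ℤ)) y t
  obtain ⟨a, ha, -⟩ := (isGen_powGen (𝒜 := CohB1.polyGrading n R) hX (c : ℤ)).exists_eq
    (inf_le_left : stdOpen n R i ⊓ U ≤ _) (res _ inf_le_right m)
  have hmem : ∀ (V : (CohB1.ProjSpace n R).Opens) (hV : V ≤ stdOpen n R i) (hy : y ∈ V) (c' : Γ(CohB1.ProjSpace n R, V)),
      germM (twistProjSpace n R (c : ℤ)) V y hy (c' • res _ hV (res _ le_top σ)) ∈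
        globSpan (twistProjSpace n R (c : ℤ)) y := fun V hV hy c' => by
    rw [germM_smul, germM_res_eq, germM_res_eq]
    exact Submodule.smul_mem _ _ (Submodule.subset_span ⟨σ, rfl⟩)
  have h0 := hmem _ (inf_le_left : stdOpen n R i ⊓ U ≤ _) ⟨hi, hyU⟩ a
  rw [hσ] at h0
  exact (germM_res_eq (twistProjSpace n R (c : ℤ)) (inf_le_right : stdOpen n R i ⊓ U ≤ U) y ⟨hi, hyU⟩ m) ▸
    ((congrArg (germM (twistProjSpace n R (c : ℤ)) (stdOpen n R i ⊓ U) y ⟨hi, hyU⟩) ha).symm ▸ h0)

variable {k : Type u} [Field k]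

theorem globSpan_eventually {F : (CohB1.ProjSpace n k).Modules} (hF : Coh.IsCoh F) :
    ∃ d₀ : ℤ, ∀ d : ℤ, d₀ ≤ d → ∀ y, globSpan (twF F d) y = ⊤ := by
  obtain ⟨κ, hκ, e, S, hS, -, hE, rfl⟩ := exists_presentation F hF
  obtain ⟨M, hM⟩ := (Set.finite_range e).bddAbove
  refine ⟨M, fun d hd y => ?_⟩
  have : Epi (S.map (twFun n k d)).g := (shortExact_tw hS d).epi_g
  refine globSpan_eq_top_of_epi (S.map (twFun n k d)).g y ?_
  show globSpan (twF S.X₂ d) y = ⊤
  rw [hE]
  refine globSpan_eq_top_of_epi (twSigma _ d).inv y (globSpan_sigma_eq_top _ y fun j => ?_)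
  have := hM ⟨j, rfl⟩
  refine globSpan_eq_top_of_epi ((nonempty_twistProjSpace_tensor n k (-(e j : ℤ)) d).some.trans
    (eqToIso (congrArg (twistProjSpace n k) (show -(e j : ℤ) + d = ((d - e j).toNat : ℤ) by omega)))).inv
    y (globSpan_twist _ y)

theorem globSpan_of_isMRegular {F : (CohB1.ProjSpace n k).Modules} (hF : Coh.IsCoh F) {m : ℤ}
    (h : Curv2.IsMRegular k n F m) (y : CohB1.ProjSpace n k) : globSpan (twF F m) y = ⊤ := by
  obtain ⟨d₀, hd₀⟩ := globSpan_eventually hF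
  suffices H : ∀ (c : ℕ) (d : ℤ), m ≤ d → d₀ ≤ d + c → globSpan (twF F d) y = ⊤ from
    H (d₀ - m).toNat m le_rfl (by omega)
  intro c
  induction c with
  | zero => exact fun d _ hd => hd₀ d (by simpa using hd) y
  | succ c ih =>
    intro d hmd hd
    have hreg : Curv2.IsMRegular k n (twF F d) 0 :=
      isMRegular_twF d (isMRegular_of_le hF.1 h hmd) (zero_add d)
    obtain ⟨i, hi⟩ := Opens.mem_iSup.mp
      ((iSup_stdOpen n k).ge (trivial : y ∈ (⊤ : (CohB1.ProjSpace n k).Opens)))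
    refine globSpan_descend (fun j => homOfSec (xSec (R := k) j)) (fun x => ?_) i (stdOpen n k i) ?_ y hi ?_
    · obtain ⟨a, ha⟩ := exists_sections_eq_sum_tmul (isQCoh_tw F hF.1 d) hreg x
      exact ⟨a, ha.trans (Finset.sum_congr rfl fun j _ => congrArg (tmul (a j))
        (by rw [sec_homOfSec, res_self]))⟩
    · rw [sec_homOfSec]; exact isGen_xSec i
    · exact globSpan_eq_top_of_epi (twTw F d 1 (d + 1) rfl).inv y
        (ih (d + 1) (by omega) (by push_cast at hd; omega))

theorem isGloballyGenerated_of_isMRegular {F : (CohB1.ProjSpace n k).Modules} (hF : Coh.IsCoh F) {m : ℤ}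
    (h : Curv2.IsMRegular k n F m) : Curv2.IsGloballyGenerated (twF F m) :=
  isGloballyGenerated_of_globSpan (globSpan_of_isMRegular hF h)

end Pn

end Groth.Agent.ProjTwist
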