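import Groth.Agent.ProjTwist.Pn.GlobGen

/-!
One step of the linear resolution: `F` is `m`-regular iff it is a quotient of `O(-m)^b` with
`(m+1)`-regular kernel.
-/

set_option autoImplicit false

open CategoryTheory CategoryTheory.Limits AlgebraicGeometry TopologicalSpace Opposite

universe u

noncomputable section

namespace Groth.Agent.ProjTwist.Pn

open Twist Groth.Agent.Props.GenLocus Groth.Agent.PullStalk.Sky Groth.Agent.PullStalk.Exact

variable {n : ℕ} {k : Type u} [Field k]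

theorem subsingleton_twist_of_le (i : ℕ) (hi : 1 ≤ i) {d : ℤ} (hd : -(n : ℤ) ≤ d) :
    Subsingleton (Coh.HH (CohB1.ProjSpace n k) (twistProjSpace n k d) i) := by
  obtain ⟨q, rfl⟩ := Nat.exists_eq_add_of_le' hi
  exact subsingleton_twist d q (Or.inr (by omega))

theorem subsingleton_sum_twist (b : ℕ) (m d : ℤ) (i : ℕ) (hi : 1 ≤ i) (hd : -(n : ℤ) ≤ -m + d) :
    Subsingleton (Coh.HH (CohB1.ProjSpace n k)
      (twF (∐ fun _ : Fin b => twistProjSpace n k (-m)) d) i) := by
  let e : (∐ fun _ : Fin b => twistProjSpace n k (-m)) ≅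
      ∐ fun _ : ULift.{u} (Fin b) => twistProjSpace n k (-m) :=
    (Sigma.reindex (Equiv.ulift.{u}) fun _ : Fin b => twistProjSpace n k (-m)).symm
  have : ∀ _j : ULift.{u} (Fin b), Subsingleton (Coh.HH (CohB1.ProjSpace n k)
      (twF (twistProjSpace n k (-m)) d) i) := fun _ => by
    have := subsingleton_twist_of_le (n := n) (k := k) i hi hd
    exact subsingleton_of_iso (nonempty_twistProjSpace_tensor n k (-m) d).some.symm i
  have := @CohLin.subsingleton_sigma _ (ULift.{u} (Fin b)) _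
    (fun _ => twF (twistProjSpace n k (-m)) d) i this
  have := subsingleton_of_iso (twSigma (fun _ : ULift.{u} (Fin b) => twistProjSpace n k (-m)) d).symm i
  exact subsingleton_of_iso (twCongr e d).symm i

theorem isMRegular_of_epi {F : (CohB1.ProjSpace n k).Modules} {m : ℤ} (b : ℕ)
    (φ : (∐ fun _ : Fin b => twistProjSpace n k (-m)) ⟶ F) [Epi φ]
    (hK : Coh.IsQCoh (kernel φ)) (h : Curv2.IsMRegular k n (kernel φ) (m + 1)) :
    Curv2.IsMRegular k n F m := fun i hi hin => by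
  have hS := shortExact_tw (shortExact_kernel φ) (m - i)
  have : Subsingleton (Coh.HH (CohB1.ProjSpace n k) ((ShortComplex.mk (kernel.ι φ) φ
      (kernel.condition φ)).map (twFun n k (m - i))).X₂ i) :=
    subsingleton_sum_twist b m _ i hi (by omega)
  have : Subsingleton (Coh.HH (CohB1.ProjSpace n k) ((ShortComplex.mk (kernel.ι φ) φ
      (kernel.condition φ)).map (twFun n k (m - i))).X₁ (i + 1)) :=
    subsingleton_of_isMRegular hK h (Nat.le_add_left 1 i) (by push_cast; ring)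
  exact CohLin.subsingleton_X₃ hS

theorem exists_surjective_sum {F : (CohB1.ProjSpace n k).Modules} (hF : Coh.IsCoh F) :
    ∃ (b : ℕ) (ψ : (∐ fun _ : Fin b => Coh.structureModule (CohB1.ProjSpace n k)) ⟶ F),
      Function.Surjective (CohLin.hMap ψ 0) := by
  haveI := finite_cohomology F hF 0
  obtain ⟨b, s, hs⟩ := Module.Finite.exists_fin (R := k) (M := Coh.HH (CohB1.ProjSpace n k) F 0)
  let ψ : (∐ fun _ : Fin b => Coh.structureModule (CohB1.ProjSpace n k)) ⟶ F :=
    Sigma.desc fun l => homOfSec (ProperFin.h0Sec F (s l))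
  refine ⟨b, ψ, fun x => ?_⟩
  have hx : x ∈ Submodule.span k (Set.range s) := hs ▸ Submodule.mem_top
  refine (?_ : Submodule.span k (Set.range s) ≤ LinearMap.range (CohLin.overLin k (CohLin.hMap ψ 0))) hx
  rw [Submodule.span_le]
  rintro _ ⟨l, rfl⟩
  let one : Γ(Coh.structureModule (CohB1.ProjSpace n k), ⊤) := one' ⊤
  refine ⟨CohLin.hMap (Sigma.ι (fun _ : Fin b => Coh.structureModule (CohB1.ProjSpace n k)) l) 0
    ((ProperFin.h0Sec _).symm one), ?_⟩
  show CohLin.hMap ψ 0 _ = s l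
  rw [← CohLin.hMap_comp, Sigma.ι_desc]
  apply (ProperFin.h0Sec F).injective
  refine (ProperFin.h0Sec_hMap _ _).trans ?_
  rw [AddEquiv.apply_symm_apply]
  exact (sec_homOfSec (ProperFin.h0Sec F (s l)) ⊤).trans (QCoh.res_self _ _ _)

theorem epi_of_globSpan {X : Scheme.{u}} {G H : X.Modules} (ψ : G ⟶ H) (h : ∀ y, globSpan H y = ⊤)
    (hs : Function.Surjective (CohLin.hMap ψ 0)) : Epi ψ := by
  refine Omega.Stalks.epi_of_stalk fun y t => ?_
  have ht : t ∈ LinearMap.range (stalkLin ψ y) := by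
    refine (?_ : globSpan H y ≤ _) (h y ▸ Submodule.mem_top)
    rw [globSpan, Submodule.span_le]
    rintro _ ⟨σ, rfl⟩
    obtain ⟨a, ha⟩ := hs ((ProperFin.h0Sec H).symm σ)
    refine ⟨germM G ⊤ y trivial (ProperFin.h0Sec G a), ?_⟩
    rw [stalkLin_germ]
    refine congrArg (germM H ⊤ y trivial) ?_
    rw [← ProperFin.h0Sec_hMap, ha, AddEquiv.apply_symm_apply]
  exact ht

/-- transporting a short exact sequence along isomorphisms -/
theorem kernel_iso_of_shortExact {X : Scheme.{u}} {S : ShortComplex X.Modules} (hS : S.ShortExact)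
    {A B : X.Modules} (a : A ≅ S.X₂) (b : S.X₃ ≅ B) (φ : A ⟶ B) (h : φ = a.hom ≫ S.g ≫ b.hom) :
    Nonempty (kernel φ ≅ S.X₁) :=
  ⟨kernel.mapIso φ S.g a b.symm (by rw [h]; simp) ≪≫
    (limit.isLimit _).conePointUniqueUpToIso hS.fIsKernel⟩

theorem surjective_of_natIso' {X : Scheme.{u}} {T : X.Modules ⥤ X.Modules} (ν : T ≅ 𝟭 X.Modules)
    {B G : X.Modules} (σ : B ⟶ G) (h : Function.Surjective (CohLin.hMap σ 0)) :
    Function.Surjective (CohLin.hMap (T.map σ) 0) := fun y => by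
  obtain ⟨x, hx⟩ := h (CohLin.hMap (ν.hom.app G) 0 y)
  refine ⟨CohLin.hMap (ν.inv.app B) 0 x, ?_⟩
  rw [← CohLin.hMap_comp, show ν.inv.app B ≫ T.map σ = σ ≫ ν.inv.app G from (ν.inv.naturality σ).symm,
    CohLin.hMap_comp, hx, ← CohLin.hMap_comp, ν.hom_inv_id_app G]
  exact CohLin.hMap_id _ 0 y

theorem exists_epi_of_isMRegular {F : (CohB1.ProjSpace n k).Modules} (hF : Coh.IsCoh F) {m : ℤ}
    (h : Curv2.IsMRegular k n F m) :
    ∃ (b : ℕ) (φ : (∐ fun _ : Fin b => twistProjSpace n k (-m)) ⟶ F),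
      Epi φ ∧ Curv2.IsMRegular k n (kernel φ) (m + 1) := by
  classical
  let G := twF F m
  have hG : Coh.IsCoh G := isCoh_tw hF m
  have hG0 : Curv2.IsMRegular k n G 0 := isMRegular_twF m h (zero_add m)
  obtain ⟨b, ψ, hψ⟩ := exists_surjective_sum hG
  have hgg : ∀ y, globSpan G y = ⊤ := fun y => globSpan_of_isMRegular hF h y
  haveI : Epi ψ := epi_of_globSpan ψ hgg hψ
  let S₀ : ShortComplex (CohB1.ProjSpace n k).Modules := ShortComplex.mk (kernel.ι ψ) ψ (kernel.condition ψ)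
  have hS₀ : S₀.ShortExact := shortExact_kernel ψ
  let a : (∐ fun _ : Fin b => twistProjSpace n k (-m)) ≅ (twFun n k (-m)).obj S₀.X₂ :=
    haveI : PreservesColimitsOfSize.{u, u} (twFun n k (-m)) := preservesColimits_tensorFlip _ _
    haveI : PreservesColimitsOfShape (Discrete (Fin b)) (twFun n k (-m)) :=
      preservesColimitsOfShape_of_equiv (Discrete.equivalence (Equiv.ulift.{u} (α := Fin b))) _
    Sigma.mapIso (fun _ : Fin b => (oneTens (twistProjSpace n k (-m))).symm) ≪≫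
      (PreservesCoproduct.iso (twFun n k (-m)) fun _ : Fin b => Coh.structureModule (CohB1.ProjSpace n k)).symm
  let e : (twFun n k (-m)).obj S₀.X₃ ≅ F := twTw F m (-m) 0 (add_neg_cancel m) ≪≫ twZero F
  let φ := a.hom ≫ (S₀.map (twFun n k (-m))).g ≫ e.hom
  have hT := shortExact_tw hS₀ (-m)
  haveI : Epi (S₀.map (twFun n k (-m))).g := hT.epi_g
  have hφe : Epi φ := epi_comp' inferInstance (epi_comp' hT.epi_g inferInstance)
  refine ⟨b, φ, hφe, ?_⟩
  obtain ⟨eK⟩ := kernel_iso_of_shortExact hT a e φ rfl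
  intro i hi hin
  -- `H^i(K(1-i)) = 0` for `K = kernel ψ`
  have hK : Subsingleton (Coh.HH (CohB1.ProjSpace n k) (S₀.map (twFun n k (1 - i))).X₁ i) := by
    have hT' := shortExact_tw hS₀ (1 - i)
    obtain ⟨q, rfl⟩ := Nat.exists_eq_add_of_le' hi
    refine subsingleton_of_forall_eq 0 fun x => ?_
    have : Subsingleton (Coh.HH (CohB1.ProjSpace n k) (S₀.map (twFun n k (1 - ((q + 1 : ℕ) : ℤ)))).X₂ (q + 1)) := by
      have hb := subsingleton_sum_twist (n := n) (k := k) b 0 (1 - ((q + 1 : ℕ) : ℤ)) (q + 1) hi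
        (by push_cast; omega)
      exact subsingleton_of_iso (twCongr (Sigma.mapIso fun _ : Fin b =>
        eqToIso (congrArg (twistProjSpace n k) neg_zero) ≪≫
          (twistZeroIso (CohB1.polyGrading n k)).symm) _) (q + 1)
    obtain ⟨y, rfl⟩ := CohLin.exists_hδ_eq hT' x (Subsingleton.elim _ _)
    rcases Nat.eq_zero_or_pos q with rfl | hq
    · obtain ⟨z, rfl⟩ : ∃ z, CohLin.hMap (S₀.map (twFun n k (1 - ((0 + 1 : ℕ) : ℤ)))).g 0 z = y := by
        have hd : (1 - ((0 + 1 : ℕ) : ℤ)) = 0 := by norm_num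
        refine (show Function.Surjective (CohLin.hMap ((twFun n k (1 - ((0 + 1 : ℕ) : ℤ))).map ψ) 0) from ?_) y
        rw [hd]
        exact surjective_of_natIso' twZeroNat ψ hψ
      exact CohLin.hδ_hMap_g hT' z
    · have : Subsingleton (Coh.HH (CohB1.ProjSpace n k) (S₀.map (twFun n k (1 - ((q + 1 : ℕ) : ℤ)))).X₃ q) :=
        subsingleton_of_isMRegular hG.1 hG0 hq (by push_cast; ring)
      rw [Subsingleton.elim y 0, map_zero]
  have hK' : Subsingleton (Coh.HH (CohB1.ProjSpace n k) (twF (twF (kernel ψ) (-m)) (m + 1 - i)) i) :=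
    @subsingleton_of_iso _ _ _ _ _ (twTw (kernel ψ) (-m) (m + 1 - i) (1 - i) (by ring)).symm i hK
  exact @subsingleton_of_iso _ _ _ (twF (twF (kernel ψ) (-m)) (m + 1 - i)) _ (twCongr eK.symm (m + 1 - i)) i hK' 

end Groth.Agent.ProjTwist.Pn
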