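import Groth.Agent.Omega.Stalks
import Groth.Agent.CohDev.Tensor
import Groth.Agent.Omega.ProdDiff

/-!
Koszul complexes of commuting multiplications, built as iterated cones of natural transformations
`τ : T ⟶ 𝟭`, and their exactness at a point where one of the `τ`'s is bijective on stalks.
-/

set_option autoImplicit false

open CategoryTheory CategoryTheory.Limits AlgebraicGeometry TopologicalSpace Opposite

universe u

noncomputable section

namespace Groth.Agent.ProjTwist.Kosz

open Groth.Agent.PullStalk.Sky Groth.Agent.PullStalk.Exact Groth.Agent.Omega.Stalks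

variable {S : Scheme.{u}}

/-- the terms of an augmented complex `… → Y 1 → Y 0 → F` -/
@[reducible]
def term (F : S.Modules) (Y : ℕ → S.Modules) : ℕ → S.Modules
  | 0 => F
  | p + 1 => Y p

/-- an augmented complex `… → Y 1 → Y 0 → F` -/
structure AugCx (F : S.Modules) where
  /-- the terms in positive degrees -/
  Y : ℕ → S.Modules
  /-- the differentials -/
  d : ∀ p, Y p ⟶ term F Y p
  dd : ∀ p, d (p + 1) ≫ d p = 0

variable {F : S.Modules}

/-- exactness of the complex at a point -/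
def AugCx.ExactAt (K : AugCx F) (y : S) : Prop :=
  Function.Surjective (stalkLin (K.d 0) y) ∧
    ∀ p (t : (K.Y p).presheaf.stalk y), stalkLin (K.d p) y t = 0 →
      ∃ u, stalkLin (K.d (p + 1)) y u = t

/-- the complex `F` in degree zero -/
def AugCx.triv (F : S.Modules) [HasZeroObject S.Modules] : AugCx F where
  Y _ := ⊤_ S.Modules
  d _ := 0
  dd _ := zero_comp

variable {T : S.Modules ⥤ S.Modules} [T.Additive]

/-- the terms of the cone in positive degrees -/
abbrev coneY (K : AugCx F) (p : ℕ) : S.Modules := K.Y p ⊞ T.obj (term F K.Y p)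

/-- `τ` at a module, typed without the identity functor -/
def ta (τ : T ⟶ 𝟭 S.Modules) (M : S.Modules) : T.obj M ⟶ M := τ.app M

theorem ta_naturality (τ : T ⟶ 𝟭 S.Modules) {M N : S.Modules} (φ : M ⟶ N) :
    T.map φ ≫ ta τ N = ta τ M ≫ φ := τ.naturality φ

/-- projection of the terms of the cone to the terms of the complex -/
def conePr (K : AugCx F) : ∀ p, term F (coneY (T := T) K) p ⟶ term F K.Y p
  | 0 => 𝟙 F
  | _ + 1 => biprod.fst

/-- inclusion of the terms of the complex in the terms of the cone -/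
def coneIn (K : AugCx F) : ∀ p, term F K.Y p ⟶ term F (coneY (T := T) K) p
  | 0 => 𝟙 F
  | _ + 1 => biprod.inl

/-- the component `T X → T X'` of the differential of the cone -/
def coneShift (K : AugCx F) : ∀ p, T.obj (term F K.Y p) ⟶ term F (coneY (T := T) K) p
  | 0 => 0
  | p + 1 => T.map (K.d p) ≫ biprod.inr

theorem coneIn_pr (K : AugCx F) : ∀ p, coneIn (T := T) K p ≫ conePr K p = 𝟙 _
  | 0 => Category.id_comp _
  | _ + 1 => biprod.inl_fst

theorem coneShift_pr (K : AugCx F) : ∀ p, coneShift (T := T) K p ≫ conePr K p = 0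
  | 0 => zero_comp
  | _ + 1 => by simp [coneShift, conePr]

/-- the differential of the cone -/
def coneD (K : AugCx F) (τ : T ⟶ 𝟭 S.Modules) (p : ℕ) :
    coneY (T := T) K p ⟶ term F (coneY (T := T) K) p :=
  biprod.desc (K.d p ≫ coneIn K p) (ta τ (term F K.Y p) ≫ coneIn K p - coneShift K p)

theorem coneShift_map (K : AugCx F) : ∀ p, T.map (K.d p) ≫ coneShift (T := T) K p = 0
  | 0 => comp_zero
  | q + 1 => by
    show T.map _ ≫ T.map _ ≫ biprod.inr = 0
    rw [← Category.assoc, ← T.map_comp, K.dd, T.map_zero, zero_comp]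

theorem coneD_pr (K : AugCx F) (τ : T ⟶ 𝟭 S.Modules) (p : ℕ) :
    coneD K τ p ≫ conePr K p = biprod.desc (K.d p) (ta τ (term F K.Y p)) := by
  apply biprod.hom_ext'
  · rw [coneD, biprod.inl_desc_assoc, Category.assoc, coneIn_pr, Category.comp_id, biprod.inl_desc]
  · rw [coneD, biprod.inr_desc_assoc, Preadditive.sub_comp, Category.assoc, coneIn_pr, coneShift_pr,
      Category.comp_id, sub_zero, biprod.inr_desc]

/-- the cone of `τ` on an augmented complex -/
def AugCx.cone (K : AugCx F) (τ : T ⟶ 𝟭 S.Modules) : AugCx F where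
  Y := coneY (T := T) K
  d := coneD K τ
  dd p := by
    have hin : ∀ {A : S.Modules} (g : A ⟶ K.Y p),
        g ≫ coneIn (T := T) K (p + 1) ≫ coneD K τ p = g ≫ K.d p ≫ coneIn K p := fun g => by
      rw [coneD]
      exact congrArg (g ≫ ·) (biprod.inl_desc _ _)
    apply biprod.hom_ext'
    · rw [comp_zero, coneD, biprod.inl_desc_assoc, Category.assoc, hin, ← Category.assoc, K.dd,
        zero_comp]
    · rw [comp_zero, coneD, biprod.inr_desc_assoc, Preadditive.sub_comp, Category.assoc, hin,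
        show coneShift (T := T) K (p + 1) = T.map (K.d p) ≫ biprod.inr from rfl, Category.assoc,
        coneD, biprod.inr_desc, Preadditive.comp_sub, coneShift_map, sub_zero, sub_eq_zero,
        ← Category.assoc, ← Category.assoc, ta_naturality]

/-- the iterated cone on a list of multiplications -/
def kosz (F : S.Modules) : List (T ⟶ 𝟭 S.Modules) → AugCx F
  | [] => AugCx.triv F
  | τ :: l => (kosz F l).cone τ

/-- `τ` is bijective on all stalks at `y` -/
def BijAt (τ : T ⟶ 𝟭 S.Modules) (y : S) : Prop :=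
  ∀ M : S.Modules, Function.Bijective (stalkLin (ta τ M) y)

theorem stalkLin_comp' {M N P : S.Modules} (φ : M ⟶ N) (ψ : N ⟶ P) (y : S) (t : M.presheaf.stalk y) :
    stalkLin ψ y (stalkLin φ y t) = stalkLin (φ ≫ ψ) y t := (stalkLin_comp φ ψ y t).symm

theorem stalkLin_sub {M N : S.Modules} (φ ψ : M ⟶ N) (y : S) (t : M.presheaf.stalk y) :
    stalkLin (φ - ψ) y t = stalkLin φ y t - stalkLin ψ y t := by
  rw [eq_sub_iff_add_eq, ← Groth.Agent.Omega.ProdDiff.stalkLin_add, sub_add_cancel]

theorem biprod_decomp {A B : S.Modules} (y : S) (t : (A ⊞ B).presheaf.stalk y) :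
    stalkLin (biprod.inl : A ⟶ A ⊞ B) y (stalkLin biprod.fst y t) +
      stalkLin (biprod.inr : B ⟶ A ⊞ B) y (stalkLin biprod.snd y t) = t := by
  rw [stalkLin_comp', stalkLin_comp', ← Groth.Agent.Omega.ProdDiff.stalkLin_add, biprod.total,
    Groth.Agent.Omega.ProdDiff.stalkLin_id]

theorem cone_d_apply (K : AugCx F) (τ : T ⟶ 𝟭 S.Modules) (y : S) (p : ℕ)
    (a : (K.Y p).presheaf.stalk y) (b : (T.obj (term F K.Y p)).presheaf.stalk y) :
    stalkLin ((K.cone τ).d p) y
        (stalkLin (biprod.inl : K.Y p ⟶ coneY (T := T) K p) y a +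
          stalkLin (biprod.inr : _ ⟶ coneY (T := T) K p) y b) =
      stalkLin (coneIn (T := T) K p) y (stalkLin (K.d p) y a + stalkLin (ta τ (term F K.Y p)) y b) -
        stalkLin (coneShift (T := T) K p) y b := by
  show stalkLin (coneD K τ p) y _ = _
  rw [map_add, stalkLin_comp', stalkLin_comp', coneD, biprod.inl_desc, biprod.inr_desc, stalkLin_sub,
    map_add, stalkLin_comp', stalkLin_comp']
  abel

theorem coneIn_sub_coneShift (K : AugCx F) (y : S) (p : ℕ) (x : (K.Y p).presheaf.stalk y)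
    (c : (T.obj (K.Y p)).presheaf.stalk y) :
    (stalkLin (coneIn (T := T) K (p + 1)) y x - stalkLin (coneShift (T := T) K (p + 1)) y c :
        (coneY (T := T) K p).presheaf.stalk y) =
      stalkLin (biprod.inl : K.Y p ⟶ coneY (T := T) K p) y x +
        stalkLin (biprod.inr : _ ⟶ coneY (T := T) K p) y (-(stalkLin (T.map (K.d p)) y c)) := by
  rw [map_neg, ← sub_eq_add_neg, stalkLin_comp' (T.map (K.d p))]
  rfl

theorem cycle_eqs (K : AugCx F) (τ : T ⟶ 𝟭 S.Modules) (y : S) (p : ℕ)
    (t : (coneY (T := T) K p).presheaf.stalk y) (ht : stalkLin (coneD K τ p) y t = 0) :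
    stalkLin (K.d p) y (stalkLin (biprod.fst : coneY (T := T) K p ⟶ K.Y p) y t) +
      stalkLin (ta τ (term F K.Y p)) y (stalkLin (biprod.snd : coneY (T := T) K p ⟶ _) y t) = 0 ∧
    stalkLin (coneShift (T := T) K p) y (stalkLin (biprod.snd : coneY (T := T) K p ⟶ _) y t) = 0 := by
  have h := cone_d_apply K τ y p (stalkLin (biprod.fst : coneY (T := T) K p ⟶ K.Y p) y t)
    (stalkLin (biprod.snd : coneY (T := T) K p ⟶ _) y t)
  rw [biprod_decomp] at h
  have h0 : (0 : (term F (coneY (T := T) K) p).presheaf.stalk y) = _ := ht.symm.trans h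
  have hfst : stalkLin (K.d p) y (stalkLin (biprod.fst : coneY (T := T) K p ⟶ K.Y p) y t) +
      stalkLin (ta τ (term F K.Y p)) y (stalkLin (biprod.snd : coneY (T := T) K p ⟶ _) y t) = 0 := by
    have h' := congrArg (stalkLin (conePr (T := T) K p) y) h0
    rw [map_zero, map_sub, stalkLin_comp', stalkLin_comp' (coneShift K p), coneIn_pr, coneShift_pr,
      stalkLin_zero, sub_zero, Groth.Agent.Omega.ProdDiff.stalkLin_id] at h'
    exact h'.symm
  refine ⟨hfst, ?_⟩
  rw [hfst, map_zero, zero_sub, eq_comm, neg_eq_zero] at h0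
  exact h0

theorem exactAt_cone_of_bij (K : AugCx F) (τ : T ⟶ 𝟭 S.Modules) (y : S) (hτ : BijAt τ y) :
    (K.cone τ).ExactAt y := by
  refine ⟨fun t => ?_, fun p t ht => ?_⟩
  · obtain ⟨b, hb⟩ := (hτ F).2 t
    refine ⟨stalkLin (biprod.inl : K.Y 0 ⟶ coneY (T := T) K 0) y 0 +
      stalkLin (biprod.inr : _ ⟶ coneY (T := T) K 0) y b, ?_⟩
    refine (cone_d_apply K τ y 0 0 b).trans ?_
    rw [map_zero, zero_add]
    show stalkLin (𝟙 F) y (stalkLin (ta τ F) y b) - stalkLin (0 : T.obj F ⟶ F) y b = t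
    rw [Groth.Agent.Omega.ProdDiff.stalkLin_id, stalkLin_zero, sub_zero]
    exact hb
  · have ht' := (cycle_eqs K τ y p t ht).1
    obtain ⟨b, hb⟩ := (hτ (K.Y p)).2 (stalkLin (biprod.fst : coneY (T := T) K p ⟶ K.Y p) y t)
    refine ⟨stalkLin (biprod.inl : K.Y (p + 1) ⟶ coneY (T := T) K (p + 1)) y 0 +
      stalkLin (biprod.inr : _ ⟶ coneY (T := T) K (p + 1)) y b, ?_⟩
    refine (cone_d_apply K τ y (p + 1) 0 b).trans ?_
    rw [map_zero, zero_add]
    refine (coneIn_sub_coneShift K y p _ b).trans ?_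
    conv_rhs => rw [← biprod_decomp y t]
    rw [hb]
    refine congrArg (fun z => _ + stalkLin (biprod.inr : _ ⟶ coneY (T := T) K p) y z)
      ((hτ (term F K.Y p)).1 ?_)
    change stalkLin (ta τ (term F K.Y p)) y _ = stalkLin (ta τ (term F K.Y p)) y _
    rw [map_neg, stalkLin_comp', ta_naturality τ (K.d p), ← stalkLin_comp']
    change -stalkLin (K.d p) y (stalkLin (ta τ (K.Y p)) y b) = _
    rw [hb]
    exact neg_eq_of_add_eq_zero_right ht'

theorem exactAt_cone (K : AugCx F) (τ τ' : T ⟶ 𝟭 S.Modules) (y : S) (hτ' : BijAt τ' y)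
    (hK : K.ExactAt y) : (K.cone τ).ExactAt y := by
  refine ⟨fun t => ?_, fun p t ht => ?_⟩
  · obtain ⟨a, ha⟩ := hK.1 t
    refine ⟨stalkLin (biprod.inl : K.Y 0 ⟶ coneY (T := T) K 0) y a +
      stalkLin (biprod.inr : _ ⟶ coneY (T := T) K 0) y 0, ?_⟩
    refine (cone_d_apply K τ y 0 a 0).trans ?_
    rw [map_zero, map_zero, add_zero, sub_zero]
    show stalkLin (𝟙 F) y _ = t
    rw [Groth.Agent.Omega.ProdDiff.stalkLin_id]
    exact ha
  · let a := stalkLin (biprod.fst : coneY (T := T) K p ⟶ K.Y p) y t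
    let b := stalkLin (biprod.snd : coneY (T := T) K p ⟶ _) y t
    have hab := biprod_decomp y t
    have ha : stalkLin (K.d p) y a + stalkLin (ta τ (term F K.Y p)) y b = 0 :=
      (cycle_eqs K τ y p t ht).1
    obtain ⟨c, hc⟩ : ∃ c, stalkLin (T.map (K.d p)) y c = b := by
      obtain ⟨c₀, hc₀⟩ : ∃ c₀, stalkLin (K.d p) y c₀ = stalkLin (ta τ' (term F K.Y p)) y b := by
        cases p with
        | zero => exact hK.1 _
        | succ q =>
          refine hK.2 q _ ?_
          have hTb : stalkLin (T.map (K.d q)) y b = 0 := by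
            have h' := congrArg (stalkLin (biprod.snd : coneY (T := T) K q ⟶ _) y)
              (cycle_eqs K τ y (q + 1) t ht).2
            rw [show coneShift (T := T) K (q + 1) = T.map (K.d q) ≫ biprod.inr from rfl, map_zero,
              stalkLin_comp', Category.assoc, biprod.inr_snd, Category.comp_id] at h'
            exact h'
          rw [stalkLin_comp', ← show T.map (K.d q) ≫ ta τ' (term F K.Y q) = ta τ' (K.Y q) ≫ K.d q from
            ta_naturality τ' (K.d q), ← stalkLin_comp', hTb, map_zero]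
      obtain ⟨c, rfl⟩ := (hτ' (K.Y p)).2 c₀
      refine ⟨c, (hτ' (term F K.Y p)).1 ?_⟩
      change stalkLin (ta τ' (term F K.Y p)) y _ = stalkLin (ta τ' (term F K.Y p)) y _
      rw [← hc₀, stalkLin_comp', stalkLin_comp', ta_naturality τ' (K.d p)]
    obtain ⟨e, he⟩ : ∃ e, stalkLin (K.d (p + 1)) y e = a + stalkLin (ta τ (K.Y p)) y c := by
      refine hK.2 p _ ?_
      rw [map_add, stalkLin_comp' (ta τ (K.Y p)), ← show T.map (K.d p) ≫ ta τ (term F K.Y p) =
        ta τ (K.Y p) ≫ K.d p from ta_naturality τ (K.d p), ← stalkLin_comp', hc]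
      exact ha
    refine ⟨stalkLin (biprod.inl : K.Y (p + 1) ⟶ coneY (T := T) K (p + 1)) y e +
      stalkLin (biprod.inr : _ ⟶ coneY (T := T) K (p + 1)) y (-c), ?_⟩
    refine (cone_d_apply K τ y (p + 1) e (-c)).trans ?_
    refine (coneIn_sub_coneShift K y p _ (-c)).trans ?_
    rw [he, map_neg (stalkLin (ta τ (K.Y p)) y), add_neg_cancel_right,
      map_neg (stalkLin (T.map (K.d p)) y), hc, neg_neg]
    exact hab

theorem exactAt_kosz (F : S.Modules) : ∀ (l : List (T ⟶ 𝟭 S.Modules)) (y : S),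
    (∃ τ ∈ l, BijAt τ y) → (kosz F l).ExactAt y
  | [], _, h => by simp at h
  | τ :: l, y, ⟨τ', hmem, hτ'⟩ => by
    rcases List.mem_cons.mp hmem with rfl | hmem'
    · exact exactAt_cone_of_bij _ _ y hτ'
    · exact exactAt_cone _ τ τ' y hτ' (exactAt_kosz F l y ⟨τ', hmem', hτ'⟩)

/-- a property propagates to all terms -/
theorem kosz_term (P : ℕ → S.Modules → Prop) (h0 : P 0 F) (hzero : ∀ p (M : S.Modules), IsZero M → P p M)
    (hbiprod : ∀ p A B, P p A → P p B → P p (A ⊞ B)) (hT : ∀ p A, P p A → P (p + 1) (T.obj A)) :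
    ∀ (l : List (T ⟶ 𝟭 S.Modules)) (p : ℕ), P p (term F (kosz F l).Y p)
  | _, 0 => h0
  | [], p + 1 => hzero _ _ (IsZero.of_iso (isZero_zero _) (HasZeroObject.zeroIsoTerminal).symm)
  | _ :: l, p + 1 => hbiprod _ _ _ (kosz_term P h0 hzero hbiprod hT l (p + 1))
      (hT _ _ (kosz_term P h0 hzero hbiprod hT l p))

/-- the terms vanish above the length of the list -/
theorem isZero_kosz : ∀ (l : List (T ⟶ 𝟭 S.Modules)) (p : ℕ), l.length ≤ p → IsZero ((kosz F l).Y p)
  | [], p, _ => IsZero.of_iso (isZero_zero _) (HasZeroObject.zeroIsoTerminal).symm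
  | _ :: l, 0, h => absurd h (by simp)
  | _ :: l, p + 1, h => by
    have h' : l.length ≤ p := by simpa using h
    exact biprod_isZero_iff _ _ |>.mpr ⟨isZero_kosz l (p + 1) (h'.trans (Nat.le_succ p)),
      T.map_isZero (isZero_kosz l p h')⟩

/-- the augmentation factors through anything through which all `ta τ F` factor -/
theorem kosz_d_zero_factor : ∀ (l : List (T ⟶ 𝟭 S.Modules)) {B : S.Modules} (σ : B ⟶ F),
    (∀ τ ∈ l, ∃ ι : T.obj F ⟶ B, ι ≫ σ = ta τ F) → ∃ f : (kosz F l).Y 0 ⟶ B, f ≫ σ = (kosz F l).d 0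
  | [], _, σ, _ => ⟨0, zero_comp⟩
  | τ :: l, _, σ, h => by
    obtain ⟨f, hf⟩ := kosz_d_zero_factor l σ fun τ' hτ' => h τ' (List.mem_cons_of_mem _ hτ')
    obtain ⟨ι, hι⟩ := h τ List.mem_cons_self
    refine ⟨biprod.desc f ι, ?_⟩
    show biprod.desc f ι ≫ σ = coneD (kosz F l) τ 0
    refine biprod.hom_ext' _ _ ?_ ?_
    · rw [biprod.inl_desc_assoc, hf, coneD, biprod.inl_desc]
      exact (Category.comp_id _).symm
    · rw [biprod.inr_desc_assoc, hι, coneD, biprod.inr_desc]
      show ta τ F = ta τ F ≫ 𝟙 F - 0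
      rw [Category.comp_id, sub_zero]

end Groth.Agent.ProjTwist.Kosz
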