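import Groth.Agent.ProjTwist.Pn.Regular
import Groth.Agent.ProjTwist.Pn.KoszulCone
import Groth.Agent.KFlat.ProjFormula
import Groth.Agent.KoszTwLib.Tensor

/-!
Multiplication by a degree one element as a natural transformation `G(-1) ⟶ G` on `P^n_R`; it is
bijective on stalks where the element does not vanish.
-/

set_option autoImplicit false

open CategoryTheory CategoryTheory.Limits AlgebraicGeometry TopologicalSpace Opposite

universe u

noncomputable section

namespace Groth.Agent.ProjTwist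

open Twist Groth.Agent.QCoh MonoidalCategory

variable {R A : Type u} [CommRing R] [CommRing A] [Algebra R A] {𝒜 : ℕ → Submodule R A}
  [GradedAlgebra 𝒜]

/-- the degree one element `f` as a section of `O(1)` -/
def degOneSec {f : A} (hf : f ∈ 𝒜 1) (U : (Opens (ProjectiveSpectrum.top 𝒜))ᵒᵖ) :
    sectN (𝒜 := 𝒜) 1 U :=
  resN 1 (homOfLE (le_top : U.unop ≤ ⊤)).op (globalOf (𝒜 := 𝒜) (i := 1) ⟨f, hf⟩)

theorem degOneSec_coe {f : A} (hf : f ∈ 𝒜 1) (U : (Opens (ProjectiveSpectrum.top 𝒜))ᵒᵖ) (x : U.unop)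
    (hx : f ∉ x.1.asHomogeneousIdeal) :
    ((degOneSec hf U).1 x).1 = (unitAt x.1 hx : Loc 𝒜 x.1) := rfl

/-- multiplication by `f`, `O(n) ⟶ O(m)` for `m = n + 1` -/
def mulHom {f : A} (hf : f ∈ 𝒜 1) {n m : ℤ} (h : n + 1 = m) : twist 𝒜 n ⟶ twist 𝒜 m :=
  ⟨PresheafOfModules.homMk
    { app := fun U => AddCommGrpCat.ofHom
        (show sectN (𝒜 := 𝒜) n U →+ sectN (𝒜 := 𝒜) m U from
          AddMonoidHom.mk' (fun s => mulSec h s (degOneSec hf U)) fun s t => sectN_ext fun x => by
            show ((s + t).1 x).1 * _ = ((mulSec h s (degOneSec hf U) + mulSec h t (degOneSec hf U)).1 x).1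
            exact add_mul (s.1 x).1 (t.1 x).1 _)
      naturality := fun {U V} i => AddCommGrpCat.hom_ext <| AddMonoidHom.ext fun s => sectN_ext fun x => rfl }
    fun U r s => sectN_ext fun x => by
      let c : O (𝒜 := 𝒜) U := r
      let t : sectN (𝒜 := 𝒜) n U := s
      show ((c • t).1 x).1 * _ = ((c • mulSec h t (degOneSec hf U)).1 x).1
      rw [smul_coe, smul_coe, mulSec_coe]
      exact mul_assoc _ _ _⟩

theorem mulHom_app_coe {f : A} (hf : f ∈ 𝒜 1) {n m : ℤ} (h : n + 1 = m) (U : (Proj 𝒜).Opens)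
    (s : Γ(twist 𝒜 n, U)) :
    (mulHom hf h).app U s = mulSec h (U := op U) s (degOneSec hf (op U)) := rfl

theorem mulHom_app_bijective {f : A} (hf : f ∈ 𝒜 1) {n m : ℤ} (h : n + 1 = m) (V : (Proj 𝒜).Opens)
    (hV : V ≤ Proj.basicOpen 𝒜 f) : Function.Bijective ((mulHom hf h).app V) := by
  have hU : ∀ x : (op V).unop, f ∉ x.1.asHomogeneousIdeal := fun x => not_mem_of_le_basicOpen hV x
  have key : ∀ c : O (𝒜 := 𝒜) (op V),
      mulSec h (c • unitSec hf n (op V) hU) (degOneSec hf (op V)) = c • unitSec hf m (op V) hU := fun c => by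
    refine sectN_ext fun x => ?_
    rw [mulSec_coe, smul_coe, smul_coe, unitSec_coe, unitSec_coe, degOneSec_coe hf (op V) x (hU x),
      mul_assoc, ← h, zpow_add, zpow_one, Units.val_mul]
  have h₁ := bijective_smul_unitSec hf n (op V) hU
  have h₂ := bijective_smul_unitSec hf m (op V) hU
  have hcomp : Function.Bijective
      ((fun s : sectN (𝒜 := 𝒜) n (op V) => mulSec h s (degOneSec hf (op V))) ∘
        fun c : O (𝒜 := 𝒜) (op V) => c • unitSec hf n (op V) hU) := by
    convert h₂ using 1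
    exact funext key
  exact (Function.Bijective.of_comp_iff _ h₁).mp hcomp

theorem stalkLin_bijective_of_app {X : Scheme.{u}} {M N : X.Modules} (φ : M ⟶ N) (U : X.Opens)
    (h : ∀ V ≤ U, Function.Bijective (φ.app V)) (x : X) (hx : x ∈ U) :
    Function.Bijective (Groth.Agent.PullStalk.Exact.stalkLin φ x) := by
  constructor
  · refine (injective_iff_map_eq_zero _).mpr fun t ht => ?_
    obtain ⟨W, hxW, m, rfl⟩ := Groth.Agent.PullStalk.Sky.exists_germM_eq M x t
    rw [Groth.Agent.PullStalk.Exact.stalkLin_germ] at ht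
    obtain ⟨V, hxV, i, _, hV⟩ := N.presheaf.germ_eq x hxW hxW (φ.app W m) 0 (ht.trans (map_zero _).symm)
    have h1 : φ.app (V ⊓ U) (M.presheaf.map (homOfLE (inf_le_left.trans i.le)).op m) = 0 := by
      have hnat := congr($((Scheme.Modules.Hom.mapPresheaf φ).naturality
        (homOfLE (inf_le_left.trans i.le : V ⊓ U ≤ W)).op) m)
      refine hnat.trans ?_
      show N.presheaf.map _ (φ.app W m) = 0
      rw [show (homOfLE (inf_le_left.trans i.le : V ⊓ U ≤ W)).op =
        i.op ≫ (homOfLE (inf_le_left : V ⊓ U ≤ V)).op from rfl, Functor.map_comp, ConcreteCategory.comp_apply,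
        hV, map_zero, map_zero]
    have h2 := (h (V ⊓ U) inf_le_right).1 (h1.trans (map_zero _).symm)
    refine (TopCat.Presheaf.germ_res_apply M.presheaf (homOfLE (inf_le_left.trans i.le : V ⊓ U ≤ W))
      x ⟨hxV, hx⟩ m).symm.trans ?_
    rw [h2]
    exact map_zero _
  · intro t
    obtain ⟨W, hxW, n, rfl⟩ := Groth.Agent.PullStalk.Sky.exists_germM_eq N x t
    obtain ⟨m, hm⟩ := (h (W ⊓ U) inf_le_right).2 (N.presheaf.map (homOfLE inf_le_left).op n)
    refine ⟨Groth.Agent.PullStalk.Sky.germM M (W ⊓ U) x ⟨hxW, hx⟩ m, ?_⟩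
    rw [Groth.Agent.PullStalk.Exact.stalkLin_germ, hm]
    exact TopCat.Presheaf.germ_res_apply N.presheaf (homOfLE inf_le_left) x ⟨hxW, hx⟩ n

section MulNat

open Groth.Agent.Props.GenTensor Groth.Agent.Props.GenLocus
open scoped TensorProduct

variable {X : Scheme.{u}}

theorem map_tmul_left (L : X.Modules) {M M' : X.Modules} (φ : M ⟶ M') (U : X.Opens) (m : Γ(M, U))
    (l : Γ(L, U)) :
    (((DCoh.tensorBi (X := X)).flip.obj L).map φ).app U (tmul m l) = tmul (φ.app U m) l := by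
  have h := (PresheafOfModules.sheafificationAdjunction (𝟙 X.ringCatSheaf.obj)).unit.naturality
    ((show CohB1.toPMod M ⟶ CohB1.toPMod M' from φ.val) ▷ CohB1.toPMod L)
  exact congr((PresheafOfModules.Hom.app $h (op U)).hom (m ⊗ₜ[Γ(X, U)] l)).symm

theorem res_smul_comm (M : X.Modules) {U V : X.Opens} (h : V ≤ U) (a : Γ(X, U)) (m : Γ(M, U)) :
    res M h (a • m) = rres h a • res M h m := res_smul M h a m

/-- `g ↦ g ⊗ s` for a global section `s` of `L` -/
def mulSecHom (L : X.Modules) (s : Coh.structureModule X ⟶ L) (G : X.Modules) :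
    G ⟶ CohB1.tensorMod G L :=
  ⟨PresheafOfModules.homMk
    { app := fun U => AddCommGrpCat.ofHom (show Γ(G, U.unop) →+ Γ(CohB1.tensorMod G L, U.unop) from
        AddMonoidHom.mk' (fun g => tmul g (sec s U.unop)) fun a b => by
          show tmul (a + b) _ = _
          rw [tmul, TensorProduct.add_tmul]
          exact map_add ((η G L).app (op U.unop)).hom _ _)
      naturality := fun {U V} i => AddCommGrpCat.hom_ext <| AddMonoidHom.ext fun g => by
        let g' : Γ(G, U.unop) := g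
        show tmul (res G i.unop.le g') (sec s V.unop) =
          res (CohB1.tensorMod G L) i.unop.le (tmul g' (sec s U.unop))
        rw [res_tmul, sec_res] }
    fun U a g => tmul_smul_left (V := U.unop) a g (sec s U.unop)⟩

/-- `g ↦ g ⊗ s`, naturally in the module -/
def mulNat (L : X.Modules) (s : Coh.structureModule X ⟶ L) :
    𝟭 X.Modules ⟶ (DCoh.tensorBi (X := X)).flip.obj L where
  app G := mulSecHom L s G
  naturality M M' φ := by
    ext U g
    exact (map_tmul_left L φ U g (sec s U)).symm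

theorem map_tmul_right (G : X.Modules) {N N' : X.Modules} (ψ : N ⟶ N') (U : X.Opens) (g : Γ(G, U))
    (l : Γ(N, U)) :
    (((DCoh.tensorBi (X := X)).obj G).map ψ).app U (tmul g l) = tmul g (ψ.app U l) := by
  have h := (PresheafOfModules.sheafificationAdjunction (𝟙 X.ringCatSheaf.obj)).unit.naturality
    (CohB1.toPMod G ◁ (show CohB1.toPMod N ⟶ CohB1.toPMod N' from ψ.val))
  exact congr((PresheafOfModules.Hom.app $h (op U)).hom (g ⊗ₜ[Γ(X, U)] l)).symm

theorem assocApp_tmul (L M N : X.Modules) (U : X.Opens) (a : Γ(L, U)) (b : Γ(M, U)) (c : Γ(N, U)) :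
    (tensAssoc L M N).hom.app U (tmul (tmul a b) c) =
      tmul a (tmul b c) := by
  let adj := PresheafOfModules.sheafificationAdjunction (𝟙 X.ringCatSheaf.obj)
  let sh : CohB1.PMod X ⥤ X.Modules := CohB1.sheafifyMod X
  let ab : ↥((CohB1.tensorPre L M).obj (op U)) := show ↥((CohB1.tensorPre L M).obj (op U)) from
    (a ⊗ₜ[Γ(X, U)] b : TensorProduct Γ(X, U) Γ(L, U) Γ(M, U))
  let z : ↥((CohB1.tensorPre L M ⊗ CohB1.toPMod N).obj (op U)) :=
    show ↥((CohB1.tensorPre L M ⊗ CohB1.toPMod N).obj (op U)) from (ab ⊗ₜ[Γ(X, U)] c)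
  let u₁ : CohB1.tensorPre L M ⊗ CohB1.toPMod N ⟶ CohB1.tensorPre (CohB1.tensorMod L M) N :=
    (show CohB1.tensorPre L M ⟶ CohB1.toPMod (CohB1.tensorMod L M) from adj.unit.app (pre L M)) ▷
      CohB1.toPMod N
  let u₂ : CohB1.toPMod L ⊗ CohB1.tensorPre M N ⟶ CohB1.tensorPre L (CohB1.tensorMod M N) :=
    CohB1.toPMod L ◁
      (show CohB1.tensorPre M N ⟶ CohB1.toPMod (CohB1.tensorMod M N) from adj.unit.app (pre M N))
  have h₁ := congr((PresheafOfModules.Hom.app $(adj.unit.naturality u₁) (op U)).hom z)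
  have hα := congr((PresheafOfModules.Hom.app $(adj.unit.naturality
    (α_ (CohB1.toPMod L) (CohB1.toPMod M) (CohB1.toPMod N)).hom) (op U)).hom z)
  have h₂ := congr((PresheafOfModules.Hom.app $(adj.unit.naturality u₂) (op U)).hom
    (((α_ (CohB1.toPMod L) (CohB1.toPMod M) (CohB1.toPMod N)).hom.app (op U)).hom z))
  let i₁ := tensAssoc L M N
  haveI : IsIso (sh.map u₁) := inferInstanceAs (IsIso ((ModSite.shPre X.sheaf).map
    ((Groth.Agent.KFlat.preAdj X.sheaf).unit.app ((ModSite.toPre X.sheaf).obj L ⊗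
      (ModSite.toPre X.sheaf).obj M) ▷ (ModSite.toPre X.sheaf).obj N)))
  have hfac : sh.map u₁ ≫ i₁.hom = sh.map (α_ _ _ _).hom ≫ sh.map u₂ :=
    IsIso.hom_inv_id_assoc (sh.map u₁) _
  have h₃ := congr(($hfac).app U ((adj.unit.app _).app (op U) z))
  refine Eq.trans (congrArg (i₁.hom.app U) h₁) ?_
  refine h₃.trans ?_
  refine (congrArg ((sh.map u₂).app U) hα.symm).trans ?_
  exact h₂.symm

/-- `(G ⊗ L) ⊗ M ≅ G ⊗ N` for `i : L ⊗ M ≅ N`, natural in `G` -/
def assocNat (L M N : X.Modules) (i : CohB1.tensorMod L M ≅ N) :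
    (DCoh.tensorBi (X := X)).flip.obj L ⋙ (DCoh.tensorBi (X := X)).flip.obj M ≅
      (DCoh.tensorBi (X := X)).flip.obj N :=
  NatIso.ofComponents (G := (DCoh.tensorBi (X := X)).flip.obj (CohB1.tensorMod L M))
    (fun G => Groth.Agent.ModFlat.assocApp (O := X.sheaf) G L M)
    (fun {G G'} φ => NatTrans.congr_app
      (NatTrans.congr_app ((Groth.Agent.ModFlat.tensorBiAssoc X.sheaf).hom.naturality φ) L) M) ≪≫
    (DCoh.tensorBi (X := X)).flip.mapIso i

theorem assocNat_tmul (L M N : X.Modules) (i : CohB1.tensorMod L M ≅ N) (A : X.Modules) (U : X.Opens)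
    (g : Γ(A, U)) (t : Γ(L, U)) (s : Γ(M, U)) :
    ((assocNat L M N i).hom.app A).app U (tmul (tmul g t) s) = tmul g (i.hom.app U (tmul t s)) := by
  refine Eq.trans ?_ (map_tmul_right A i.hom U g (tmul t s))
  exact congrArg (fun z : Γ(CohB1.tensorMod A (CohB1.tensorMod L M), U) =>
    (((DCoh.tensorBi (X := X)).obj A).map i.hom).app U z) (assocApp_tmul A L M U g t s)

/-- `T G → T'(T G) ≅ G` -/
def mulDown {T T' : X.Modules ⥤ X.Modules} (ψ : 𝟭 X.Modules ⟶ T') (ν : T ⋙ T' ≅ 𝟭 X.Modules) :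
    T ⟶ 𝟭 X.Modules where
  app G := ψ.app (T.obj G) ≫ ν.hom.app G
  naturality G G' φ := by
    have h₁ := ψ.naturality (T.map φ)
    have h₂ := ν.hom.naturality φ
    simp only [Functor.id_map, Functor.comp_map, Functor.id_obj, Functor.comp_obj] at *
    rw [reassoc_of% h₁, h₂, Category.assoc]

/-- `g ↦ g ⊗ s` is bijective where `s` generates -/
theorem mulSecHom_bijective (L : X.Modules) (s : Coh.structureModule X ⟶ L) (U : X.Opens)
    (hs : IsGen L U (sec s U)) (G : X.Modules) (V : X.Opens) (hV : V ≤ U) :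
    Function.Bijective ((mulSecHom L s G).app V) := by
  have hfr := (isGen_iff_isFrame (L := L) _).mp hs
  have e : (fun _ : Fin 1 => sec s U) = ![sec s U] := funext fun i => by fin_cases i; rfl
  rw [e] at hfr
  have h := Groth.Agent.KoszTwLib.tmul_bijective hfr G hV
  have heq : ∀ g : Γ(G, V), (mulSecHom L s G).app V g =
      SecTwist.tmul G L V g (Groth.Agent.KoszTwLib.res (sec s U) hV) := fun g => by
    show tmul g (sec s V) = tmul g (res L hV (sec s U))
    rw [sec_res]
  refine ⟨fun a b hab => h.1 ((heq a).symm.trans (hab.trans (heq b))), fun t => ?_⟩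
  obtain ⟨g, hg⟩ := h.2 t
  exact ⟨g, (heq g).trans hg⟩

end MulNat

namespace Pn

variable {n : ℕ}

instance additive_twFun (d : ℤ) : (twFun n R d).Additive :=
  have : PreservesColimitsOfSize.{u, u} (twFun n R d) :=
    preservesColimits_tensorFlip _ (twistProjSpace n R d)
  have : PreservesBinaryBiproducts (twFun n R d) :=
    preservesBinaryBiproducts_of_preservesBinaryCoproducts _
  Functor.additive_of_preservesBinaryBiproducts _

/-- `G(a)(b) ≅ G(c)`, natural in `G` -/
def twTwNat (a b c : ℤ) (h : a + b = c) : twFun n R a ⋙ twFun n R b ≅ twFun n R c :=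
  assocNat (twistProjSpace n R a) (twistProjSpace n R b) (twistProjSpace n R c)
    ((nonempty_twistProjSpace_tensor n R a b).some ≪≫ eqToIso (by rw [h]))

/-- `G(0) ≅ G`, natural in `G` -/
def twZeroNat : twFun n R 0 ≅ 𝟭 (CohB1.ProjSpace n R).Modules :=
  (DCoh.tensorBi (X := CohB1.ProjSpace n R)).flip.mapIso (twistZeroIso (CohB1.polyGrading n R)).symm ≪≫
    Groth.Agent.KFlat.ProjFormula.unitRight (CohB1.ProjSpace n R)

/-- `x_j` as a global section of `O(1)` -/
def xSec (j : Fin (n + 1)) : Γ(twistProjSpace n R 1, ⊤) :=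
  degOneSec (𝒜 := CohB1.polyGrading n R) (X_mem_polyGrading n R j) (op ⊤)

theorem isGen_xSec (j : Fin (n + 1)) :
    Groth.Agent.Props.GenLocus.IsGen (twistProjSpace n R 1) (stdOpen n R j)
      (res _ le_top (xSec (R := R) j)) := by
  have : res _ le_top (xSec (R := R) j) =
      powGen (𝒜 := CohB1.polyGrading n R) (X_mem_polyGrading n R j) 1 :=
    sectN_ext (𝒜 := CohB1.polyGrading n R) fun x => by
      have hx := not_mem_of_le_basicOpen (le_rfl : stdOpen n R j ≤ stdOpen n R j) x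
      refine (degOneSec_coe (X_mem_polyGrading n R j) (op (stdOpen n R j)) x hx).trans ?_
      refine Eq.trans ?_ (unitSec_coe (X_mem_polyGrading n R j) 1 _ _ x).symm
      rw [zpow_one]
  rw [this]
  exact isGen_powGen (X_mem_polyGrading n R j) 1

/-- multiplication by `x_j`, `G ⟶ G(1)`, naturally in `G` -/
def mulUp (j : Fin (n + 1)) : 𝟭 (CohB1.ProjSpace n R).Modules ⟶ twFun n R 1 :=
  mulNat (twistProjSpace n R 1) (Groth.Agent.Props.GenLocus.homOfSec (xSec j))

theorem mulUp_app_apply (j : Fin (n + 1)) (G : (CohB1.ProjSpace n R).Modules) (U : (CohB1.ProjSpace n R).Opens)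
    (g : Γ(G, U)) :
    ((mulUp j).app G).app U g = Groth.Agent.Props.GenTensor.tmul g (res _ le_top (xSec (R := R) j)) :=
  congrArg (fun z => Groth.Agent.Props.GenTensor.tmul g z)
    (Groth.Agent.Props.GenLocus.sec_homOfSec (xSec j) U)

/-- `G(-1)(1) ≅ G`, natural in `G` -/
def downUpNat : twFun n R (-1) ⋙ twFun n R 1 ≅ 𝟭 (CohB1.ProjSpace n R).Modules :=
  twTwNat (-1) 1 0 (neg_add_cancel 1) ≪≫ twZeroNat

/-- multiplication by `x_j`, `G(-1) ⟶ G`, naturally in `G` -/
def mulX (j : Fin (n + 1)) : twFun n R (-1) ⟶ 𝟭 (CohB1.ProjSpace n R).Modules :=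
  mulDown (mulUp j) downUpNat

theorem stalkLin_comp_bijective {X : Scheme.{u}} {M N P : X.Modules} (φ : M ⟶ N) (ψ : N ⟶ P) (x : X)
    (h₁ : Function.Bijective (Groth.Agent.PullStalk.Exact.stalkLin φ x))
    (h₂ : Function.Bijective (Groth.Agent.PullStalk.Exact.stalkLin ψ x)) :
    Function.Bijective (Groth.Agent.PullStalk.Exact.stalkLin (φ ≫ ψ) x) := by
  rw [show ⇑(Groth.Agent.PullStalk.Exact.stalkLin (φ ≫ ψ) x) = _ ∘ _ from
    funext (Groth.Agent.Omega.Stalks.stalkLin_comp φ ψ x)]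
  exact h₂.comp h₁

theorem stalkLin_iso_bijective {X : Scheme.{u}} {M N : X.Modules} (e : M ≅ N) (x : X) :
    Function.Bijective (Groth.Agent.PullStalk.Exact.stalkLin e.hom x) :=
  stalkLin_bijective_of_app e.hom ⊤ (fun _ _ => ConcreteCategory.bijective_of_isIso _) x trivial

theorem mulUp_bijective (j : Fin (n + 1)) (G : (CohB1.ProjSpace n R).Modules)
    (V : (CohB1.ProjSpace n R).Opens) (hV : V ≤ stdOpen n R j) :
    Function.Bijective (((mulUp j).app G).app V) := by
  refine mulSecHom_bijective _ _ (stdOpen n R j) ?_ G V hV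
  rw [Groth.Agent.Props.GenLocus.sec_homOfSec]
  exact isGen_xSec j

theorem mulX_bijAt (j : Fin (n + 1)) (y : CohB1.ProjSpace n R) (hy : y ∈ stdOpen n R j) :
    Kosz.BijAt (mulX (n := n) (R := R) j) y := fun M =>
  stalkLin_comp_bijective _ _ y (stalkLin_bijective_of_app _ (stdOpen n R j)
    (fun V hV => mulUp_bijective j _ V hV) y hy) (stalkLin_iso_bijective (downUpNat.app M) y)

theorem exists_mulX_bijAt (y : CohB1.ProjSpace n R) :
    ∃ τ ∈ List.ofFn (mulX (n := n) (R := R)), Kosz.BijAt τ y := by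
  obtain ⟨j, hj⟩ := Opens.mem_iSup.mp ((iSup_stdOpen n R).ge (trivial : y ∈ (⊤ : (CohB1.ProjSpace n R).Opens)))
  exact ⟨mulX j, List.mem_ofFn.mpr ⟨j, rfl⟩, mulX_bijAt j y hj⟩

end Pn

end Groth.Agent.ProjTwist
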