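import Groth.Agent.ProjTwist.Pn.MulX

/-!
The theorem of Castelnuovo-Mumford on `P^n_k`: regularity propagates and the multiplication by the
coordinates `H⁰(F(d))^(n+1) → H⁰(F(d+1))` is surjective for `d ≥ m`.
-/

set_option autoImplicit false

open CategoryTheory CategoryTheory.Limits AlgebraicGeometry TopologicalSpace Opposite

universe u

noncomputable section

namespace Groth.Agent.ProjTwist.Pn

open Twist

variable {n : ℕ} {k : Type u} [Field k]

section

variable {F : (CohB1.ProjSpace n k).Modules}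

/-- the Koszul complex of the coordinates with values in `F` -/
abbrev koszCx (F : (CohB1.ProjSpace n k).Modules) : Kosz.AugCx F :=
  Kosz.kosz F (List.ofFn (mulX (n := n) (R := k)))

/-- `p`-th syzygy of the Koszul complex -/
abbrev syz (F : (CohB1.ProjSpace n k).Modules) (p : ℕ) : (CohB1.ProjSpace n k).Modules :=
  kernel ((koszCx F).d p)

/-- `0 → Z_{p+1} → Y (p+1) → Z_p → 0` -/
def syzSeq (F : (CohB1.ProjSpace n k).Modules) (p : ℕ) : ShortComplex (CohB1.ProjSpace n k).Modules :=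
  ShortComplex.mk (kernel.ι ((koszCx F).d (p + 1))) (kernel.lift _ _ ((koszCx F).dd p))
    (by rw [← cancel_mono (kernel.ι ((koszCx F).d p)), Category.assoc, kernel.lift_ι,
      kernel.condition, zero_comp])

theorem epi_kernel_lift_of_stalk {A B C : (CohB1.ProjSpace n k).Modules} (g : A ⟶ B) (h : B ⟶ C)
    (w : g ≫ h = 0) (hex : ∀ (y : CohB1.ProjSpace n k) (t : B.presheaf.stalk y),
      PullStalk.Exact.stalkLin h y t = 0 → ∃ u, PullStalk.Exact.stalkLin g y u = t) :
    Epi (kernel.lift h g w) := by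
  refine Omega.Stalks.epi_of_stalk fun y t => ?_
  obtain ⟨u, hu⟩ := hex y (PullStalk.Exact.stalkLin (kernel.ι h) y t) (by
    rw [← Omega.Stalks.stalkLin_comp, kernel.condition, Omega.Stalks.stalkLin_zero])
  refine ⟨u, Omega.Stalks.stalkLin_injective_of_mono (kernel.ι h) y ?_⟩
  rw [← Omega.Stalks.stalkLin_comp, kernel.lift_ι, hu]

theorem shortExact_syzSeq (p : ℕ) : (syzSeq F p).ShortExact := by
  have : Mono (syzSeq F p).f := inferInstanceAs (Mono (kernel.ι _))
  have : Epi (syzSeq F p).g := epi_kernel_lift_of_stalk _ _ _ fun y t ht =>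
    (Kosz.exactAt_kosz F _ y (exists_mulX_bijAt y)).2 p t ht
  refine ShortComplex.ShortExact.mk' ?_ ‹_› ‹_›
  refine ShortComplex.exact_of_f_is_kernel _ (KernelFork.IsLimit.ofι' _ _ fun {A} g hg => ?_)
  refine ⟨kernel.lift _ g ?_, kernel.lift_ι _ _ _⟩
  have h : (g ≫ (syzSeq F p).g) ≫ kernel.ι ((koszCx F).d p) = 0 := by rw [hg, zero_comp]
  rwa [Category.assoc, show (syzSeq F p).g ≫ kernel.ι _ = _ from kernel.lift_ι _ _ _] at h

/-- `0 → Z_0 → Y 0 → F → 0` -/
theorem shortExact_syzZero :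
    (ShortComplex.mk (kernel.ι ((koszCx F).d 0)) ((koszCx F).d 0) (kernel.condition _)).ShortExact := by
  have : Epi ((koszCx F).d 0) :=
    Omega.Stalks.epi_of_stalk fun y => (Kosz.exactAt_kosz F _ y (exists_mulX_bijAt y)).1
  exact ShortComplex.ShortExact.mk' (ShortComplex.exact_of_f_is_kernel _ (kernelIsKernel _))
    inferInstance ‹_›

/-- vanishing of the shifted cohomology needed from the terms in degree `p` -/
def Good (m : ℤ) (p : ℕ) (G : (CohB1.ProjSpace n k).Modules) : Prop :=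
  ∀ (q : ℕ) (d : ℤ), 1 ≤ q → d = m + p - q → Subsingleton (Coh.HH (CohB1.ProjSpace n k) (twF G d) q)

theorem subsingleton_of_isZero {G : (CohB1.ProjSpace n k).Modules} (hG : IsZero G) (q : ℕ) :
    Subsingleton (Coh.HH (CohB1.ProjSpace n k) G q) := subsingleton_of_forall_eq 0 fun x => by
  have h : CohLin.hMap (𝟙 G) q x = CohLin.hMap (0 : G ⟶ G) q x := by rw [hG.eq_of_src (𝟙 G) 0]
  rw [CohLin.hMap_id] at h
  rw [h]
  exact map_zero (CohLin.hMapHom G G q x)

theorem subsingleton_biprod {A B : (CohB1.ProjSpace n k).Modules} (q : ℕ)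
    [Subsingleton (Coh.HH (CohB1.ProjSpace n k) A q)] [Subsingleton (Coh.HH (CohB1.ProjSpace n k) B q)] :
    Subsingleton (Coh.HH (CohB1.ProjSpace n k) (A ⊞ B) q) := subsingleton_of_forall_eq 0 fun x => by
  have h : x = CohLin.hMap (biprod.inl : A ⟶ A ⊞ B) q (CohLin.hMap biprod.fst q x) +
      CohLin.hMap (biprod.inr : B ⟶ A ⊞ B) q (CohLin.hMap biprod.snd q x) := by
    rw [← CohLin.hMap_comp, ← CohLin.hMap_comp, ← CohLin.hMap_add, biprod.total, CohLin.hMap_id]
  rw [h, Subsingleton.elim (CohLin.hMap (biprod.fst : A ⊞ B ⟶ A) q x) 0,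
    Subsingleton.elim (CohLin.hMap (biprod.snd : A ⊞ B ⟶ B) q x) 0, map_zero, map_zero, add_zero]

theorem good_term (hF : Coh.IsQCoh F) {m : ℤ} (h : Curv2.IsMRegular k n F m) (p : ℕ) :
    Good m p (Kosz.term F (koszCx F).Y p) := by
  refine Kosz.kosz_term (Good m) ?_ ?_ ?_ ?_ _ p
  · exact fun q d hq hd => subsingleton_of_isMRegular hF h hq (by simpa using hd)
  · exact fun p M hM q d _ _ => subsingleton_of_isZero ((twFun n k d).map_isZero hM) q
  · intro p A B hA hB q d hq hd
    have : Subsingleton (Coh.HH (CohB1.ProjSpace n k) ((twFun n k d).obj A) q) := hA q d hq hd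
    have : Subsingleton (Coh.HH (CohB1.ProjSpace n k) ((twFun n k d).obj B) q) := hB q d hq hd
    have := subsingleton_biprod (A := (twFun n k d).obj A) (B := (twFun n k d).obj B) q
    have : PreservesBinaryBiproducts (twFun n k d) := preservesBinaryBiproducts_of_preservesBiproducts _
    exact subsingleton_of_iso ((twFun n k d).mapBiprod A B).symm q
  · intro p A hA q d hq hd
    have := hA q (d - 1) hq (by rw [hd]; push_cast; ring)
    exact subsingleton_of_iso (twTw A (-1) d (d - 1) (by ring)).symm q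

theorem good_syz (hF : Coh.IsQCoh F) {m : ℤ} (h : Curv2.IsMRegular k n F m) :
    ∀ (c p q : ℕ) (d : ℤ), n + 1 ≤ p + c → 1 ≤ q → d = m + 2 + p - q →
      Subsingleton (Coh.HH (CohB1.ProjSpace n k) (twF (syz F p) d) q) := by
  intro c
  induction c with
  | zero =>
    intro p q d hp _ _
    refine subsingleton_of_isZero ((twFun n k d).map_isZero ?_) q
    have hz : IsZero ((koszCx F).Y p) := Kosz.isZero_kosz _ p (by simpa using hp)
    exact IsZero.of_mono (kernel.ι ((koszCx F).d p)) hz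
  | succ c ih =>
    intro p q d hp hq hd
    have hS := shortExact_tw (shortExact_syzSeq (F := F) p) d
    have : Subsingleton (Coh.HH (CohB1.ProjSpace n k) ((syzSeq F p).map (twFun n k d)).X₂ q) :=
      good_term hF h (p + 2) q d hq (by rw [hd]; push_cast; ring)
    have : Subsingleton (Coh.HH (CohB1.ProjSpace n k) ((syzSeq F p).map (twFun n k d)).X₁ (q + 1)) :=
      ih (p + 1) (q + 1) d (by omega) (Nat.le_add_left 1 q) (by rw [hd]; push_cast; ring)
    exact CohLin.subsingleton_X₃ hS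

/-- `m`-regular implies `(m+1)`-regular -/
theorem isMRegular_succ (hF : Coh.IsQCoh F) {m : ℤ} (h : Curv2.IsMRegular k n F m) :
    Curv2.IsMRegular k n F (m + 1) := fun q hq _ => by
  have hS := shortExact_tw (shortExact_syzZero (F := F)) (m + 1 - q)
  have : Subsingleton (Coh.HH (CohB1.ProjSpace n k) ((ShortComplex.mk (kernel.ι ((koszCx F).d 0))
      ((koszCx F).d 0) (kernel.condition _)).map (twFun n k (m + 1 - q))).X₂ q) :=
    good_term hF h 1 q _ hq (by push_cast; ring)
  have : Subsingleton (Coh.HH (CohB1.ProjSpace n k) ((ShortComplex.mk (kernel.ι ((koszCx F).d 0))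
      ((koszCx F).d 0) (kernel.condition _)).map (twFun n k (m + 1 - q))).X₁ (q + 1)) :=
    good_syz hF h (n + 1) 0 (q + 1) _ (by omega) (Nat.le_add_left 1 q) (by push_cast; ring)
  exact CohLin.subsingleton_X₃ hS

theorem isMRegular_of_le (hF : Coh.IsQCoh F) {m m' : ℤ} (h : Curv2.IsMRegular k n F m) (hm : m ≤ m') :
    Curv2.IsMRegular k n F m' := by
  obtain ⟨c, rfl⟩ : ∃ c : ℕ, m' = m + c := ⟨(m' - m).toNat, by omega⟩
  induction c with
  | zero => simpa using h
  | succ c ih =>
    rw [Nat.cast_succ, ← add_assoc]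
    exact isMRegular_succ hF (ih (by omega))

/-- `H^i(F(d)) = 0` for `i ≥ 1`, `d ≥ m - i` -/
theorem subsingleton_of_le (hF : Coh.IsQCoh F) {m : ℤ} (h : Curv2.IsMRegular k n F m) {i : ℕ}
    (hi : 1 ≤ i) {d : ℤ} (hd : m - i ≤ d) :
    Subsingleton (Coh.HH (CohB1.ProjSpace n k) (twF F d) i) :=
  subsingleton_of_isMRegular hF (isMRegular_of_le hF h (show m ≤ d + i by omega)) hi (by omega)

/-- a map to `F` through which all `x_j : F(-1) → F` factor is surjective on `H⁰` after twisting by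
`d ≥ m + 1` -/
theorem surjective_h0_of_factor (hF : Coh.IsQCoh F) {m : ℤ} (h : Curv2.IsMRegular k n F m) {d : ℤ}
    (hd : m + 1 ≤ d) {B : (CohB1.ProjSpace n k).Modules} (σ : B ⟶ F)
    (hσ : ∀ j : Fin (n + 1), ∃ ι : (twFun n k (-1)).obj F ⟶ B, ι ≫ σ = Kosz.ta (mulX j) F) :
    Function.Surjective (CohLin.hMap ((twFun n k d).map σ) 0) := by
  intro x
  have hS := shortExact_tw (shortExact_syzZero (F := F)) d
  have : Subsingleton (Coh.HH (CohB1.ProjSpace n k) ((ShortComplex.mk (kernel.ι ((koszCx F).d 0))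
      ((koszCx F).d 0) (kernel.condition _)).map (twFun n k d)).X₁ 1) :=
    good_syz hF (isMRegular_of_le hF h (show m ≤ d - 1 by omega)) (n + 1) 0 1 d (by omega) le_rfl
      (by push_cast; ring)
  obtain ⟨y, hy⟩ := CohLin.exists_hMap_g_eq hS x (Subsingleton.elim _ _)
  obtain ⟨f, hf⟩ := Kosz.kosz_d_zero_factor (List.ofFn (mulX (n := n) (R := k))) σ fun τ hτ => by
    obtain ⟨j, rfl⟩ := List.mem_ofFn.mp hτ
    exact hσ j
  refine ⟨CohLin.hMap ((twFun n k d).map f) 0 y, ?_⟩
  rw [← CohLin.hMap_comp, ← Functor.map_comp, hf]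
  exact hy

/-- every section of `F(d)`, `d ≥ m + 1`, is a sum of products of sections of `F(d-1)` by coordinates -/
theorem exists_eq_sum_mulX (hF : Coh.IsQCoh F) {m : ℤ} (h : Curv2.IsMRegular k n F m) {d : ℤ}
    (hd : m + 1 ≤ d) (x : Coh.HH (CohB1.ProjSpace n k) (twF F d) 0) :
    ∃ y : Fin (n + 1) → Coh.HH (CohB1.ProjSpace n k) (twF (twF F (-1)) d) 0,
      x = ∑ j, CohLin.hMap ((twFun n k d).map (Kosz.ta (mulX j) F)) 0 (y j) := by
  classical
  have : HasBiproduct (fun _ : ULift.{u} (Fin (n + 1)) => (twFun n k (-1)).obj F) := inferInstance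
  let σ : (⨁ fun _ : ULift.{u} (Fin (n + 1)) => (twFun n k (-1)).obj F) ⟶ F :=
    biproduct.desc fun j => Kosz.ta (mulX j.down) F
  obtain ⟨z, hz⟩ := surjective_h0_of_factor hF h hd σ
    (fun j => ⟨biproduct.ι (fun _ : ULift.{u} (Fin (n + 1)) => (twFun n k (-1)).obj F) ⟨j⟩, biproduct.ι_desc _ _⟩) x
  refine ⟨fun j => CohLin.hMap ((twFun n k d).map
    (biproduct.π (fun _ : ULift.{u} (Fin (n + 1)) => (twFun n k (-1)).obj F) ⟨j⟩)) 0 z, ?_⟩
  have htot : (twFun n k d).map σ = ∑ j : Fin (n + 1), (twFun n k d).map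
      (biproduct.π (fun _ : ULift.{u} (Fin (n + 1)) => (twFun n k (-1)).obj F) ⟨j⟩) ≫
        (twFun n k d).map (Kosz.ta (mulX j) F) := by
    simp only [← Functor.map_comp, ← Functor.map_sum]
    refine congrArg _ (biproduct.hom_ext' _ _ fun i => ?_)
    rw [biproduct.ι_desc, Preadditive.comp_sum, Finset.sum_eq_single i.down]
    · rw [biproduct.ι_π_self_assoc]
    · intro j _ hj
      rw [biproduct.ι_π_ne_assoc _ (fun e => hj (congrArg ULift.down e).symm), zero_comp]
    · exact fun h => absurd (Finset.mem_univ _) h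
  rw [← hz, htot]
  refine (map_sum (CohLin.hMapHom _ _ 0 z) _ _).trans ?_
  exact Finset.sum_congr rfl fun j _ => CohLin.hMap_comp _ _ 0 z

end

end Groth.Agent.ProjTwist.Pn
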