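import Groth.Agent.ProjTwist.Pn.Boundedness
import Groth.Agent.ProjTwist.Pn.Mumford
import Groth.Agent.HilbPolyX.Ample

/-!
Minimal linear resolutions on projective space.
-/

set_option autoImplicit false

open CategoryTheory CategoryTheory.Limits AlgebraicGeometry TopologicalSpace Opposite

universe u

noncomputable section

namespace Groth.Agent.ProjTwist.Pn

open Twist Groth.Agent.Props.GenLocus Groth.Agent.PullStalk.Sky Groth.Agent.PullStalk.Exact

variable {n : ℕ} {k : Type u} [Field k]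

theorem subsingleton_X₁_zero (k : Type u) [Field k] {X : Scheme.{u}} [X.Over (Spec (CommRingCat.of k))]
    {S : ShortComplex X.Modules} (hS : S.ShortExact) (h : Function.Injective (CohLin.hMap S.g 0)) :
    Subsingleton (Coh.HH X S.X₁ 0) := by
  refine subsingleton_of_forall_eq 0 fun x => CurveCoh.injective_mapL_zero k hS ?_
  refine Eq.trans ?_ (map_zero _).symm
  exact h (((CohLin.hMap_g_hMap_f (S := S) x)).trans (map_zero _).symm)

theorem isCoh_sum {ι : Type} [Finite ι] (F : ι → (CohB1.ProjSpace n k).Modules)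
    (hF : ∀ j, Coh.IsCoh (F j)) : Coh.IsCoh (∐ F) :=
  CohDev.isCoh_of_iso (Sigma.reindex (Equiv.ulift.{u} (α := ι)) F)
    (isCoh_sigma _ fun j => hF _)

theorem h0_free (N : ℕ) :
    Module.finrank k (Coh.HH (CohB1.ProjSpace n k)
      (∐ fun _ : Fin N => Coh.structureModule (CohB1.ProjSpace n k)) 0) = N := by
  have h := h0Tw_free (n := n) (k := k) N 0
  rw [h0Tw, Nat.cast_zero, finrank_iso (twZero _) 0, add_zero, Nat.choose_self, mul_one] at h
  exact h

/-- A basis of `H⁰(F)` as a map from a free module. -/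
theorem exists_bijective_sum {F : (CohB1.ProjSpace n k).Modules} (hF : Coh.IsCoh F) :
    ∃ (b : ℕ) (ψ : (∐ fun _ : Fin b => Coh.structureModule (CohB1.ProjSpace n k)) ⟶ F),
      Function.Surjective (CohLin.hMap ψ 0) ∧
      b = Module.finrank k (Coh.HH (CohB1.ProjSpace n k) F 0) ∧
      Function.Injective (CohLin.hMap ψ 0) := by
  haveI := finite_cohomology F hF 0
  let s := Module.finBasis k (Coh.HH (CohB1.ProjSpace n k) F 0)
  let ψ : (∐ fun _ : Fin (Module.finrank k (Coh.HH (CohB1.ProjSpace n k) F 0)) =>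
      Coh.structureModule (CohB1.ProjSpace n k)) ⟶ F :=
    Sigma.desc fun l => homOfSec (ProperFin.h0Sec F (s l))
  have hs : Function.Surjective (CohLin.hMap ψ 0) := fun x => by
    have hx : x ∈ Submodule.span k (Set.range s) := s.span_eq.symm ▸ Submodule.mem_top
    refine (?_ : Submodule.span k (Set.range s) ≤ LinearMap.range (CohLin.overLin k (CohLin.hMap ψ 0))) hx
    rw [Submodule.span_le]
    rintro _ ⟨l, rfl⟩
    let one : Γ(Coh.structureModule (CohB1.ProjSpace n k), ⊤) := one' ⊤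
    refine ⟨CohLin.hMap (Sigma.ι (fun _ => Coh.structureModule (CohB1.ProjSpace n k)) l) 0
      ((ProperFin.h0Sec _).symm one), ?_⟩
    show CohLin.hMap ψ 0 _ = s l
    rw [← CohLin.hMap_comp, Sigma.ι_desc]
    apply (ProperFin.h0Sec F).injective
    refine (ProperFin.h0Sec_hMap _ _).trans ?_
    rw [AddEquiv.apply_symm_apply]
    exact (sec_homOfSec (ProperFin.h0Sec F (s l)) ⊤).trans (QCoh.res_self _ _ _)
  refine ⟨_, ψ, hs, rfl, ?_⟩
  have hfin : Module.Finite k (Coh.HH (CohB1.ProjSpace n k) (∐ fun _ : Fin (Module.finrank k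
      (Coh.HH (CohB1.ProjSpace n k) F 0)) => Coh.structureModule (CohB1.ProjSpace n k)) 0) :=
    finite_cohomology _ (isCoh_sum _ fun _ => ProperFin.isCoh_structureModule _) 0
  exact (LinearMap.injective_iff_surjective_of_finrank_eq_finrank (h0_free _)
    (f := CohLin.overLin k (CohLin.hMap ψ 0))).mpr hs

theorem exists_min_epi_of_isMRegular {F : (CohB1.ProjSpace n k).Modules} (hF : Coh.IsCoh F) {m : ℤ}
    (h : Curv2.IsMRegular k n F m) :
    ∃ (b : ℕ) (φ : (∐ fun _ : Fin b => twistProjSpace n k (-m)) ⟶ F),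
      Epi φ ∧ Curv2.IsMRegular k n (kernel φ) (m + 1) ∧ h0Tw (kernel φ) m = 0 ∧ b = h0Tw F m := by
  classical
  let G := twF F m
  have hG : Coh.IsCoh G := isCoh_tw hF m
  have hG0 : Curv2.IsMRegular k n G 0 := isMRegular_twF m h (zero_add m)
  obtain ⟨b, ψ, hψ, hb, hψi⟩ := exists_bijective_sum hG
  have hgg : ∀ y, globSpan G y = ⊤ := fun y => globSpan_of_isMRegular hF h y
  haveI : Epi ψ := epi_of_globSpan ψ hgg hψ
  let S₀ : ShortComplex (CohB1.ProjSpace n k).Modules := ShortComplex.mk (kernel.ι ψ) ψ (kernel.condition ψ)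
  have hS₀ : S₀.ShortExact := shortExact_kernel ψ
  let a : (∐ fun _ : Fin b => twistProjSpace n k (-m)) ≅ (twFun n k (-m)).obj S₀.X₂ :=
    haveI : PreservesColimitsOfSize.{u, u} (twFun n k (-m)) := preservesColimits_tensorFlip _ _
    haveI : PreservesColimitsOfShape (Discrete (Fin b)) (twFun n k (-m)) :=
      preservesColimitsOfShape_of_equiv (Discrete.equivalence (Equiv.ulift.{u} (α := Fin b))) _
    Sigma.mapIso (fun _ : Fin b => (oneTens (twistProjSpace n k (-m))).symm) ≪≫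
      (PreservesCoproduct.iso (twFun n k (-m)) fun _ : Fin b => Coh.structureModule (CohB1.ProjSpace n k)).symm
  let e : (twFun n k (-m)).obj S₀.X₃ ≅ F := twTw F m (-m) 0 (add_neg_cancel m) ≪≫ twZero F
  let φ := a.hom ≫ (S₀.map (twFun n k (-m))).g ≫ e.hom
  have hT := shortExact_tw hS₀ (-m)
  haveI : Epi (S₀.map (twFun n k (-m))).g := hT.epi_g
  haveI : Epi e.hom := @IsIso.epi_of_iso _ _ _ _ e.hom e.isIso_hom
  have hφe : Epi φ := epi_comp' inferInstance (epi_comp' hT.epi_g (@IsIso.epi_of_iso _ _ _ _ e.hom e.isIso_hom))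
  obtain ⟨eK⟩ := kernel_iso_of_shortExact hT a e φ rfl
  refine ⟨b, φ, hφe, ?_, ?_, hb⟩
  swap
  · let e' : twF (kernel φ) m ≅ kernel ψ :=
      twCongr eK m ≪≫ twTw (kernel ψ) (-m) m 0 (neg_add_cancel m) ≪≫ twZero (kernel ψ)
    rw [h0Tw, finrank_iso e' 0]
    have hsub : Subsingleton (Coh.HH (CohB1.ProjSpace n k) S₀.X₁ 0) :=
      subsingleton_X₁_zero k hS₀ hψi
    exact Module.finrank_zero_of_subsingleton
  intro i hi hin
  -- `H^i(K(1-i)) = 0` for `K = kernel ψ`
  have hK : Subsingleton (Coh.HH (CohB1.ProjSpace n k) (S₀.map (twFun n k (1 - i))).X₁ i) := by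
    have hT' := shortExact_tw hS₀ (1 - i)
    obtain ⟨q, rfl⟩ := Nat.exists_eq_add_of_le' hi
    refine subsingleton_of_forall_eq 0 fun x => ?_
    have : Subsingleton (Coh.HH (CohB1.ProjSpace n k) (S₀.map (twFun n k (1 - ((q + 1 : ℕ) : ℤ)))).X₂ (q + 1)) := by
      have hb := subsingleton_sum_twist (n := n) (k := k) b 0 (1 - ((q + 1 : ℕ) : ℤ)) (q + 1) hi
        (by push_cast; omega)
      exact subsingleton_of_iso (twCongr (Sigma.mapIso fun _ : Fin b =>
        eqToIso (congrArg (twistProjSpace n k) neg_zero) ≪≫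
          (twistZeroIso (CohB1.polyGrading n k)).symm) _) (q + 1)
    obtain ⟨y, rfl⟩ := CohLin.exists_hδ_eq hT' x (Subsingleton.elim _ _)
    rcases Nat.eq_zero_or_pos q with rfl | hq
    · obtain ⟨z, rfl⟩ : ∃ z, CohLin.hMap (S₀.map (twFun n k (1 - ((0 + 1 : ℕ) : ℤ)))).g 0 z = y := by
        have hd : (1 - ((0 + 1 : ℕ) : ℤ)) = 0 := by norm_num
        refine (show Function.Surjective (CohLin.hMap ((twFun n k (1 - ((0 + 1 : ℕ) : ℤ))).map ψ) 0) from ?_) y
        rw [hd]
        exact surjective_of_natIso' twZeroNat ψ hψ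
      exact CohLin.hδ_hMap_g hT' z
    · have : Subsingleton (Coh.HH (CohB1.ProjSpace n k) (S₀.map (twFun n k (1 - ((q + 1 : ℕ) : ℤ)))).X₃ q) :=
        subsingleton_of_isMRegular hG.1 hG0 hq (by push_cast; ring)
      rw [Subsingleton.elim y 0, map_zero]
  have hK' : Subsingleton (Coh.HH (CohB1.ProjSpace n k) (twF (twF (kernel ψ) (-m)) (m + 1 - i)) i) :=
    @subsingleton_of_iso _ _ _ _ _ (twTw (kernel ψ) (-m) (m + 1 - i) (1 - i) (by ring)).symm i hK
  exact @subsingleton_of_iso _ _ _ (twF (twF (kernel ψ) (-m)) (m + 1 - i)) _ (twCongr eK.symm (m + 1 - i)) i hK' 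

end Groth.Agent.ProjTwist.Pn
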