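import Groth.Agent.ProjTwist.Pn.Boundedness
import Groth.Agent.ProjTwist.Pn.GlobGen
import Groth.Agent.CMReg.Closed
import Groth.Agent.EulerChar.Push
import Groth.Agent.KoszSh77.Unit
import Groth.Agent.KFlat.LocFree

/-!
Uniform vanishing and generation for quotients of `O_X^N` with given Hilbert polynomial, `X ⊆ P^n_k`.
-/

set_option autoImplicit false

open CategoryTheory CategoryTheory.Limits AlgebraicGeometry TopologicalSpace Opposite Polynomial
open Groth.Agent.PullStalk.Exact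

universe u

noncomputable section

namespace Groth.Agent.ProjTwist.Pn

open Twist

/-- If `H⁰` of a composite surjects then `H⁰` of the second map surjects. -/
theorem surjective_hMap_of_comp {X : Scheme.{u}} {A B C : X.Modules} (f : A ⟶ B) (g : B ⟶ C) (i : ℕ)
    (h : Function.Surjective (CohLin.hMap (f ≫ g) i)) : Function.Surjective (CohLin.hMap g i) := fun x => by
  obtain ⟨y, rfl⟩ := h x
  exact ⟨CohLin.hMap f i y, (CohLin.hMap_comp f g i y).symm⟩

/-- `H^1` of the kernel vanishes when `H⁰` surjects and `H^1` of the middle vanishes. -/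
theorem subsingleton_one_of_surjective {X : Scheme.{u}} {S : ShortComplex X.Modules} (hS : S.ShortExact)
    (h : Function.Surjective (CohLin.hMap S.g 0)) [Subsingleton (Coh.HH X S.X₂ 1)] :
    Subsingleton (Coh.HH X S.X₁ 1) := by
  refine subsingleton_of_forall_eq 0 fun x => ?_
  obtain ⟨y, rfl⟩ := CohLin.exists_hδ_eq hS x (Subsingleton.elim _ _)
  obtain ⟨z, rfl⟩ := h y
  exact CohLin.hδ_hMap_g hS z

/-- The map of kernels induced by composing with an epimorphism is an epimorphism. -/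
theorem exists_epi_kernel_comp {X : Scheme.{u}} {A : X.Modules} {S : ShortComplex X.Modules}
    (hS : S.ShortExact) (a : A ⟶ S.X₂) [Epi a] : ∃ e : kernel (a ≫ S.g) ⟶ S.X₁, Epi e := by
  have := hS.mono_f
  obtain ⟨e, he⟩ := KernelFork.IsLimit.lift' hS.fIsKernel (kernel.ι (a ≫ S.g) ≫ a)
    (by rw [Category.assoc]; exact kernel.condition _)
  replace he : e ≫ S.f = kernel.ι (a ≫ S.g) ≫ a := he
  refine ⟨e, Omega.Stalks.epi_of_stalk fun y t => ?_⟩
  obtain ⟨s, hs⟩ := stalk_surjective a y (stalkLin S.f y t)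
  have h0 : stalkLin (a ≫ S.g) y s = 0 := by
    rw [Omega.Stalks.stalkLin_comp, hs]
    exact (Omega.Stalks.stalkLin_comp S.f S.g y t).symm.trans
      ((congrArg (fun φ => stalkLin φ y t) S.zero).trans (Omega.Stalks.stalkLin_zero y t))
  have : Epi S.g := hS.epi_g
  obtain ⟨r, rfl⟩ := ((stalk_exact (shortExact_kernel (a ≫ S.g)) y).2.1 s).mp h0
  refine ⟨r, Omega.Stalks.stalkLin_injective_of_mono S.f y ?_⟩
  rw [← Omega.Stalks.stalkLin_comp, he, Omega.Stalks.stalkLin_comp]
  exact hs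

/-- Vanishing for the outer terms of `S` from vanishing for a presentation through `a`. -/
theorem vanish_of_presentation {X : Scheme.{u}} (T : X.Modules ⥤ X.Modules) [T.PreservesZeroMorphisms]
    {A : X.Modules} {S : ShortComplex X.Modules} (a : A ⟶ S.X₂)
    (hP : ((ShortComplex.mk (kernel.ι (a ≫ S.g)) (a ≫ S.g) (kernel.condition _)).map T).ShortExact)
    (hY : (S.map T).ShortExact)
    (vK : ∀ i, 1 ≤ i → Subsingleton (Coh.HH X (T.obj (kernel (a ≫ S.g))) i))
    (vA : ∀ i, 1 ≤ i → Subsingleton (Coh.HH X (T.obj A) i))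
    (vY : ∀ i, 1 ≤ i → Subsingleton (Coh.HH X (T.obj S.X₂) i)) :
    (∀ i, 1 ≤ i → Subsingleton (Coh.HH X (T.obj S.X₃) i)) ∧
      ∀ i, 1 ≤ i → Subsingleton (Coh.HH X (T.obj S.X₁) i) := by
  have v3 : ∀ i, 1 ≤ i → Subsingleton (Coh.HH X (T.obj S.X₃) i) := fun i hi =>
    @CohLin.subsingleton_X₃ _ _ hP i (vA i hi) (vK (i + 1) (by omega))
  refine ⟨v3, fun i hi => ?_⟩
  obtain rfl | h2 := hi.eq_or_lt
  · refine @subsingleton_one_of_surjective _ _ hY (surjective_hMap_of_comp (T.map a) (T.map S.g) 0 ?_) (vY 1 le_rfl)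
    intro x
    obtain ⟨y, hy⟩ := CohLin.exists_hMap_g_eq hP x (@Subsingleton.elim _ (vK 1 le_rfl) _ _)
    exact ⟨y, ((congrArg (fun φ => CohLin.hMap φ 0 y) (T.map_comp a S.g)).symm).trans hy⟩
  · obtain ⟨j, rfl⟩ : ∃ j, i = j + 1 := ⟨i - 1, by omega⟩
    exact @CohLin.subsingleton_X₁ _ _ hY j (vY (j + 1) (by omega)) (v3 j (by omega))

/-- A quotient of a globally generated module is globally generated. -/
theorem isGloballyGenerated_of_epi' {X : Scheme.{u}} {A B : X.Modules} (e : A ⟶ B) (he : Epi e)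
    (h : Curv2.IsGloballyGenerated A) : Curv2.IsGloballyGenerated B := by
  obtain ⟨κ, p, hp⟩ := h
  exact ⟨κ, p ≫ e, @epi_comp _ _ _ _ _ p hp e he⟩

theorem epi_map_g {X : Scheme.{u}} (T : X.Modules ⥤ X.Modules) [T.PreservesZeroMorphisms]
    {S : ShortComplex X.Modules} (h : (S.map T).ShortExact) : Epi (T.map S.g) := h.epi_g

variable {k : Type u} [Field k] {n : ℕ}

set_option maxHeartbeats 800000 in
theorem gg_tw_of_epi {A B : (CohB1.ProjSpace n k).Modules} (e : A ⟶ B) (he : Epi e) (hA : Coh.IsCoh A)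
    {m l : ℤ} (h : Curv2.IsMRegular k n A m) (hl : m ≤ l) : Curv2.IsGloballyGenerated (twF B l) := by
  have h1 : Curv2.IsGloballyGenerated ((twFun n k l).obj A) :=
    isGloballyGenerated_of_isMRegular hA (isMRegular_of_le hA.1 h hl)
  have := he
  have h2 : Epi ((twFun n k l).map e) :=
    epi_map_g (twFun n k l) (S := ShortComplex.mk (kernel.ι e) e (kernel.condition e))
      (shortExact_tw (shortExact_kernel e) l)
  exact isGloballyGenerated_of_epi' ((twFun n k l).map e) h2 h1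

/-- `χ(O^N(t)) = N · C(n+t, n)` for `t ≥ 0`. -/
theorem chi_free (N t : ℕ) :
    chi (FlatMod.freeMod (CohB1.ProjSpace n k) N) (t : ℤ) = ((N * (n + t).choose n : ℕ) : ℤ) := by
  have := isLocallyNoetherian_projSpace n k
  have h : ∀ i, 1 ≤ i → Subsingleton (Coh.HH (CohB1.ProjSpace n k)
      (twF (FlatMod.freeMod (CohB1.ProjSpace n k) N) (t : ℤ)) i) := fun i hi =>
    subsingleton_of_le (PerfTri.Bounded.isCoh_freeMod N).1 (isMRegular_free N) hi (by omega)
  rw [chi_eq_of_vanishing fun i hi => h i (by omega), h0Tw_free]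
  have h1 : h1Tw (FlatMod.freeMod (CohB1.ProjSpace n k) N) (t : ℤ) = 0 :=
    @Module.finrank_zero_of_subsingleton _ _ _ _ _ _ (h 1 le_rfl)
  rw [h1]
  simp

/-- the polynomial `N · C(n+t, n)` -/
def freePoly (n N : ℕ) : ℚ[X] :=
  Polynomial.C ((N : ℚ) / (n.factorial : ℚ)) * (descPochhammer ℚ n).comp (Polynomial.X + Polynomial.C (n : ℚ))

theorem freePoly_eval (n N t : ℕ) : (freePoly n N).eval (t : ℚ) = ((N * (n + t).choose n : ℕ) : ℚ) := by
  rw [freePoly, eval_mul, eval_C, eval_comp, eval_add, eval_X, eval_C, Nat.cast_mul,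
    Nat.cast_choose_eq_descPochhammer_div, Nat.cast_add, add_comm (t : ℚ)]
  ring

variable {Z : Scheme.{u}} (ι : Z ⟶ CohB1.ProjSpace n k) [IsClosedImmersion ι]

theorem epi_freeToPush (N : ℕ) :
    ∃ a : FlatMod.freeMod (CohB1.ProjSpace n k) N ⟶
      (Scheme.Modules.pushforward ι).obj (FlatMod.freeMod Z N), Epi a := by
  refine ⟨(Scheme.Modules.pullbackPushforwardAdjunction ι).unit.app _ ≫
    (Scheme.Modules.pushforward ι).map (KFlat.LocFree.pullFreeIso ι N).hom, ?_⟩
  exact @epi_comp _ _ _ _ _ _ (KoszSh77.epi_unit ι (FlatMod.freeMod (CohB1.ProjSpace n k) N)) _ inferInstance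

theorem shortExact_push {S : ShortComplex Z.Modules} (hS : S.ShortExact) :
    (S.map (Scheme.Modules.pushforward ι)).ShortExact := by
  have : PreservesFiniteLimits (Scheme.Modules.pushforward ι) :=
    have := (Scheme.Modules.pullbackPushforwardAdjunction ι).isRightAdjoint
    inferInstance
  have := ChgRings.pushPreservesFiniteColimits ι
  exact hS.map_of_exact _

variable [Z.Over (Spec (CommRingCat.of k))]
  (hι : ι ≫ CohB1.ProjSpace.toSpec n k = Z ↘ Spec (CommRingCat.of k))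

include hι in
theorem chi_push (F : Z.Modules) [Coh.IsQCoh F] (d : ℤ) :
    chi ((Coh.push ι).obj F) d = Curv2.euler k Z (Pic13.twistOn k ι F d) := by
  have : IsProper (CohB1.ProjSpace n k ↘ Spec (CommRingCat.of k)) := ProjProper.Basic.isProper_toSpec n k
  have := CMReg.isQCoh_twistOn ι F d
  exact (EulerChar.euler_iso k (CMReg.pushTwistIso ι F d)).trans
    (EulerChar.euler_push ι hι (Pic13.twistOn k ι F d) ‹_›)

include hι in
/-- Uniform vanishing and generation. -/
theorem exists_uniform [Infinite k] (N : ℕ) (P : ℚ[X]) :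
    ∃ l₀ : ℕ, ∀ (F : Z.Modules) (q : FlatMod.freeMod Z N ⟶ F), Coh.IsCoh F → Epi q →
      (∀ t : ℕ, (Curv2.euler k Z (Pic13.twistOn k ι F t) : ℚ) = P.eval (t : ℚ)) →
        ∀ l : ℕ, l₀ ≤ l →
          (∀ i : ℕ, 0 < i → Subsingleton (Coh.HH Z (Pic13.twistOn k ι F l) i)) ∧
          (∀ i : ℕ, 0 < i → Subsingleton (Coh.HH Z (Pic13.twistOn k ι (kernel q) l) i)) ∧
          Curv2.IsGloballyGenerated (Pic13.twistOn k ι (kernel q) l) := by
  have := isLocallyNoetherian_projSpace n k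
  have : IsLocallyNoetherian Z := LocallyOfFiniteType.isLocallyNoetherian ι
  have hfree : Coh.IsCoh (FlatMod.freeMod Z N) := PerfTri.Bounded.isCoh_freeMod N
  let Y := (Coh.push ι).obj (FlatMod.freeMod Z N)
  obtain ⟨dY, hdY⟩ := serre_vanishing Y (ProperFin.isCoh_push_of_isFinite ι _ hfree)
  obtain ⟨m, hm⟩ := exists_bound_submodule_free.{u} n N (freePoly n N - P) 0
  obtain ⟨a, ha⟩ := epi_freeToPush ι N
  refine ⟨max m dY.toNat, fun F q hF hq hP l hl => ?_⟩
  have hml : (m : ℤ) ≤ (l : ℤ) := by exact_mod_cast le_trans (le_max_left _ _) hl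
  have hdl : dY ≤ (l : ℤ) := le_trans (Int.self_le_toNat dY) (by exact_mod_cast le_trans (le_max_right _ _) hl)
  have := hF.1
  have hK : Coh.IsCoh (kernel q) := isCoh_kernel q hfree hF.1
  have := hK.1
  let SY := (ShortComplex.mk (kernel.ι q) q (kernel.condition q)).map (Scheme.Modules.pushforward ι)
  have hSY : SY.ShortExact := shortExact_push ι (shortExact_kernel q)
  have hF' : Coh.IsCoh ((Coh.push ι).obj F) := ProperFin.isCoh_push_of_isFinite ι _ hF
  have : Epi SY.g := hSY.epi_g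
  let q' : FlatMod.freeMod (CohB1.ProjSpace n k) N ⟶ (Coh.push ι).obj F := a ≫ SY.g
  have hq' : Epi q' := @epi_comp _ _ _ _ _ a ha SY.g hSY.epi_g
  let G' := kernel q'
  have hfreeP : Coh.IsCoh (FlatMod.freeMod (CohB1.ProjSpace n k) N) := PerfTri.Bounded.isCoh_freeMod N
  have hG' : Coh.IsCoh G' := isCoh_kernel q' hfreeP hF'.1
  have hSP := shortExact_kernel q'
  have hreg : Curv2.IsMRegular k n G' (m : ℤ) := by
    refine hm k G' (kernel.ι q') inferInstance hG' fun t ht => ?_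
    obtain ⟨t', rfl⟩ : ∃ t' : ℕ, t = t' := ⟨t.toNat, by simp at ht; omega⟩
    have h : chi (FlatMod.freeMod (CohB1.ProjSpace n k) N) (t' : ℤ) = chi G' t' + chi ((Coh.push ι).obj F) t' :=
      chi_add hSP hG' hfreeP hF' (t' : ℤ)
    have e1 : (chi (FlatMod.freeMod (CohB1.ProjSpace n k) N) (t' : ℤ) : ℚ) = (freePoly n N).eval (t' : ℚ) := by
      rw [chi_free, freePoly_eval, Int.cast_natCast]
    have e2 : (chi ((Coh.push ι).obj F) (t' : ℤ) : ℚ) = P.eval (t' : ℚ) := by
      rw [chi_push ι hι F]; exact hP t'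
    rw [h] at e1
    push_cast at e1 ⊢
    rw [eval_sub]
    linarith
  have vG' : ∀ i, 1 ≤ i → Subsingleton (Coh.HH (CohB1.ProjSpace n k) (twF G' (l : ℤ)) i) := fun i hi =>
    subsingleton_of_le hG'.1 hreg hi (by omega)
  have vfree : ∀ i, 1 ≤ i → Subsingleton (Coh.HH (CohB1.ProjSpace n k)
      (twF (FlatMod.freeMod (CohB1.ProjSpace n k) N) (l : ℤ)) i) := fun i hi =>
    subsingleton_of_le hfreeP.1 (isMRegular_free N) hi (by omega)
  obtain ⟨vF', vG⟩ := vanish_of_presentation (S := SY) (twFun n k (l : ℤ)) a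
    (shortExact_tw hSP (l : ℤ)) (shortExact_tw hSY (l : ℤ)) vG' vfree (hdY _ hdl)
  refine ⟨fun i hi => (CMReg.subsingleton_twistOn_iff ι F l i).2 (vF' i hi),
    fun i hi => (CMReg.subsingleton_twistOn_iff ι (kernel q) l i).2 (vG i hi),
    CMReg.isGloballyGenerated_twistOn ι (kernel q) l ?_⟩
  obtain ⟨e, he⟩ := @exists_epi_kernel_comp _ _ _ hSY a ha
  exact gg_tw_of_epi (B := (Coh.push ι).obj (kernel q)) e he hG' hreg hml

end Groth.Agent.ProjTwist.Pn
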