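import Groth.Agent.ProjTwist.Pn.H0
import Mathlib.LinearAlgebra.Matrix.Determinant.Basic

/-!
`H^n(P^n_R, O(-(n+1+k)))` is the module of forms of degree `k`.
-/

open CategoryTheory AlgebraicGeometry TopologicalSpace Opposite

universe u

noncomputable section

namespace Groth.Agent.ProjTwist.Pn

open Twist CohAff MvPolynomial

variable {n : ℕ} {R : Type u} [CommRing R] {d : ℤ}

/-- The all-negative exponent `-(m + 1)`. -/
def negExp (m : Fin (n + 1) →₀ ℕ) : Expo n := fun i => -(m i : ℤ) - 1

theorem negExp_injective : Function.Injective (negExp (n := n)) := fun a b h => by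
  ext i
  have := congrFun h i
  simp only [negExp] at this
  omega

theorem negExp_neg (m : Fin (n + 1) →₀ ℕ) (i : Fin (n + 1)) : negExp m i < 0 := by
  simp only [negExp]; omega

theorem sum_negExp (m : Fin (n + 1) →₀ ℕ) :
    ∑ i, negExp m i = -((n : ℤ) + 1) - (m.degree : ℤ) := by
  rw [Finsupp.degree_eq_sum]
  simp [negExp, Finset.sum_sub_distrib]
  ring

theorem exists_negExp_eq {e : Expo n} (he : ∀ i, e i < 0) : ∃ m, negExp m = e :=
  ⟨Finsupp.equivFunOnFinite.symm fun i => (-e i - 1).toNat, funext fun i => by
    have := he i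
    simp [negExp]
    omega⟩

/-- The indicator matrix of a tuple. -/
def tupMat (t : Fin (n + 1) → Fin (n + 1)) : Matrix (Fin (n + 1)) (Fin (n + 1)) R :=
  Matrix.of fun a b => if t a = b then 1 else 0

theorem tupMat_id : (tupMat id : Matrix (Fin (n + 1)) (Fin (n + 1)) R) = 1 := by
  ext a b
  simp [tupMat, Matrix.one_apply]

theorem det_tupMat_eq_zero {t : Fin (n + 1) → Fin (n + 1)} (h : tupImage t ≠ Finset.univ) :
    (tupMat t : Matrix _ _ R).det = 0 := by
  obtain ⟨b, hb⟩ : ∃ b, ∀ a, t a ≠ b := by
    by_contra h'
    push Not at h'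
    exact h (Finset.eq_univ_of_forall fun b => Finset.mem_image.mpr
      ⟨(h' b).choose, Finset.mem_univ _, (h' b).choose_spec⟩)
  exact Matrix.det_eq_zero_of_column_eq_zero b fun a => by simp [tupMat, hb a]

theorem tupD_det (t : Fin (n + 2) → Fin (n + 1)) :
    tupD (fun s => (tupMat s : Matrix _ _ R).det) t = 0 := by
  let M : Matrix (Fin (n + 2)) (Fin (n + 2)) R :=
    Matrix.of fun a b => Fin.cases 1 (fun b' => if t a = b' then 1 else 0) b
  have h0 : M.det = 0 := by
    have key : M.updateCol 0 (fun a => M a 0 + ∑ b ∈ (Finset.univ.erase 0), (-1 : R) • M a b) =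
        M.updateCol 0 fun _ => 0 := by
      congr 1
      funext a
      rw [show M a 0 = 1 from rfl, ← Finset.smul_sum]
      have : ∑ b ∈ Finset.univ.erase 0, M a b = 1 := by
        rw [Finset.sum_erase_eq_sub (Finset.mem_univ _), Fin.sum_univ_succ]
        simp [M]
      rw [this]
      simp
    have h1 : M.det = (M.updateCol 0
        (fun a => M a 0 + ∑ b ∈ (Finset.univ.erase 0), (-1 : R) • M a b)).det := by
      have := Matrix.det_updateCol_sum M 0 fun b => if b = 0 then (1 : R) else -1
      simp only [smul_eq_mul, ↓reduceIte, one_mul] at this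
      rw [← this]
      congr 2
      funext a
      rw [← Finset.add_sum_erase _ _ (Finset.mem_univ (0 : Fin (n + 2)))]
      congr 1
      · simp
      · exact Finset.sum_congr rfl fun b hb => by simp [Finset.ne_of_mem_erase hb]
    rw [h1, key]
    exact Matrix.det_eq_zero_of_column_eq_zero 0 fun a => Matrix.updateCol_self
  rw [Matrix.det_succ_column_zero] at h0
  rw [← h0, tupD]
  refine Finset.sum_congr rfl fun k _ => ?_
  rw [show M k 0 = 1 from rfl, mul_one, zsmul_eq_mul]
  push_cast
  congr 2

variable (n R) in
/-- The cocycle attached to an all-negative exponent. -/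
def detCoc {d : ℤ} (m : Fin (n + 1) →₀ ℕ) (hm : ∑ i, negExp m i = d) : cocL n R d n :=
  ⟨fun t => AddMonoidAlgebra.single (negExp m) (tupMat t).det, fun t e he => by
    classical
    obtain rfl := Finset.mem_singleton.mp (Finsupp.support_single_subset he)
    refine ⟨hm, fun i _ => ?_⟩
    by_contra hi
    rw [Finsupp.mem_support_iff] at he
    refine he ?_
    show (AddMonoidAlgebra.single (negExp m) (tupMat t : Matrix _ _ R).det).coeff (negExp m) = 0
    rw [det_tupMat_eq_zero fun h => hi (h ▸ Finset.mem_univ i)]
    simp, fun t => by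
    refine AddMonoidAlgebra.ext (Finsupp.ext fun e => ?_)
    rw [coeff_tupD]
    by_cases he : e = negExp m
    · subst he
      simp only [AddMonoidAlgebra.coeff_single, Finsupp.single_eq_same]
      exact (tupD_det t).trans rfl
    · simp [tupD, he]⟩

/-- A cocycle of degree `n` vanishing at the identity on negative exponents vanishes there. -/
theorem coeff_eq_zero_of_cocycle (f : cocL n R d n) {e : Expo n} (he : ∀ i, e i < 0)
    (h0 : (f.1 id).coeff e = 0) (t : Fin (n + 1) → Fin (n + 1)) : (f.1 t).coeff e = 0 := by
  classical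
  let g : (Fin (n + 1) → Fin (n + 1)) → R := fun s => (f.1 s).coeff e
  have hg0 : ∀ s, tupImage s ≠ Finset.univ → g s = 0 := fun s hs => by
    by_contra hne
    exact hs (Finset.eq_univ_of_forall fun i =>
      (f.2.1 s e (Finsupp.mem_support_iff.mpr hne)).2 i (he i))
  have hcd : ∀ u : Fin (n + 2) → Fin (n + 1), tupD g u = 0 := fun u => by
    rw [show g = fun s => (f.1 s).coeff e from rfl, ← coeff_tupD, f.2.2]; rfl
  -- move a variable to the front
  have move : ∀ (s : Fin (n + 1) → Fin (n + 1)) (x : Fin (n + 1)), Function.Injective s →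
      ∀ k, s k = x → g (Fin.cons x (s ∘ k.succAbove)) = 0 → g s = 0 := by
    intro s x hs k hk hz
    have h := hcd (Fin.cons x s)
    rw [tupD, Fin.sum_univ_succ] at h
    simp only [Fin.val_zero, pow_zero, one_smul, Fin.succAbove_zero] at h
    rw [show (Fin.cons x s : Fin (n + 2) → Fin (n + 1)) ∘ Fin.succ = s from
      funext fun a => Fin.cons_succ _ _ _] at h
    rw [Finset.sum_eq_zero, add_zero] at h
    · exact h
    intro a _
    rw [Fin.cons_comp_succ_succAbove]
    change (-1 : ℤ) ^ ((a.succ : Fin (n + 2)) : ℕ) • g (Fin.cons x (s ∘ a.succAbove)) = 0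
    by_cases ha : a = k
    · subst ha; rw [hz, smul_zero]
    · rw [hg0, smul_zero]
      intro hu
      have hinj : Function.Injective (Fin.cons x (s ∘ a.succAbove) : Fin (n + 1) → Fin (n + 1)) :=
        Finite.injective_iff_surjective.mpr fun b =>
          (Finset.mem_image.mp (hu.ge (Finset.mem_univ b))).elim fun c hc => ⟨c, hc.2⟩
      obtain ⟨b, rfl⟩ := Fin.exists_succAbove_eq (Ne.symm ha : k ≠ a)
      exact Fin.succ_ne_zero b (hinj (a₁ := b.succ) (a₂ := 0) (by simp [hk]))
  have key : ∀ j : ℕ, j ≤ n + 1 → ∀ s : Fin (n + 1) → Fin (n + 1), Function.Injective s →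
      (∀ i : Fin (n + 1), (i : ℕ) < n + 1 - j → (s i : ℕ) = (i : ℕ) + j) → g s = 0 := by
    intro j
    induction j with
    | zero =>
      intro _ s _ hs
      rw [show s = id from funext fun i => Fin.ext (by simpa using hs i (by omega))]
      exact h0
    | succ j ih =>
      intro hj s hinj hs
      obtain ⟨k, hk⟩ := (Finite.injective_iff_surjective.mp hinj) ⟨j, by omega⟩
      refine move s _ hinj k hk (ih (by omega) _ ?_ ?_)
      · rw [← hk, Fin.cons_injective_iff]
        refine ⟨?_, hinj.comp Fin.succAbove_right_injective⟩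
        rintro ⟨a, ha⟩
        exact Fin.succAbove_ne k a (hinj ha)
      · intro i hi
        induction i using Fin.cases with
        | zero => simp
        | succ i =>
          have hik : i.castSucc < k := by
            by_contra hle
            push Not at hle
            have := hs k (by have := Fin.le_def.mp hle; simp at this hi; omega)
            rw [hk] at this
            simp at this
            omega
          rw [Fin.cons_succ, Function.comp_apply, Fin.succAbove_of_castSucc_lt _ _ hik,
            hs _ (by simp at hi ⊢; omega)]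
          simp; omega
  by_cases ht : tupImage t = Finset.univ
  · refine key (n + 1) le_rfl t ?_ (fun i hi => absurd hi (by omega))
    exact Finite.injective_iff_surjective.mpr fun b =>
      (Finset.mem_image.mp (ht.ge (Finset.mem_univ b))).elim fun c hc => ⟨c, hc.2⟩
  · exact hg0 t ht

variable (n R) in
/-- The negative-exponent coefficients at the identity tuple, as a polynomial. -/
def negPart (k : ℕ) : cocL n R (-((n : ℤ) + 1 + k)) n →ₗ[R]
    MvPolynomial.homogeneousSubmodule (Fin (n + 1)) R k where
  toFun f := ⟨AddMonoidAlgebra.ofCoeff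
      ((f.1 id).coeff.comapDomain negExp negExp_injective.injOn),
    (mem_homogeneousSubmodule k _).mpr fun m hm => by
      have h := (f.2.1 id (negExp m) (Finsupp.mem_support_iff.mpr hm)).1
      rw [sum_negExp] at h
      rw [show Finsupp.weight 1 m = m.degree from
        (congrArg (fun φ => φ m) Finsupp.degree_eq_weight_one).symm]
      omega⟩
  map_add' f g := Subtype.ext (AddMonoidAlgebra.ext (Finsupp.ext fun m => rfl))
  map_smul' r f := Subtype.ext (AddMonoidAlgebra.ext (Finsupp.ext fun m => rfl))

theorem negPart_coeff (k : ℕ) (f : cocL n R (-((n : ℤ) + 1 + k)) n) (m : Fin (n + 1) →₀ ℕ) :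
    (negPart n R k f).1.coeff m = (f.1 id).coeff (negExp m) := rfl

theorem negPart_surjective (k : ℕ) : Function.Surjective (negPart n R k) := by
  classical
  intro p
  have hdeg : ∀ m ∈ p.1.support, ∑ i, negExp m i = -((n : ℤ) + 1 + k) := fun m hm => by
    have h := (mem_homogeneousSubmodule k p.1).mp p.2 (mem_support_iff.mp hm)
    rw [show Finsupp.weight 1 m = m.degree from
      (congrArg (fun φ => φ m) Finsupp.degree_eq_weight_one).symm] at h
    rw [sum_negExp, h]
    ring
  refine ⟨∑ m ∈ p.1.support.attach, p.1.coeff m.1 • detCoc n R m.1 (hdeg _ m.2),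
    Subtype.ext (MvPolynomial.ext _ _ fun m => ?_)⟩
  show (negPart n R k _).1.coeff m = _
  rw [negPart_coeff]
  rw [AddSubmonoidClass.coe_finsetSum, Finset.sum_apply, AddMonoidAlgebra.coeff_sum,
    Finsupp.finsetSum_apply]
  simp only [SetLike.val_smul, Pi.smul_apply, detCoc, tupMat_id, Matrix.det_one,
    AddMonoidAlgebra.coeff_smul, AddMonoidAlgebra.coeff_single, Finsupp.smul_apply, smul_eq_mul,
    Finsupp.single_apply, mul_ite, mul_one, mul_zero]
  rw [Finset.sum_attach p.1.support fun x => if negExp x = negExp m then p.1.coeff x else 0]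
  simp only [negExp_injective.eq_iff, Finset.sum_ite_eq', mem_support_iff]
  split_ifs with h
  · rfl
  · push Not at h; exact h.symm

theorem ker_classHom_eq (k : ℕ) :
    LinearMap.ker (classHom n R (-((n : ℤ) + 1 + k)) n) = LinearMap.ker (negPart n R k) := by
  refine le_antisymm (fun f hf => ?_) (fun f hf => ?_)
  · rw [LinearMap.mem_ker] at hf ⊢
    refine Subtype.ext (MvPolynomial.ext _ _ fun m => ?_)
    show (negPart n R k f).1.coeff m = 0
    rw [negPart_coeff]
    cases n with
    | zero =>
      rw [classHom_zero_injective (hf.trans (map_zero _).symm)]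
      rfl
    | succ q =>
      obtain ⟨c, hc, hcf⟩ := exists_cochain f
      rw [classHom_apply, classL_eq f hc hcf] at hf
      obtain ⟨b, rfl⟩ := exists_cd_eq_of_toH_eq_zero iSup_cov (fun x => affCov_mem_inter x)
        (good_tw _) hc hf
      rw [← hcf, lauC_cd, coeff_tupD]
      refine Finset.sum_eq_zero fun a _ => ?_
      suffices (lauC q b ((id : Fin (q + 2) → Fin (q + 2)) ∘ a.succAbove)).coeff (negExp m) = 0 by
        exact (congrArg (((-1 : ℤ) ^ (a : ℕ)) • ·) this).trans (smul_zero _)
      by_contra hne
      have := (lauC_mem b _ _ (Finsupp.mem_support_iff.mpr hne)).2 a (negExp_neg m a)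
      simp [tupImage] at this
  · rw [LinearMap.mem_ker] at hf ⊢
    have hneg : ∀ t e, (∀ i, e i < 0) → (f.1 t).coeff e = 0 := fun t e he => by
      obtain ⟨m, rfl⟩ := exists_negExp_eq he
      refine coeff_eq_zero_of_cocycle f he ?_ t
      rw [← negPart_coeff, hf]
      rfl
    cases n with
    | zero =>
      suffices f = 0 by rw [this, map_zero]
      refine Subtype.ext (funext fun t => AddMonoidAlgebra.ext (Finsupp.ext fun e => ?_))
      show (f.1 t).coeff e = 0
      by_contra hne
      refine hne (hneg t e fun i => ?_)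
      have h := (f.2.1 t e (Finsupp.mem_support_iff.mpr hne)).1
      have hi : e i = e 0 := congrArg e (Subsingleton.elim (α := Fin 1) i 0)
      simp at h
      omega
    | succ q =>
      obtain ⟨c, hc, hcf⟩ := exists_cochain f
      obtain ⟨b, hb, hbc⟩ := exists_tupD_eq f.1 f.2.1 f.2.2 (Or.inr fun t e he => by
        by_contra hh
        push Not at hh
        exact Finsupp.mem_support_iff.mp he (hneg t e hh))
      obtain ⟨e, rfl⟩ := exists_lauC_eq hb
      rw [classHom_apply, classL_eq f (c := cd (tw (q + 1) R _).obj (cov (q + 1) R) q e)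
        (cd_cd _ _ _ _) ((lauC_cd e).trans (funext hbc))]
      exact toH_cd _ _ e

/-- `H^n(P^n_R, O(-(n+1+k)))` is the module of forms of degree `k`. -/
def topEquiv (n : ℕ) (R : Type u) [CommRing R] (k : ℕ) :
    Coh.HH (CohB1.ProjSpace n R) (twistProjSpace n R (-((n : ℤ) + 1 + k))) n ≃ₗ[R]
      MvPolynomial.homogeneousSubmodule (Fin (n + 1)) R k :=
  ((LinearMap.quotKerEquivOfSurjective (classHom n R _ n) (classHom_surjective n)).symm.trans
    (Submodule.quotEquivOfEq _ _ (ker_classHom_eq k))).trans
    (LinearMap.quotKerEquivOfSurjective (negPart n R k) (negPart_surjective k))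

end Groth.Agent.ProjTwist.Pn
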