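import Mathlib.Algebra.MonoidAlgebra.MapDomain
import Mathlib.RingTheory.MvPolynomial.Homogeneous

/-!
The Laurent polynomial ring in `n + 1` variables, and the degree `d` part with poles allowed along
a set `I` of variables only.
-/

universe u

noncomputable section

namespace Groth.Agent.ProjTwist.Pn

open MvPolynomial AddMonoidAlgebra

variable {n : ℕ} {R : Type u} [CommRing R]

/-- Laurent exponents. -/
abbrev Expo (n : ℕ) : Type := Fin (n + 1) → ℤ

/-- Laurent polynomials in `T_0, …, T_n`. -/
abbrev Lau (n : ℕ) (R : Type u) [CommRing R] : Type u := AddMonoidAlgebra R (Expo n)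

/-- Natural exponents as Laurent exponents. -/
def castExpo : (Fin (n + 1) →₀ ℕ) →+ Expo n where
  toFun m i := (m i : ℤ)
  map_zero' := by ext; simp
  map_add' a b := by ext; simp

theorem castExpo_apply (m : Fin (n + 1) →₀ ℕ) (i : Fin (n + 1)) : castExpo m i = (m i : ℤ) := rfl

theorem castExpo_injective : Function.Injective (castExpo (n := n)) := fun a b h => by
  ext i; exact Int.natCast_inj.mp (congrFun h i)

/-- The inclusion of polynomials in Laurent polynomials. -/
def toLau : MvPolynomial (Fin (n + 1)) R →+* Lau n R :=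
  AddMonoidAlgebra.mapDomainRingHom R castExpo

theorem toLau_injective : Function.Injective (toLau (n := n) (R := R)) :=
  AddMonoidAlgebra.mapDomain_injective castExpo_injective

theorem coeff_toLau (p : MvPolynomial (Fin (n + 1)) R) (m : Fin (n + 1) →₀ ℕ) :
    (toLau p).coeff (castExpo m) = p.coeff m :=
  Finsupp.mapDomain_apply castExpo_injective _ _

theorem mem_range_of_mem_support_toLau {p : MvPolynomial (Fin (n + 1)) R} {e : Expo n}
    (he : e ∈ (toLau p).coeff.support) : ∃ m ∈ p.support, castExpo m = e := by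
  classical
  obtain ⟨m, hm, rfl⟩ := Finset.mem_image.mp (Finsupp.mapDomain_support he)
  exact ⟨m, hm, rfl⟩

theorem toLau_monomial (m : Fin (n + 1) →₀ ℕ) (r : R) :
    toLau (monomial m r) = AddMonoidAlgebra.single (castExpo m) r :=
  AddMonoidAlgebra.mapDomain_single

/-- The indicator of a set of variables. -/
def indNat (I : Finset (Fin (n + 1))) : Fin (n + 1) →₀ ℕ :=
  Finsupp.equivFunOnFinite.symm fun i => if i ∈ I then 1 else 0

theorem indNat_apply (I : Finset (Fin (n + 1))) (i : Fin (n + 1)) :
    indNat I i = if i ∈ I then 1 else 0 := rfl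

theorem sum_indNat (I : Finset (Fin (n + 1))) : ∑ i, indNat I i = I.card := by
  simp [indNat_apply]

/-- The indicator as a Laurent exponent. -/
abbrev ind (I : Finset (Fin (n + 1))) : Expo n := castExpo (indNat I)

theorem ind_apply (I : Finset (Fin (n + 1))) (i : Fin (n + 1)) :
    ind I i = if i ∈ I then 1 else 0 := by
  simp only [ind, castExpo_apply, indNat_apply]; split_ifs <;> rfl

variable (R) in
/-- The product of the variables in `I`. -/
def mI (I : Finset (Fin (n + 1))) : MvPolynomial (Fin (n + 1)) R := monomial (indNat I) 1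

theorem isHomogeneous_mI (I : Finset (Fin (n + 1))) : (mI R I).IsHomogeneous I.card :=
  isHomogeneous_monomial 1 (by rw [Finsupp.degree_eq_sum, sum_indNat])

theorem mI_eq_prod (I : Finset (Fin (n + 1))) : mI R I = ∏ i ∈ I, X i := by
  rw [mI, ← prod_X_pow_eq_monomial]
  have : (indNat I).support = I := by ext i; simp [indNat_apply]
  rw [this]
  exact Finset.prod_congr rfl fun i hi => by simp [indNat_apply, hi]

theorem toLau_mI_pow (I : Finset (Fin (n + 1))) (j : ℕ) :
    toLau (mI R I ^ j) = AddMonoidAlgebra.single (j • ind I) (1 : R) := by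
  rw [map_pow, mI, toLau_monomial, AddMonoidAlgebra.single_pow, one_pow]

/-- `a / (T^I)^j` as a Laurent polynomial. -/
def fracLau (I : Finset (Fin (n + 1))) (j : ℕ) (a : MvPolynomial (Fin (n + 1)) R) : Lau n R :=
  toLau a * AddMonoidAlgebra.single (-(j • ind I)) (1 : R)

theorem fracLau_add (I : Finset (Fin (n + 1))) (j : ℕ) (a b : MvPolynomial (Fin (n + 1)) R) :
    fracLau I j (a + b) = fracLau I j a + fracLau I j b := by
  rw [fracLau, map_add, add_mul]; rfl

theorem fracLau_mul_pow (I : Finset (Fin (n + 1))) (j k : ℕ) (a : MvPolynomial (Fin (n + 1)) R) :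
    fracLau I (j + k) (a * mI R I ^ k) = fracLau I j a := by
  rw [fracLau, map_mul, toLau_mI_pow, mul_assoc, AddMonoidAlgebra.single_mul_single, one_mul,
    fracLau]
  congr 3
  rw [add_nsmul]; abel

theorem fracLau_eq_of_pow_mul_eq (I : Finset (Fin (n + 1))) {j k m : ℕ}
    {a b : MvPolynomial (Fin (n + 1)) R}
    (h : mI R I ^ m * (a * mI R I ^ k) = mI R I ^ m * (b * mI R I ^ j)) :
    fracLau I j a = fracLau I k b := by
  calc fracLau I j a = fracLau I (j + k) (a * mI R I ^ k) := (fracLau_mul_pow I j k a).symm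
    _ = fracLau I (j + k + m) ((a * mI R I ^ k) * mI R I ^ m) := (fracLau_mul_pow I _ m _).symm
    _ = fracLau I (k + j + m) ((b * mI R I ^ j) * mI R I ^ m) := by
      rw [add_comm j k, mul_comm _ (mI R I ^ m), h, mul_comm (mI R I ^ m)]
    _ = fracLau I (k + j) (b * mI R I ^ j) := fracLau_mul_pow I _ m _
    _ = fracLau I k b := fracLau_mul_pow I k j b

theorem fracLau_union {I J : Finset (Fin (n + 1))} (h : I ⊆ J) (j : ℕ)
    (a : MvPolynomial (Fin (n + 1)) R) :
    fracLau J j (a * mI R (J \ I) ^ j) = fracLau I j a := by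
  have e : ind J = ind (J \ I) + ind I := by
    ext i
    simp only [Pi.add_apply, ind_apply, Finset.mem_sdiff]
    by_cases hi : i ∈ I <;> by_cases hj : i ∈ J <;> simp [hi, hj]
    exact hj (h hi)
  rw [fracLau, map_mul, toLau_mI_pow, mul_assoc, AddMonoidAlgebra.single_mul_single, one_mul,
    fracLau]
  congr 3
  rw [e, smul_add]; abel

variable (R) in
/-- Laurent polynomials of degree `d` whose poles lie along the variables in `I`. -/
def lauPart (d : ℤ) (I : Finset (Fin (n + 1))) : Submodule R (Lau n R) where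
  carrier := {q | ∀ e ∈ q.coeff.support, ∑ i, e i = d ∧ ∀ i, e i < 0 → i ∈ I}
  zero_mem' := by simp
  add_mem' {p q} hp hq e he := by
    classical
    rw [AddMonoidAlgebra.coeff_add] at he
    rcases Finset.mem_union.mp (Finsupp.support_add he) with h | h
    · exact hp e h
    · exact hq e h
  smul_mem' r q hq e he := hq e (Finsupp.support_smul he)

theorem mem_lauPart {d : ℤ} {I : Finset (Fin (n + 1))} {q : Lau n R} :
    q ∈ lauPart R d I ↔ ∀ e ∈ q.coeff.support, ∑ i, e i = d ∧ ∀ i, e i < 0 → i ∈ I := Iff.rfl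

theorem fracLau_mem {d : ℤ} {I : Finset (Fin (n + 1))} {i j : ℕ}
    {a : MvPolynomial (Fin (n + 1)) R} (ha : a.IsHomogeneous i)
    (hij : (i : ℤ) = (j : ℤ) * I.card + d) : fracLau I j a ∈ lauPart R d I := fun e he => by
  classical
  rw [fracLau] at he
  obtain ⟨e', he', rfl⟩ : ∃ e' ∈ (toLau a).coeff.support, e' + -(j • ind I) = e := by
    refine ⟨e + j • ind I, ?_, by abel⟩
    rw [Finsupp.mem_support_iff] at he ⊢
    rwa [show e = (e + j • ind I) + -(j • ind I) by abel, AddMonoidAlgebra.coeff_mul_single_add,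
      mul_one] at he
  obtain ⟨m, hm, rfl⟩ := mem_range_of_mem_support_toLau he'
  have hdeg : (m.degree : ℤ) = i := by
    rw [← ha (MvPolynomial.mem_support_iff.mp hm), Finsupp.degree_eq_weight_one]
    rfl
  refine ⟨?_, fun l hl => ?_⟩
  · have hI : ∑ l, ind I l = (I.card : ℤ) := by simp [ind_apply]
    rw [Finsupp.degree_eq_sum] at hdeg
    push_cast at hdeg
    simp only [Pi.add_apply, Pi.neg_apply, Pi.smul_apply, Finset.sum_add_distrib,
      Finset.sum_neg_distrib, ← Finset.smul_sum, hI]
    simp only [castExpo_apply]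
    rw [hdeg, hij, nsmul_eq_mul]
    push_cast
    ring
  · by_contra hlI
    have h0 : ind I l = 0 := by simp [ind_apply, hlI]
    simp only [Pi.add_apply, Pi.neg_apply, Pi.smul_apply, h0, smul_zero, neg_zero, add_zero,
      castExpo_apply] at hl
    omega

theorem exists_fracLau_eq {d : ℤ} {I : Finset (Fin (n + 1))} (hI : I.Nonempty) {q : Lau n R}
    (hq : q ∈ lauPart R d I) :
    ∃ J : ℕ, ∀ j ≥ J, ∃ (i : ℕ) (a : MvPolynomial (Fin (n + 1)) R),
      a.IsHomogeneous i ∧ (i : ℤ) = (j : ℤ) * I.card + d ∧ fracLau I j a = q := by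
  classical
  refine ⟨(q.coeff.support.sup fun e => Finset.univ.sup fun l => (-e l).toNat) + (-d).toNat,
    fun j hj => ?_⟩
  have hcard : (j : ℤ) ≤ (j : ℤ) * I.card :=
    le_mul_of_one_le_right (Int.natCast_nonneg j) (by exact_mod_cast hI.card_pos)
  obtain ⟨i, hi⟩ := Int.eq_ofNat_of_zero_le
    (show 0 ≤ (j : ℤ) * I.card + d by omega)
  have key : ∀ e ∈ q.coeff.support, ∃ m : Fin (n + 1) →₀ ℕ,
      castExpo m = e + j • ind I ∧ m.degree = i := by
    intro e he
    obtain ⟨hdeg, hneg⟩ := hq e he
    have hpos : ∀ l, 0 ≤ e l + (j : ℤ) * ind I l := by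
      intro l
      by_cases hl : l ∈ I
      · have h1 : (-e l).toNat ≤
            q.coeff.support.sup fun e => Finset.univ.sup fun l => (-e l).toNat :=
          (Finset.le_sup (f := fun l => (-e l).toNat) (Finset.mem_univ l)).trans
            (Finset.le_sup (f := fun e : Expo n => Finset.univ.sup fun l => (-e l).toNat) he)
        rw [ind_apply, if_pos hl, mul_one]
        omega
      · have : ¬ e l < 0 := fun h => hl (hneg l h)
        rw [ind_apply, if_neg hl, mul_zero]
        omega
    refine ⟨Finsupp.equivFunOnFinite.symm fun l => (e l + (j : ℤ) * ind I l).toNat, ?_, ?_⟩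
    · ext l
      rw [castExpo_apply, Finsupp.equivFunOnFinite_symm_apply_apply,
        Int.toNat_of_nonneg (hpos l), Pi.add_apply, Pi.smul_apply, nsmul_eq_mul]
    · rw [Finsupp.degree_eq_sum]
      have : ((∑ l, (e l + (j : ℤ) * ind I l).toNat : ℕ) : ℤ) = (i : ℤ) := by
        rw [Nat.cast_sum, Finset.sum_congr rfl fun l _ => Int.toNat_of_nonneg (hpos l),
          Finset.sum_add_distrib, hdeg, ← Finset.mul_sum, ← hi]
        simp [ind_apply, add_comm]
      simpa using Int.natCast_inj.mp this
  choose! m hm hdeg using key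
  refine ⟨i, ∑ e ∈ q.coeff.support, monomial (m e) (q.coeff e),
    IsHomogeneous.sum _ _ _ fun e he => isHomogeneous_monomial _ (hdeg e he), hi.symm, ?_⟩
  rw [fracLau, map_sum, Finset.sum_mul]
  conv_rhs => rw [← AddMonoidAlgebra.sum_coeff_single q]
  refine Finset.sum_congr rfl fun e he => ?_
  rw [toLau_monomial, hm e he, AddMonoidAlgebra.single_mul_single, mul_one, add_neg_cancel_right]

end Groth.Agent.ProjTwist.Pn
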