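import Groth.Agent.ProjTwist.Invertible
import Groth.Agent.ProjTwist.SectBasicOpen
import Groth.Agent.ProjTwist.Pn.Laurent

/-!
Sections of `O(d)` over the standard opens of `P^n_R`, as Laurent polynomials.
-/

open CategoryTheory AlgebraicGeometry TopologicalSpace Opposite

universe u

noncomputable section

namespace Groth.Agent.ProjTwist.Pn

open Twist MvPolynomial

variable {n : ℕ} {R : Type u} [CommRing R]

theorem mI_mem (I : Finset (Fin (n + 1))) : mI R I ∈ CohB1.polyGrading n R I.card :=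
  (mem_homogeneousSubmodule _ _).mpr (isHomogeneous_mI I)

theorem mI_sdiff_mul {I J : Finset (Fin (n + 1))} (h : I ⊆ J) : mI R J = mI R (J \ I) * mI R I := by
  rw [mI_eq_prod, mI_eq_prod, mI_eq_prod, Finset.prod_sdiff h]

variable (R) in
/-- `D₊(∏_{i ∈ I} T_i)`. -/
def dI (I : Finset (Fin (n + 1))) :
    Opens (ProjectiveSpectrum.top (CohB1.polyGrading n R)) :=
  dPlus (CohB1.polyGrading n R) (mI R I)

theorem dI_anti {I J : Finset (Fin (n + 1))} (h : I ⊆ J) : dI R J ≤ dI (n := n) R I := by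
  intro x hx hxI
  refine hx ?_
  rw [mI_sdiff_mul h]
  exact Ideal.mul_mem_left _ _ hxI

/-- A fraction representing a section over `D₊(T^I)`. -/
def IsRep (d : ℤ) (I : Finset (Fin (n + 1)))
    (s : sectN (𝒜 := CohB1.polyGrading n R) d (op (dI R I))) (i j : ℕ)
    (a : MvPolynomial (Fin (n + 1)) R) : Prop :=
  a.IsHomogeneous i ∧ (i : ℤ) = (j : ℤ) * I.card + d ∧
    ∀ x : dI R I, (s.1 x).1 = Localization.mk a ⟨mI R I ^ j, not_mem_pow x.1 x.2 j⟩

theorem exists_isRep (d : ℤ) {I : Finset (Fin (n + 1))} (hI : I.Nonempty)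
    (s : sectN (𝒜 := CohB1.polyGrading n R) d (op (dI R I))) :
    ∃ i j a, IsRep d I s i j a := by
  obtain ⟨l, hl⟩ := hI
  have hfg : mI R I = X l * mI R (I \ {l}) := by
    rw [mI_sdiff_mul (Finset.singleton_subset_iff.mpr hl), mul_comm]
    simp [mI_eq_prod]
  obtain ⟨i, j, a, ha, hij, hs⟩ := exists_frac (mI_mem I) (Finset.card_pos.mpr ⟨l, hl⟩)
    (X_mem_polyGrading n R l) (h := mI R (I \ {l})) (by
      have hc : (I \ {l}).card = I.card - 1 := by
        rw [Finset.sdiff_singleton_eq_erase, Finset.card_erase_of_mem hl]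
      exact hc ▸ mI_mem _) hfg d s
  exact ⟨i, j, a, (mem_homogeneousSubmodule _ _).mp ha, hij, hs⟩

theorem fracLau_eq_of_isRep {d : ℤ} {I : Finset (Fin (n + 1))} (hI : I.Nonempty)
    {s : sectN (𝒜 := CohB1.polyGrading n R) d (op (dI R I))} {i j i' j' : ℕ}
    {a a' : MvPolynomial (Fin (n + 1)) R} (h : IsRep d I s i j a) (h' : IsRep d I s i' j' a') :
    fracLau I j a = fracLau I j' a' := by
  obtain ⟨ha, hij, hs⟩ := h
  obtain ⟨ha', hij', hs'⟩ := h'
  have e : i' + j * I.card = i + j' * I.card := by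
    zify; rw [hij, hij']; ring
  have hb : a' * mI R I ^ j ∈ CohB1.polyGrading n R (i + j' * I.card) := e ▸
    (mem_homogeneousSubmodule _ _).mpr (ha'.mul (by simpa [mul_comm] using (isHomogeneous_mI I).pow j))
  have haa : a * mI R I ^ j' ∈ CohB1.polyGrading n R (i + j' * I.card) :=
    (mem_homogeneousSubmodule _ _).mpr (ha.mul (by simpa [mul_comm] using (isHomogeneous_mI I).pow j'))
  obtain ⟨m, hm⟩ := exists_pow_mul_eq_of_frac_eq haa hb (mI_mem I) (Finset.card_pos.mpr hI) (j + j')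
    fun x hx => by
      have k1 := hs ⟨x, hx⟩
      have k2 := hs' ⟨x, hx⟩
      have k3 := k1.symm.trans k2
      rw [Localization.mk_eq_mk_iff, Localization.r_iff_exists] at k3 ⊢
      obtain ⟨c, hc⟩ := k3
      refine ⟨c, ?_⟩
      dsimp only at hc ⊢
      linear_combination (mI R I ^ (j + j') : MvPolynomial (Fin (n + 1)) R) * hc
  exact fracLau_eq_of_pow_mul_eq I hm

/-- The Laurent polynomial of a section over `D₊(T^I)`. -/
def secLau (d : ℤ) {I : Finset (Fin (n + 1))} (hI : I.Nonempty)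
    (s : sectN (𝒜 := CohB1.polyGrading n R) d (op (dI R I))) : Lau n R :=
  fracLau I (exists_isRep d hI s).choose_spec.choose
    (exists_isRep d hI s).choose_spec.choose_spec.choose

theorem secLau_eq {d : ℤ} {I : Finset (Fin (n + 1))} (hI : I.Nonempty)
    {s : sectN (𝒜 := CohB1.polyGrading n R) d (op (dI R I))} {i j : ℕ}
    {a : MvPolynomial (Fin (n + 1)) R} (h : IsRep d I s i j a) :
    secLau d hI s = fracLau I j a :=
  fracLau_eq_of_isRep hI (exists_isRep d hI s).choose_spec.choose_spec.choose_spec h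

theorem secLau_mem (d : ℤ) {I : Finset (Fin (n + 1))} (hI : I.Nonempty)
    (s : sectN (𝒜 := CohB1.polyGrading n R) d (op (dI R I))) :
    secLau d hI s ∈ lauPart R d I := by
  have H := exists_isRep d hI s
  obtain ⟨i, j, a, h⟩ := H
  rw [secLau_eq hI h]
  exact fracLau_mem h.1 h.2.1

theorem add_coe {d : ℤ} {U : (Opens (ProjectiveSpectrum.top (CohB1.polyGrading n R)))ᵒᵖ}
    (s t : sectN (𝒜 := CohB1.polyGrading n R) d U) (x : U.unop) :
    ((s + t).1 x).1 = (s.1 x).1 + (t.1 x).1 :=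
  (congrArg Subtype.val (congrFun (Submodule.coe_add s t) x)).trans (Submodule.coe_add _ _)

theorem secLau_add (d : ℤ) {I : Finset (Fin (n + 1))} (hI : I.Nonempty)
    (s t : sectN (𝒜 := CohB1.polyGrading n R) d (op (dI R I))) :
    secLau d hI (s + t) = secLau d hI s + secLau d hI t := by
  have H := exists_isRep d hI s
  obtain ⟨i, j, a, ha, hij, hs⟩ := H
  have H := exists_isRep d hI t
  obtain ⟨i', j', b, hb, hij', ht⟩ := H
  have h : IsRep d I (s + t) (i + j' * I.card) (j + j') (a * mI R I ^ j' + b * mI R I ^ j) := by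
    refine ⟨(ha.mul (by simpa [mul_comm] using (isHomogeneous_mI I).pow j')).add ?_,
      by push_cast; linear_combination hij, fun x => ?_⟩
    · have e : i' + j * I.card = i + j' * I.card := by zify; rw [hij, hij']; ring
      exact e ▸ hb.mul (by simpa [mul_comm] using (isHomogeneous_mI I).pow j)
    · rw [add_coe s t x, hs x, ht x, Localization.add_mk, Localization.mk_eq_mk_iff,
        Localization.r_iff_exists]
      refine ⟨1, ?_⟩
      simp only [OneMemClass.coe_one, one_mul, Submonoid.coe_mul]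
      ring
  rw [secLau_eq hI h, secLau_eq hI ⟨ha, hij, hs⟩, secLau_eq hI ⟨hb, hij', ht⟩, fracLau_add,
    fracLau_mul_pow, add_comm j j', fracLau_mul_pow]

theorem eq_of_secLau_eq {d : ℤ} {I : Finset (Fin (n + 1))} (hI : I.Nonempty)
    {s t : sectN (𝒜 := CohB1.polyGrading n R) d (op (dI R I))}
    (h : secLau d hI s = secLau d hI t) : s = t := by
  have H := exists_isRep d hI s
  obtain ⟨i, j, a, ha, hij, hs⟩ := H
  have H := exists_isRep d hI t
  obtain ⟨i', j', b, hb, hij', ht⟩ := H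
  rw [secLau_eq hI ⟨ha, hij, hs⟩, secLau_eq hI ⟨hb, hij', ht⟩, ← fracLau_mul_pow I j j' a,
    ← fracLau_mul_pow I j' j b, add_comm j' j, fracLau, fracLau] at h
  have hu : IsUnit (AddMonoidAlgebra.single (-((j + j') • ind I)) (1 : R) : Lau n R) :=
    isUnit_iff_exists_inv.mpr ⟨AddMonoidAlgebra.single ((j + j') • ind I) 1, by
      rw [AddMonoidAlgebra.single_mul_single, neg_add_cancel, one_mul]; rfl⟩
  have e : a * mI R I ^ j' = b * mI R I ^ j := toLau_injective (hu.mul_right_cancel h)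
  refine sectN_ext fun x => ?_
  rw [hs x, ht x, Localization.mk_eq_mk_iff, Localization.r_iff_exists]
  exact ⟨1, by simp only [OneMemClass.coe_one, one_mul]; linear_combination e⟩

/-- The section `a / (T^I)^j`. -/
def fracSec (d : ℤ) (I : Finset (Fin (n + 1))) {i j : ℕ} {a : MvPolynomial (Fin (n + 1)) R}
    (ha : a.IsHomogeneous i) (hij : (i : ℤ) = (j : ℤ) * I.card + d) :
    sectN (𝒜 := CohB1.polyGrading n R) d (op (dI R I)) :=
  ⟨fun x => ⟨Localization.mk a ⟨mI R I ^ j, not_mem_pow x.1 x.2 j⟩,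
      Submodule.subset_span ⟨i, j * I.card, ⟨a, (mem_homogeneousSubmodule _ _).mpr ha⟩,
        ⟨mI R I ^ j, by simpa using SetLike.pow_mem_graded j (mI_mem I)⟩, not_mem_pow x.1 x.2 j,
        by push_cast; exact hij, rfl⟩⟩,
    fun x => ⟨dI R I, x.2, 𝟙 _, i, j * I.card, ⟨a, (mem_homogeneousSubmodule _ _).mpr ha⟩,
      ⟨mI R I ^ j, by simpa using SetLike.pow_mem_graded j (mI_mem I)⟩,
      fun y => not_mem_pow y.1 y.2 j,
      Or.inl (show (i : ℤ) = ((j * I.card : ℕ) : ℤ) + d by push_cast; exact hij),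
      fun y => rfl⟩⟩

theorem isRep_fracSec (d : ℤ) (I : Finset (Fin (n + 1))) {i j : ℕ}
    {a : MvPolynomial (Fin (n + 1)) R} (ha : a.IsHomogeneous i)
    (hij : (i : ℤ) = (j : ℤ) * I.card + d) : IsRep d I (fracSec d I ha hij) i j a :=
  ⟨ha, hij, fun _ => rfl⟩

theorem secLau_fracSec (d : ℤ) {I : Finset (Fin (n + 1))} (hI : I.Nonempty) {i j : ℕ}
    {a : MvPolynomial (Fin (n + 1)) R} (ha : a.IsHomogeneous i)
    (hij : (i : ℤ) = (j : ℤ) * I.card + d) : secLau d hI (fracSec d I ha hij) = fracLau I j a :=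
  secLau_eq hI (isRep_fracSec d I ha hij)

theorem secLau_surjective {d : ℤ} {I : Finset (Fin (n + 1))} (hI : I.Nonempty) {q : Lau n R}
    (hq : q ∈ lauPart R d I) :
    ∃ s : sectN (𝒜 := CohB1.polyGrading n R) d (op (dI R I)), secLau d hI s = q := by
  have H := exists_fracLau_eq hI hq
  obtain ⟨J, hJ⟩ := H
  have H := hJ J le_rfl
  obtain ⟨i, a, ha, hij, h⟩ := H
  exact ⟨fracSec d I ha hij, (secLau_fracSec d hI ha hij).trans h⟩

theorem secLau_res {d : ℤ} {I J : Finset (Fin (n + 1))} (h : I ⊆ J) (hI : I.Nonempty)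
    (φ : op (dI R I) ⟶ op (dI R J)) (s : sectN (𝒜 := CohB1.polyGrading n R) d (op (dI R I))) :
    secLau d (hI.mono h) (resN d φ s) = secLau d hI s := by
  have H := exists_isRep d hI s
  obtain ⟨i, j, a, ha, hij, hs⟩ := H
  have hc : I.card + (J \ I).card = J.card := by
    rw [add_comm]; exact Finset.card_sdiff_add_card_eq_card h
  rw [secLau_eq (hI.mono h) (i := i + j * (J \ I).card) (j := j) (a := a * mI R (J \ I) ^ j)
      ⟨ha.mul (by simpa [mul_comm] using (isHomogeneous_mI (J \ I)).pow j),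
        by rw [← hc]; push_cast; linear_combination hij, fun x => ?_⟩,
    secLau_eq hI ⟨ha, hij, hs⟩, fracLau_union h]
  refine (hs (φ.unop x)).trans ?_
  rw [Localization.mk_eq_mk_iff, Localization.r_iff_exists]
  refine ⟨1, ?_⟩
  simp only [OneMemClass.coe_one, one_mul, mI_sdiff_mul h]
  ring

end Groth.Agent.ProjTwist.Pn
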