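import Groth.Agent.ProjTwist.Pn.Finite
import Groth.Agent.ProjTwist.Pn.MulX
import Groth.Agent.AssSch.Quot
import Groth.Agent.AssSch.Restrict
import Groth.Agent.LocCohSweep.ConnDim
import Mathlib.Algebra.Module.Submodule.Union

/-!
Multiplication by a linear form avoiding the associated points of finitely many coherent modules:
it is injective and the support of the cokernel has smaller dimension.
-/

set_option autoImplicit false

open CategoryTheory CategoryTheory.Limits AlgebraicGeometry TopologicalSpace Opposite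
open Groth.Agent.PullStalk.Sky Groth.Agent.PullStalk.Exact

universe u

noncomputable section

namespace Groth.Agent.ProjTwist.Pn

open Twist

/-- the ideal of the associated points has an order theoretic consequence on dimensions -/
theorem dim_add_one_le_of_forall_specializes {X : Scheme.{u}} {Z Z' : Set X} (hZ : IsClosed Z)
    (hZ' : IsClosed Z') (h : ∀ ξ ∈ Z', ∃ z ∈ Z, z ∉ Z' ∧ z ⤳ ξ) (hsub : Z' ⊆ Z) {c : ℕ}
    (hc : topologicalKrullDim Z < ((c + 1 : ℕ) : WithBot ℕ∞)) :
    topologicalKrullDim Z' < (c : WithBot ℕ∞) := by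
  by_cases hne : Z'.Nonempty
  swap
  · have : IsEmpty (IrreducibleCloseds Z') := ⟨fun s => hne
      (let ⟨x, _⟩ := s.isIrreducible.1; ⟨x.1, x.2⟩)⟩
    rw [topologicalKrullDim, Order.krullDim_eq_bot]
    exact WithBot.bot_lt_coe _
  let i : Z' → Z := Set.inclusion hsub
  have hi := (Topology.IsEmbedding.inclusion hsub).isInducing
  have hlt : ∀ l : LTSeries (IrreducibleCloseds Z'), ∃ l' : LTSeries (IrreducibleCloseds Z),
      l'.length = l.length + 1 := by
    intro l
    let C : Set X := closure (Subtype.val '' (l.last : Set Z'))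
    have hC : IsIrreducible C :=
      (l.last.isIrreducible.image _ continuous_subtype_val.continuousOn).closure
    obtain ⟨ξ, hξ⟩ := QuasiSober.sober hC isClosed_closure
    have hξZ' : ξ ∈ Z' := closure_minimal (by rintro _ ⟨y, -, rfl⟩; exact y.2) hZ' hξ.mem
    obtain ⟨z, hzZ, hzZ', hzξ⟩ := h ξ hξZ'
    let top : IrreducibleCloseds Z :=
      { carrier := closure {(⟨z, hzZ⟩ : Z)}
        isIrreducible' := isIrreducible_singleton.closure
        isClosed' := isClosed_closure }
    have hcl : IsClosed {y : Z | y.1 ∈ Z'} := hZ'.preimage continuous_subtype_val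
    have hsubset : (IrreducibleCloseds.map i hi.continuous l.last : Set Z) ⊆ {y : Z | y.1 ∈ Z'} :=
      closure_minimal (by rintro _ ⟨y, -, rfl⟩; exact y.2) hcl
    have hlast : IrreducibleCloseds.map i hi.continuous l.last < top := by
      refine lt_of_le_of_ne (closure_minimal ?_ isClosed_closure) fun e => hzZ' (hsubset (show (⟨z, hzZ⟩ : Z) ∈ (IrreducibleCloseds.map i hi.continuous l.last : Set Z) by
        rw [e]; exact subset_closure rfl))
      rintro _ ⟨y, hy, rfl⟩
      have hyξ : ξ ⤳ y.1 := hξ.specializes (subset_closure ⟨y, hy, rfl⟩)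
      exact (subtype_specializes_iff _ _).2 (hzξ.trans hyξ) |>.mem_closure
    exact ⟨(l.map (IrreducibleCloseds.map i hi.continuous)
      (IrreducibleCloseds.map_strictMono_of_isInducing hi)).snoc top (by rwa [LTSeries.last_map]), rfl⟩
  have : Nonempty (IrreducibleCloseds Z') :=
    ⟨⟨closure {(⟨hne.some, hne.some_mem⟩ : Z')}, isIrreducible_singleton.closure, isClosed_closure⟩⟩
  rcases c with _ | c
  · obtain ⟨l', hl'⟩ := hlt ⟨0, fun _ => this.some, fun i => i.elim0⟩
    have h1 := lt_of_le_of_lt (Order.LTSeries.length_le_krullDim l') hc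
    rw [hl'] at h1
    simp at h1
  · refine lt_of_le_of_lt (b := (c : WithBot ℕ∞)) ?_ (by exact_mod_cast Nat.lt_succ_self c)
    refine iSup_le fun l => ?_
    obtain ⟨l', hl'⟩ := hlt l
    have h1 := lt_of_le_of_lt (Order.LTSeries.length_le_krullDim l') hc
    rw [hl'] at h1
    have h2 : l.length + 1 < c + 1 + 1 := by exact_mod_cast h1
    exact_mod_cast (by omega : l.length ≤ c)

variable {n : ℕ} {k : Type u} [Field k]

/-- a linear form -/
def form (a : Fin (n + 1) → k) : MvPolynomial (Fin (n + 1)) k := ∑ j, a j • MvPolynomial.X j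

theorem form_mem (a : Fin (n + 1) → k) : form a ∈ CohB1.polyGrading n k 1 :=
  Submodule.sum_mem _ fun j _ => Submodule.smul_mem _ _ (X_mem_polyGrading n k j)

/-- linear forms as a linear map in the coefficients -/
def formL : (Fin (n + 1) → k) →ₗ[k] MvPolynomial (Fin (n + 1)) k :=
  Fintype.linearCombination k (fun j => MvPolynomial.X j)

theorem formL_apply (a : Fin (n + 1) → k) : formL a = form a :=
  Fintype.linearCombination_apply k _ a

/-- a linear form avoiding finitely many points -/
theorem exists_form_avoid [Infinite k] {T : Set (CohB1.ProjSpace n k)} (hT : T.Finite) :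
    ∃ a : Fin (n + 1) → k, ∀ y ∈ T, y ∈ Proj.basicOpen (CohB1.polyGrading n k) (form a) := by
  classical
  have := hT.to_subtype
  let p : T → Submodule k (Fin (n + 1) → k) := fun y =>
    Submodule.comap formL
      (Submodule.restrictScalars k (show ProjectiveSpectrum (CohB1.polyGrading n k) from y.1).asHomogeneousIdeal.toIdeal)
  have hp : ∀ y, p y ≠ ⊤ := fun y htop => by
    obtain ⟨j, hj⟩ := Opens.mem_iSup.mp
      ((iSup_stdOpen n k).ge (trivial : y.1 ∈ (⊤ : (CohB1.ProjSpace n k).Opens)))
    have hmem : Pi.single j 1 ∈ p y := htop.symm ▸ Submodule.mem_top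
    have h2 : MvPolynomial.X j ∈
        (show ProjectiveSpectrum (CohB1.polyGrading n k) from y.1).asHomogeneousIdeal.toIdeal := by
      have h3 := hmem
      simp only [p, Submodule.mem_comap, formL, Fintype.linearCombination_apply_single, one_smul] at h3
      exact h3
    exact not_mem_of_le_basicOpen (le_refl (stdOpen n k j)) ⟨y.1, hj⟩ h2
  obtain ⟨a, ha⟩ := Submodule.exists_forall_notMem_of_forall_ne_top p hp
  refine ⟨a, fun y hy => (Proj.mem_basicOpen _ _ _).mpr fun hmem => ha ⟨y, hy⟩ ?_⟩
  simp only [p, Submodule.mem_comap, formL_apply]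
  exact hmem

/-- the global section of `O(1)` given by a linear form -/
def formSec (a : Fin (n + 1) → k) : Γ(twistProjSpace n k 1, ⊤) :=
  degOneSec (𝒜 := CohB1.polyGrading n k) (form_mem a) (op ⊤)

theorem isGen_formSec (a : Fin (n + 1) → k) :
    Groth.Agent.Props.GenLocus.IsGen (twistProjSpace n k 1) (Proj.basicOpen (CohB1.polyGrading n k) (form a))
      (Groth.Agent.QCoh.res _ le_top (formSec a)) := by
  have : Groth.Agent.QCoh.res _ le_top (formSec a) =
      powGen (𝒜 := CohB1.polyGrading n k) (form_mem a) 1 :=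
    sectN_ext (𝒜 := CohB1.polyGrading n k) fun x => by
      have hx := not_mem_of_le_basicOpen (le_rfl : Proj.basicOpen (CohB1.polyGrading n k) (form a) ≤ _) x
      refine (degOneSec_coe (form_mem a) (op (Proj.basicOpen (CohB1.polyGrading n k) (form a))) x hx).trans ?_
      refine Eq.trans ?_ (unitSec_coe (form_mem a) 1 _ _ x).symm
      rw [zpow_one]
  rw [this]
  exact isGen_powGen (form_mem a) 1

/-- multiplication by a linear form, `G(-1) ⟶ G`, naturally in `G` -/
def mulForm (a : Fin (n + 1) → k) : twFun n k (-1) ⟶ 𝟭 (CohB1.ProjSpace n k).Modules :=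
  mulDown (mulNat (twistProjSpace n k 1) (Groth.Agent.Props.GenLocus.homOfSec (formSec a))) downUpNat

theorem mulUpForm_bijective (a : Fin (n + 1) → k) (G : (CohB1.ProjSpace n k).Modules)
    (V : (CohB1.ProjSpace n k).Opens) (hV : V ≤ Proj.basicOpen (CohB1.polyGrading n k) (form a)) :
    Function.Bijective (((mulNat (twistProjSpace n k 1)
      (Groth.Agent.Props.GenLocus.homOfSec (formSec a))).app G).app V) := by
  refine mulSecHom_bijective (X := CohB1.ProjSpace n k) _ _ (Proj.basicOpen (CohB1.polyGrading n k) (form a)) ?_ G V hV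
  exact (Groth.Agent.Props.GenLocus.sec_homOfSec (X := CohB1.ProjSpace n k) (formSec a) _).symm ▸ isGen_formSec a

theorem mulForm_bijAt (a : Fin (n + 1) → k) (y : CohB1.ProjSpace n k)
    (hy : y ∈ Proj.basicOpen (CohB1.polyGrading n k) (form a)) : Kosz.BijAt (mulForm a) y := fun M =>
  stalkLin_comp_bijective _ _ y (stalkLin_bijective_of_app _ (Proj.basicOpen (CohB1.polyGrading n k) (form a))
    (fun V hV => mulUpForm_bijective a _ V hV) y hy)
    (stalkLin_iso_bijective (downUpNat.app M) y)

/-- a morphism injective at the associated points of the source is injective -/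
theorem mono_of_injective_ass {X : Scheme.{u}} [IsLocallyNoetherian X] {A B : X.Modules} (φ : A ⟶ B)
    (hA : Coh.IsCoh A) (hB : Coh.IsCoh B)
    (h : ∀ z ∈ _root_.AssSch.Ass A, Function.Injective (stalkLin φ z)) : Mono φ := by
  have hK : Coh.IsCoh (kernel φ) := isCoh_kernel φ hA hB.1
  have := hK.1
  refine Preadditive.mono_of_kernel_zero ?_
  suffices hz : ∀ y, Subsingleton ((kernel φ).presheaf.stalk y) by
    refine (IsZero.iff_id_eq_zero _).mpr ?_ |>.eq_of_src _ _
    ext U s
    exact AssSch.Basic.eq_zero_of_germ_eq_zero (kernel φ) _ fun x hx => @Subsingleton.elim _ (hz x) _ _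
  intro y
  by_contra hy
  rw [not_subsingleton_iff_nontrivial] at hy
  obtain ⟨z, hz, -⟩ := AssSch.Basic.exists_mem_ass_specializes (kernel φ) hy
  have hn := AssSch.Basic.nontrivial_of_mem_ass (kernel φ) hz
  have := hA.1
  have hzA : z ∈ _root_.AssSch.Ass A := AssSch.Quot.ass_subset_of_mono (kernel.ι φ) hz
  obtain ⟨t, ht⟩ := exists_ne (0 : (kernel φ).presheaf.stalk z)
  refine ht (Omega.Stalks.stalkLin_injective_of_mono (kernel.ι φ) z ?_)
  refine ((h z hzA) ?_).trans (map_zero _).symm
  rw [map_zero, ← Groth.Agent.Omega.Stalks.stalkLin_comp, kernel.condition]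
  exact Omega.Stalks.stalkLin_zero z t

/-- A linear form acting injectively on the given modules, the cokernels having smaller support. -/
theorem exists_hyperSection [Infinite k] {κ : Type} [Finite κ] (G : κ → (CohB1.ProjSpace n k).Modules)
    (hG : ∀ i, Coh.IsCoh (G i)) :
    ∃ τ : twFun n k (-1) ⟶ 𝟭 (CohB1.ProjSpace n k).Modules,
      (∀ i, Mono (τ.app (G i))) ∧
      ∀ i, ∀ c : ℕ, topologicalKrullDim (CohB1.support (G i)) < ((c + 1 : ℕ) : WithBot ℕ∞) →
        topologicalKrullDim (CohB1.support (cokernel (τ.app (G i)))) < (c : WithBot ℕ∞) := by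
  have := isLocallyNoetherian_projSpace n k
  have hq := fun i => (hG i).1
  let T : Set (CohB1.ProjSpace n k) :=
    ⋃ i, (_root_.AssSch.Ass (G i) ∪ _root_.AssSch.Ass (twF (G i) (-1)))
  have hfin : ∀ M : (CohB1.ProjSpace n k).Modules, Coh.IsCoh M → (_root_.AssSch.Ass M).Finite := by
    intro M hM
    have : (⋃ j : Fin (n + 1), _root_.AssSch.Ass M ∩ (stdOpen n k j : Set _)).Finite :=
      Set.finite_iUnion fun j => AssSch.Restrict.finite_ass_inter M hM (isAffineOpen_stdOpen n k j)
    refine this.subset fun x hx => ?_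
    obtain ⟨j, hj⟩ := Opens.mem_iSup.mp ((iSup_stdOpen n k).ge (trivial : x ∈ (⊤ : (CohB1.ProjSpace n k).Opens)))
    exact Set.mem_iUnion.mpr ⟨j, hx, hj⟩
  have hT : T.Finite := Set.finite_iUnion fun i => (hfin _ (hG i)).union (hfin _ (isCoh_tw (hG i) (-1)))
  obtain ⟨a, ha⟩ := exists_form_avoid hT
  refine ⟨mulForm a, fun i => ?_, fun i c hc => ?_⟩
  · refine mono_of_injective_ass _ (isCoh_tw (hG i) (-1)) (hG i) fun z hz => ?_
    exact (mulForm_bijAt a z (ha z (Set.mem_iUnion.mpr ⟨i, Or.inr hz⟩)) (G i)).1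
  · have hQ : Coh.IsCoh (cokernel ((mulForm a).app (G i))) :=
      CohDev.isCoh_cokernel _ (isCoh_tw (hG i) (-1)).1 (hG i)
    have hsupp : ∀ y, y ∈ Proj.basicOpen (CohB1.polyGrading n k) (form a) →
        y ∉ CohB1.support (cokernel ((mulForm a).app (G i))) := by
      intro y hy hne
      refine hne (subsingleton_of_forall_eq 0 fun t => ?_)
      obtain ⟨s, rfl⟩ := stalk_surjective (cokernel.π ((mulForm a).app (G i))) y t
      obtain ⟨r, rfl⟩ := (mulForm_bijAt a y hy (G i)).2 s
      show stalkLin (cokernel.π ((mulForm a).app (G i))) y (stalkLin ((mulForm a).app (G i)) y r) = 0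
      rw [← Groth.Agent.Omega.Stalks.stalkLin_comp, cokernel.condition]
      exact Omega.Stalks.stalkLin_zero y r
    have hsub : CohB1.support (cokernel ((mulForm a).app (G i))) ⊆ CohB1.support (G i) := fun y hy hs => by
      have : Subsingleton (((𝟭 (CohB1.ProjSpace n k).Modules).obj (G i)).presheaf.stalk y) := hs
      exact hy (stalk_surjective (cokernel.π ((mulForm a).app (G i))) y).subsingleton
    refine dim_add_one_le_of_forall_specializes (CohDev.isClosed_support (hG i))
      (CohDev.isClosed_support hQ) (fun ξ hξ => ?_) hsub hc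
    obtain ⟨z, hz, hzξ⟩ := AssSch.Basic.exists_mem_ass_specializes (G i)
      (not_subsingleton_iff_nontrivial.mp (hsub hξ))
    exact ⟨z, not_subsingleton_iff_nontrivial.mpr (AssSch.Basic.nontrivial_of_mem_ass (G i) hz),
      hsupp z (ha z (Set.mem_iUnion.mpr ⟨i, Or.inl hz⟩)), hzξ⟩

end Groth.Agent.ProjTwist.Pn
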