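import Groth.Agent.ProjTwist.Pn.Mumford

/-!
Regularity of an extension `0 → F(-1) → F → G → 0` with `G` regular: `h¹(F(j))` drops strictly until it
vanishes.
-/

set_option autoImplicit false

open CategoryTheory CategoryTheory.Limits AlgebraicGeometry TopologicalSpace Opposite

universe u

noncomputable section

namespace Groth.Agent.ProjTwist.Pn

open Twist

variable {n : ℕ} {k : Type u} [Field k]
variable {F G : (CohB1.ProjSpace n k).Modules} (ι : twF F (-1) ⟶ F) (π : F ⟶ G) (w : ι ≫ π = 0)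

/-- `h¹(F(j))` -/
def h1Tw (F : (CohB1.ProjSpace n k).Modules) (j : ℤ) : ℕ :=
  Module.finrank k (Coh.HH (CohB1.ProjSpace n k) (twF F j) 1)

theorem finite_hh (hF : Coh.IsCoh F) (i : ℕ) : Module.Finite k (Coh.HH (CohB1.ProjSpace n k) F i) :=
  finite_cohomology F hF i

theorem surjective_hMap_of_subsingleton {S : ShortComplex (CohB1.ProjSpace n k).Modules} (hS : S.ShortExact)
    {i : ℕ} [Subsingleton (Coh.HH (CohB1.ProjSpace n k) S.X₃ i)] :
    Function.Surjective (CohLin.hMap S.f i) :=
  fun y => CohLin.exists_hMap_f_eq hS y (Subsingleton.elim _ _)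

theorem finrank_iso {A B : (CohB1.ProjSpace n k).Modules} (e : A ≅ B) (i : ℕ) :
    Module.finrank k (Coh.HH (CohB1.ProjSpace n k) A i) =
      Module.finrank k (Coh.HH (CohB1.ProjSpace n k) B i) :=
  LinearEquiv.finrank_eq (LinearEquiv.ofBijective (CohLin.overLin k (CohLin.hMap e.hom i))
    (CohLin.hIso e i).bijective)

variable (hS : (ShortComplex.mk ι π w).ShortExact) (hF : Coh.IsCoh F) (hG : Coh.IsQCoh G) {m : ℤ}
  (hm : Curv2.IsMRegular k n G m)

include hS hF hG hm

/-- the vanishing in degrees `≥ 2` -/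
theorem extension_subsingleton (i : ℕ) (hi : 2 ≤ i) (j : ℤ) (hj : m - i ≤ j) :
    Subsingleton (Coh.HH (CohB1.ProjSpace n k) (twF F j) i) := by
  obtain ⟨d₀, hd₀⟩ := serre_vanishing F hF
  suffices H : ∀ c : ℕ, ∀ j : ℤ, m - i ≤ j → d₀ ≤ j + c →
      Subsingleton (Coh.HH (CohB1.ProjSpace n k) (twF F j) i) from H (d₀ - j).toNat j hj (by omega)
  intro c
  induction c with
  | zero => exact fun j _ hd => hd₀ j (by simpa using hd) i (by omega)
  | succ c ih =>
    intro j hj hd
    obtain ⟨l, rfl⟩ : ∃ l, i = l + 1 := ⟨i - 1, by omega⟩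
    have hT := shortExact_tw hS (j + 1)
    have : Subsingleton (Coh.HH (CohB1.ProjSpace n k)
        ((ShortComplex.mk ι π w).map (twFun n k (j + 1))).X₂ (l + 1)) :=
      ih (j + 1) (by omega) (by push_cast at hd; omega)
    have : Subsingleton (Coh.HH (CohB1.ProjSpace n k)
        ((ShortComplex.mk ι π w).map (twFun n k (j + 1))).X₃ l) :=
      subsingleton_of_le hG hm (by omega) (by push_cast at hj; omega)
    have h₁ : Subsingleton (Coh.HH (CohB1.ProjSpace n k) (twF (twF F (-1)) (j + 1)) (l + 1)) :=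
      CohLin.subsingleton_X₁ hT
    exact subsingleton_of_iso (twTw F (-1) (j + 1) j (by ring)) (l + 1)

/-- `h¹(F(j)) ≤ h¹(F(j-1))` -/
theorem h1Tw_le (j : ℤ) (hj : m - 1 ≤ j) : h1Tw F j ≤ h1Tw F (j - 1) := by
  have hT := shortExact_tw hS j
  have : Subsingleton (Coh.HH (CohB1.ProjSpace n k) ((ShortComplex.mk ι π w).map (twFun n k j)).X₃ 1) :=
    subsingleton_of_le hG hm le_rfl (by omega)
  have := finite_hh (isCoh_tw (isCoh_tw hF (-1)) j) 1
  refine le_of_le_of_eq ?_ (finrank_iso (twTw F (-1) j (j - 1) (by ring)) 1)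
  exact LinearMap.finrank_le_finrank_of_surjective
    (f := CohLin.overLin k (CohLin.hMap ((ShortComplex.mk ι π w).map (twFun n k j)).f 1))
    (surjective_hMap_of_subsingleton hT)

/-- if `h¹` does not drop then it never drops again -/
theorem h1Tw_stationary (j : ℤ) (hj : m ≤ j) (h : h1Tw F j = h1Tw F (j - 1)) :
    h1Tw F (j + 1) = h1Tw F j := by
  -- surjectivity on `H⁰` for the sequence twisted by `O(-1)(j+1)`
  have hT₀ := shortExact_tw hS (-1)
  have hT := shortExact_tw hT₀ (j + 1)
  have hsur : Function.Surjective (CohLin.hMap ((twFun n k (j + 1)).map ((twFun n k (-1)).map π)) 0) := by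
    have hf : Function.Injective (CohLin.hMap ((twFun n k (j + 1)).map ((twFun n k (-1)).map ι)) 1) := by
      have : Subsingleton (Coh.HH (CohB1.ProjSpace n k)
          (((ShortComplex.mk ι π w).map (twFun n k (-1))).map (twFun n k (j + 1))).X₃ 1) := by
        have := subsingleton_of_le hG hm le_rfl (d := j) (by omega)
        exact subsingleton_of_iso (twTw G (-1) (j + 1) j (by ring)).symm 1
      have h₁ := finite_hh (isCoh_tw (isCoh_tw (isCoh_tw hF (-1)) (-1)) (j + 1)) 1
      have h₂ := finite_hh (isCoh_tw (isCoh_tw hF (-1)) (j + 1)) 1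
      have hrank : Module.finrank k (Coh.HH (CohB1.ProjSpace n k) (twF (twF (twF F (-1)) (-1)) (j + 1)) 1) =
          Module.finrank k (Coh.HH (CohB1.ProjSpace n k) (twF (twF F (-1)) (j + 1)) 1) := by
        rw [finrank_iso (twTw (twF F (-1)) (-1) (j + 1) j (by ring)) 1,
          finrank_iso (twTw F (-1) j (j - 1) (by ring)) 1, finrank_iso (twTw F (-1) (j + 1) j (by ring)) 1]
        exact h.symm
      exact (LinearMap.injective_iff_surjective_of_finrank_eq_finrank hrank
        (f := CohLin.overLin k (CohLin.hMap ((twFun n k (j + 1)).map ((twFun n k (-1)).map ι)) 1))).mpr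
          (surjective_hMap_of_subsingleton hT)
    intro x
    refine CohLin.exists_hMap_g_eq hT x (hf ?_)
    exact (CohLin.hMap_f_hδ hT x).trans (map_zero _).symm
  -- hence on `H⁰` for the sequence twisted by `j+1`
  have hsur' : Function.Surjective (CohLin.hMap ((twFun n k (j + 1)).map π) 0) := by
    intro x
    obtain ⟨y, hy⟩ := exists_eq_sum_mulX hG hm (show m + 1 ≤ j + 1 by omega) x
    choose z hz using fun l => hsur (y l)
    refine ⟨∑ l, CohLin.hMap ((twFun n k (j + 1)).map (Kosz.ta (mulX l) F)) 0 (z l), ?_⟩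
    rw [hy, map_sum]
    refine Finset.sum_congr rfl fun l _ => ?_
    rw [← hz l, ← CohLin.hMap_comp, ← CohLin.hMap_comp, ← Functor.map_comp, ← Functor.map_comp,
      Kosz.ta_naturality]
  have hT' := shortExact_tw hS (j + 1)
  have hinj : Function.Injective (CohLin.hMap ((twFun n k (j + 1)).map ι) 1) := by
    refine (injective_iff_map_eq_zero _).mpr fun x hx => ?_
    obtain ⟨y, rfl⟩ := CohLin.exists_hδ_eq hT' x hx
    obtain ⟨y', rfl⟩ := hsur' y
    exact CohLin.hδ_hMap_g hT' y'
  have : Subsingleton (Coh.HH (CohB1.ProjSpace n k) ((ShortComplex.mk ι π w).map (twFun n k (j + 1))).X₃ 1) :=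
    subsingleton_of_le hG hm le_rfl (by omega)
  refine ((LinearEquiv.ofBijective (CohLin.overLin k (CohLin.hMap ((twFun n k (j + 1)).map ι) 1))
    ⟨hinj, surjective_hMap_of_subsingleton hT'⟩).finrank_eq.symm).trans ?_
  exact finrank_iso (twTw F (-1) (j + 1) j (by ring)) 1

/-- `h¹(F(j))` drops strictly from `j = m` on until it vanishes -/
theorem h1Tw_drop (j : ℤ) (hj : m ≤ j) : h1Tw F j < h1Tw F (j - 1) ∨ h1Tw F (j - 1) = 0 := by
  rcases lt_or_eq_of_le (h1Tw_le ι π w hS hF hG hm j (by omega)) with hlt | heq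
  · exact Or.inl hlt
  · refine Or.inr ?_
    obtain ⟨d₀, hd₀⟩ := serre_vanishing F hF
    have hall : ∀ c : ℕ, h1Tw F (j + c) = h1Tw F (j - 1) ∧ h1Tw F (j + c) = h1Tw F (j + c - 1) := by
      intro c
      induction c with
      | zero => simp [heq]
      | succ c ih =>
        have := h1Tw_stationary ι π w hS hF hG hm (j + c) (by omega) ih.2
        rw [Nat.cast_succ, ← add_assoc, add_sub_cancel_right]
        exact ⟨this.trans ih.1, this⟩
    rw [← (hall (d₀ - j).toNat).1]
    have : Subsingleton (Coh.HH (CohB1.ProjSpace n k) (twF F (j + (d₀ - j).toNat)) 1) :=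
      hd₀ _ (by omega) 1 Nat.one_pos
    exact Module.finrank_zero_of_subsingleton

/-- `h¹(F(m-1+t)) ≤ h¹(F(m-1)) - t` -/
theorem h1Tw_bound (t : ℕ) : h1Tw F (m - 1 + t) ≤ h1Tw F (m - 1) - t := by
  induction t with
  | zero => simp
  | succ t ih =>
    have hle := h1Tw_le ι π w hS hF hG hm (m + t) (by omega)
    have e : (m + t : ℤ) - 1 = m - 1 + t := by ring
    have e' : m - 1 + ((t + 1 : ℕ) : ℤ) = m + t := by push_cast; ring
    rw [e']
    rcases h1Tw_drop ι π w hS hF hG hm (m + t) (by omega) with h | h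
    · rw [e] at h; omega
    · rw [e] at h hle; omega

theorem extension_subsingleton_one (j : ℤ) (hj : m - 1 + (h1Tw F (m - 1) : ℤ) ≤ j) :
    Subsingleton (Coh.HH (CohB1.ProjSpace n k) (twF F j) 1) := by
  obtain ⟨t, rfl⟩ : ∃ t : ℕ, j = m - 1 + t := ⟨(j - (m - 1)).toNat, by omega⟩
  have h := h1Tw_bound ι π w hS hF hG hm t
  have h0 : h1Tw F (m - 1 + t) = 0 := by omega
  have := finite_hh (isCoh_tw hF (m - 1 + t)) 1
  exact Module.finrank_zero_iff.mp h0

end Groth.Agent.ProjTwist.Pn
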