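import Groth.Agent.ProjTwist.Pn.Sections
import Groth.Prelude.Def_Coh

/-!
The structure map `R → Γ(P^n_R, O)` is given by constant polynomials.
-/

open CategoryTheory AlgebraicGeometry TopologicalSpace Opposite

universe u

noncomputable section

namespace Groth.Agent.ProjTwist.Pn

open Twist MvPolynomial

variable {n : ℕ} {R : Type u} [CommRing R]

section
variable {A : Type u} [CommRing A] [Algebra R A] (𝒜 : ℕ → Submodule R A) [GradedAlgebra 𝒜]

theorem toSpecZero_appTop :
    (Proj.toSpecZero 𝒜).appTop = (Scheme.ΓSpecIso (CommRingCat.of (𝒜 0))).hom ≫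
      CommRingCat.ofHom (HomogeneousLocalization.fromZeroRingHom 𝒜 _) ≫
        Proj.awayToSection 𝒜 1 ≫
          (Proj 𝒜).presheaf.map (homOfLE (le_of_eq (Proj.basicOpen_one 𝒜).symm)).op := by
  set U := Proj.basicOpen 𝒜 (1 : A)
  let L : Proj 𝒜 ⟶ (U : Scheme.{u}) :=
    (Scheme.topIso _).inv ≫ (Scheme.isoOfEq _ (Proj.basicOpen_one 𝒜)).inv
  have hL : L ≫ U.ι = 𝟙 _ := by
    rw [Category.assoc, Scheme.isoOfEq_inv_ι, Scheme.toIso_inv_ι]
  have e : Proj.toSpecZero 𝒜 = L ≫ Proj.basicOpenToSpec 𝒜 1 ≫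
      Spec.map (CommRingCat.ofHom (HomogeneousLocalization.fromZeroRingHom 𝒜 _)) := by
    simp [L, Proj.toSpecZero]

  have h1 : U.topIso.inv ≫ L.appTop =
      (Proj 𝒜).presheaf.map (homOfLE (le_of_eq (Proj.basicOpen_one 𝒜).symm)).op := by
    have h2 := congrArg Scheme.Hom.appTop hL
    rw [Scheme.Hom.comp_appTop, Scheme.Hom.id_appTop, Scheme.Opens.ι_appTop] at h2
    have h3 : (Proj 𝒜).presheaf.map (homOfLE (le_top : U ≤ ⊤)).op ≫ U.topIso.inv =
        (Proj 𝒜).presheaf.map (homOfLE (le_top : U.ι ''ᵁ ⊤ ≤ ⊤)).op := by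
      rw [Scheme.Opens.topIso_inv]
      exact ((Proj 𝒜).presheaf.map_comp _ _).symm.trans (congrArg _ (Subsingleton.elim _ _))
    rw [← h3, Category.assoc] at h2
    have : IsIso ((Proj 𝒜).presheaf.map (homOfLE (le_top : U ≤ ⊤)).op) := by
      have : IsIso (homOfLE (le_top : U ≤ ⊤)) :=
        ⟨homOfLE (le_of_eq (Proj.basicOpen_one 𝒜).symm), rfl, rfl⟩
      infer_instance
    rw [← cancel_epi ((Proj 𝒜).presheaf.map (homOfLE (le_top : U ≤ ⊤)).op)]
    exact h2.trans (by rw [← Functor.map_comp]; exact ((Proj 𝒜).presheaf.map_id _).symm)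
  have h4 : (Proj.basicOpenToSpec 𝒜 (1 : A)).appTop = (Scheme.ΓSpecIso _).hom ≫
      Proj.awayToSection 𝒜 1 ≫ U.topIso.inv := Proj.basicOpenToSpec_app_top 𝒜 1
  rw [e, Scheme.Hom.comp_appTop, Scheme.Hom.comp_appTop, h4, ← h1]
  simp only [Category.assoc]
  rw [Scheme.ΓSpecIso_naturality_assoc]

end

theorem toSpec_appTop :
    (CohB1.ProjSpace.toSpec n R).appTop = (Scheme.ΓSpecIso (CommRingCat.of R)).hom ≫
      CommRingCat.ofHom (algebraMap R (CohB1.polyGrading n R 0)) ≫
      CommRingCat.ofHom (HomogeneousLocalization.fromZeroRingHom (CohB1.polyGrading n R) _) ≫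
        Proj.awayToSection (CohB1.polyGrading n R) 1 ≫
          (Proj (CohB1.polyGrading n R)).presheaf.map
            (homOfLE (le_of_eq (Proj.basicOpen_one (CohB1.polyGrading n R)).symm)).op := by
  show (Proj.toSpecZero (CohB1.polyGrading n R) ≫
    Spec.map (CommRingCat.ofHom (algebraMap R (CohB1.polyGrading n R 0)))).appTop = _
  rw [Scheme.Hom.comp_appTop, toSpecZero_appTop, Scheme.ΓSpecIso_naturality_assoc]

/-- A global scalar, on an open `U`, as a section of the structure sheaf. -/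
def scalarO (r : R) (U : (Opens (ProjectiveSpectrum.top (CohB1.polyGrading n R)))ᵒᵖ) : O U :=
  Coh.resTop (CohB1.ProjSpace n R) U (Coh.toGlobal (CohB1.ProjSpace.toSpec n R) r)

/-- A global scalar is given by the constant polynomial. -/
theorem val_scalarO (r : R) (U : (Opens (ProjectiveSpectrum.top (CohB1.polyGrading n R)))ᵒᵖ)
    (x : U.unop) :
    ((scalarO r U).1 x).val =
      algebraMap (MvPolynomial (Fin (n + 1)) R) (Loc (CohB1.polyGrading n R) x.1) (C r) := by
  have e : Coh.toGlobal (CohB1.ProjSpace.toSpec n R) r =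
      (Proj (CohB1.polyGrading n R)).presheaf.map
        (homOfLE (le_of_eq (Proj.basicOpen_one (CohB1.polyGrading n R)).symm)).op
        (Proj.awayToSection (CohB1.polyGrading n R) 1
          (HomogeneousLocalization.fromZeroRingHom (CohB1.polyGrading n R) _
            (algebraMap R (CohB1.polyGrading n R 0) r))) := by
    show (CohB1.ProjSpace.toSpec n R).appTop ((Scheme.ΓSpecIso (CommRingCat.of R)).inv r) = _
    rw [toSpec_appTop]
    exact congrArg (fun z : R => (Proj (CohB1.polyGrading n R)).presheaf.map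
        (homOfLE (le_of_eq (Proj.basicOpen_one (CohB1.polyGrading n R)).symm)).op
        (Proj.awayToSection (CohB1.polyGrading n R) 1
          (HomogeneousLocalization.fromZeroRingHom (CohB1.polyGrading n R) _
            (algebraMap R (CohB1.polyGrading n R 0) z))))
      ((Scheme.ΓSpecIso (CommRingCat.of R)).inv_hom_id_apply r)
  rw [scalarO, e]
  refine (ProjectiveSpectrum.Proj.awayToSection_apply (CohB1.polyGrading n R) 1 _
    ⟨x.1, fun h => x.1.isPrime.ne_top ((Ideal.eq_top_iff_one _).mpr h)⟩).trans ?_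
  refine (congrArg _ (HomogeneousLocalization.val_mk _)).trans ?_
  rw [Localization.mk_eq_mk'_apply, IsLocalization.map_mk']
  have := x.1.isPrime
  refine Eq.trans ?_ (IsLocalization.mk'_one (M := x.1.asHomogeneousIdeal.toIdeal.primeCompl)
    (S := Loc (CohB1.polyGrading n R) x.1) _)
  rfl

theorem mk_mul_algebraMap {x : ProjectiveSpectrum (CohB1.polyGrading n R)}
    (a b : MvPolynomial (Fin (n + 1)) R) (s : x.asHomogeneousIdeal.toIdeal.primeCompl) :
    algebraMap _ (Loc (CohB1.polyGrading n R) x) b * Localization.mk a s =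
      Localization.mk (b * a) s := by
  rw [← Localization.mk_one_eq_algebraMap, Localization.mk_mul, one_mul]

/-- Multiplication of a section of `O(d)` by a function. -/
def actN {d : ℤ} {U : (Opens (ProjectiveSpectrum.top (CohB1.polyGrading n R)))ᵒᵖ} (c : O U)
    (s : sectN (𝒜 := CohB1.polyGrading n R) d U) : sectN (𝒜 := CohB1.polyGrading n R) d U := c • s

theorem actN_coe {d : ℤ} {U : (Opens (ProjectiveSpectrum.top (CohB1.polyGrading n R)))ᵒᵖ} (c : O U)
    (s : sectN (𝒜 := CohB1.polyGrading n R) d U) (x : U.unop) :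
    ((actN c s).1 x).1 = (c.1 x).val * (s.1 x).1 := smul_coe c s x

theorem secLau_smul (d : ℤ) {I : Finset (Fin (n + 1))} (hI : I.Nonempty) (r : R)
    (s : sectN (𝒜 := CohB1.polyGrading n R) d (op (dI R I))) :
    secLau d hI (actN (scalarO r (op (dI R I))) s) = r • secLau d hI s := by
  have H := exists_isRep d hI s
  obtain ⟨i, j, a, ha, hij, hs⟩ := H
  have h : IsRep d I (actN (scalarO r (op (dI R I))) s) i j (C r * a) := ⟨ha.C_mul r, hij, fun x => by
    refine (actN_coe _ _ x).trans ?_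
    rw [val_scalarO, hs x]
    exact mk_mul_algebraMap (x := x.1) a (C r) _⟩
  rw [secLau_eq hI h, secLau_eq hI ⟨ha, hij, hs⟩, fracLau, fracLau, map_mul, mul_assoc]
  rw [show C r = monomial 0 r from rfl, toLau_monomial, map_zero]
  ext e
  simp

end Groth.Agent.ProjTwist.Pn
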