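import Groth.Agent.ProjTwist.Pn.Mumford
import Groth.Agent.ProperFin.Descend

/-!
`H⁰(F(d)) ⊗ H⁰(O(1)) → H⁰(F(d+1))` is surjective for an `m`-regular `F` and `d ≥ m`, in the form:
every section of `A(1)` is a sum `∑ a_j ⊗ x_j` when `A` is `0`-regular.
-/

set_option autoImplicit false

open CategoryTheory CategoryTheory.Limits AlgebraicGeometry TopologicalSpace Opposite

universe u

noncomputable section

namespace Groth.Agent.ProjTwist.Pn

open Twist
open scoped TensorProduct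

variable {n : ℕ} {k : Type u} [Field k]

theorem isMRegular_twF {F : (CohB1.ProjSpace n k).Modules} (d : ℤ) {m m' : ℤ}
    (h : Curv2.IsMRegular k n F m) (hm : m' + d = m) : Curv2.IsMRegular k n (twF F d) m' := fun i hi hin => by
  have : Subsingleton (Coh.HH (CohB1.ProjSpace n k) (twF F (m - i)) i) := h i hi hin
  exact subsingleton_of_iso (twTw F d (m' - i) (m - i) (by omega)).symm i

theorem natTrans_app_iso {C : Type*} [Category C] {T : C ⥤ C} (ψ : 𝟭 C ⟶ T) {A B : C} (e : B ≅ A) :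
    ψ.app B = e.hom ≫ ψ.app A ≫ T.map e.inv := by
  have h : e.hom ≫ ψ.app A = ψ.app B ≫ T.map e.hom := ψ.naturality e.hom
  rw [reassoc_of% h, ← Functor.map_comp, e.hom_inv_id, T.map_id, Category.comp_id]

theorem mulDown_factor {X : Scheme.{u}} {T T' : X.Modules ⥤ X.Modules} (ψ : 𝟭 X.Modules ⟶ T')
    (ν : T ⋙ T' ≅ 𝟭 X.Modules) {A : X.Modules} (e : T.obj (T'.obj A) ≅ A) :
    Kosz.ta (mulDown ψ ν) (T'.obj A) = e.hom ≫ (ψ.app A ≫ T'.map e.inv ≫ ν.hom.app (T'.obj A)) := by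
  show ψ.app (T.obj (T'.obj A)) ≫ ν.hom.app (T'.obj A) = _
  rw [natTrans_app_iso ψ e, Category.assoc, Category.assoc]

theorem surjective_of_natIso {X : Scheme.{u}} {T : X.Modules ⥤ X.Modules} (ν : T ≅ 𝟭 X.Modules)
    {B G : X.Modules} (σ : B ⟶ G) (h : Function.Surjective (CohLin.hMap (T.map σ) 0)) :
    Function.Surjective (CohLin.hMap σ 0) := fun x => by
  obtain ⟨y, hy⟩ := h (CohLin.hMap (ν.inv.app G) 0 x)
  refine ⟨CohLin.hMap (ν.hom.app B) 0 y, ?_⟩
  rw [← CohLin.hMap_comp, show ν.hom.app B ≫ σ = T.map σ ≫ ν.hom.app G from (ν.hom.naturality σ).symm,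
    CohLin.hMap_comp, hy, ← CohLin.hMap_comp, show ν.inv.app G ≫ ν.hom.app G = 𝟙 G from ν.inv_hom_id_app G]
  exact CohLin.hMap_id G 0 x

/-- sections of `A(1)` for a `0`-regular `A` are sums of `a_j ⊗ x_j` -/
theorem exists_eq_sum_mulUp {A : (CohB1.ProjSpace n k).Modules} (hA : Coh.IsQCoh A)
    (h : Curv2.IsMRegular k n A 0) (x : Coh.HH (CohB1.ProjSpace n k) (twF A 1) 0) :
    ∃ y : Fin (n + 1) → Coh.HH (CohB1.ProjSpace n k) A 0,
      x = ∑ j, CohLin.hMap ((mulUp j).app A) 0 (y j) := by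
  classical
  let T := twFun n k (-1)
  let T' := twFun n k 1
  let e : T.obj (T'.obj A) ≅ A := (twTwNat 1 (-1) 0 (add_neg_cancel 1)).app A ≪≫ twZeroNat.app A
  let θ : T'.obj A ⟶ T'.obj A := T'.map e.inv ≫ downUpNat.hom.app (T'.obj A)
  haveI : IsIso θ := inferInstance
  have : HasBiproduct (fun _ : ULift.{u} (Fin (n + 1)) => A) := inferInstance
  let σ : (⨁ fun _ : ULift.{u} (Fin (n + 1)) => A) ⟶ T'.obj A :=
    biproduct.desc fun j => (mulUp j.down).app A
  have hsur := surjective_h0_of_factor (F := T'.obj A) (isQCoh_tw A hA 1)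
    (isMRegular_twF 1 h (show (-1 : ℤ) + 1 = 0 by ring)) (d := 0) le_rfl (σ ≫ θ) fun j => by
    refine ⟨e.hom ≫ biproduct.ι (fun _ : ULift.{u} (Fin (n + 1)) => A) ⟨j⟩, ?_⟩
    rw [Category.assoc, biproduct.ι_desc_assoc]
    exact (mulDown_factor (mulUp j) downUpNat e).symm
  have hsur' := surjective_of_natIso twZeroNat (σ ≫ θ) hsur
  obtain ⟨z, hz⟩ := hsur' (CohLin.hMap θ 0 x)
  rw [CohLin.hMap_comp] at hz
  have hθ : Function.Injective (CohLin.hMap θ 0) := (CohLin.hIso (asIso θ) 0).injective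
  refine ⟨fun j => CohLin.hMap (biproduct.π (fun _ : ULift.{u} (Fin (n + 1)) => A) ⟨j⟩) 0 z, ?_⟩
  have hσ : σ = ∑ j : Fin (n + 1), biproduct.π (fun _ : ULift.{u} (Fin (n + 1)) => A) ⟨j⟩ ≫ (mulUp j).app A := by
    refine biproduct.hom_ext' _ _ fun i => ?_
    rw [biproduct.ι_desc, Preadditive.comp_sum, Finset.sum_eq_single i.down]
    · rw [biproduct.ι_π_self_assoc]
    · intro j _ hj
      rw [biproduct.ι_π_ne_assoc _ (fun e => hj (congrArg ULift.down e).symm), zero_comp]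
    · exact fun h => absurd (Finset.mem_univ _) h
  rw [← hθ hz, hσ]
  refine (map_sum (CohLin.hMapHom _ _ 0 z) _ _).trans ?_
  exact Finset.sum_congr rfl fun j _ => CohLin.hMap_comp _ _ 0 z

/-- the same for sections -/
theorem exists_sections_eq_sum_tmul {A : (CohB1.ProjSpace n k).Modules} (hA : Coh.IsQCoh A)
    (h : Curv2.IsMRegular k n A 0) (x : Γ(twF A 1, ⊤)) :
    ∃ a : Fin (n + 1) → Γ(A, ⊤), x = ∑ j, Props.GenTensor.tmul (a j) (xSec j) := by
  obtain ⟨y, hy⟩ := exists_eq_sum_mulUp hA h ((ProperFin.h0Sec (twF A 1)).symm x)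
  refine ⟨fun j => ProperFin.h0Sec A (y j), ?_⟩
  have hy' := congrArg (ProperFin.h0Sec (twF A 1)) hy
  rw [AddEquiv.apply_symm_apply] at hy'
  refine hy'.trans ((map_sum (ProperFin.h0Sec (twF A 1)) _ _).trans ?_)
  refine Finset.sum_congr rfl fun j _ => ?_
  refine (ProperFin.h0Sec_hMap ((mulUp j).app A) (y j)).trans ?_
  refine (mulUp_app_apply j A ⊤ _).trans ?_
  exact congrArg (fun z => Props.GenTensor.tmul (ProperFin.h0Sec A (y j)) z) (QCoh.res_self _ le_top (xSec j))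

theorem twTwNat_tmul (A : (CohB1.ProjSpace n k).Modules) (a b c : ℤ) (h : a + b = c)
    (U : (CohB1.ProjSpace n k).Opens) (g : Γ(A, U)) (t : Γ(twistProjSpace n k a, U))
    (s : Γ(twistProjSpace n k b, U)) :
    ∃ w : Γ(twistProjSpace n k c, U),
      ((twTwNat a b c h).hom.app A).app U (Props.GenTensor.tmul (Props.GenTensor.tmul g t) s) =
        Props.GenTensor.tmul g w :=
  ⟨_, assocNat_tmul _ _ _ _ A U g t s⟩

/-- multiplication `H⁰(A) ⊗ H⁰(O(e)) → H⁰(A(e))` is surjective for `0`-regular `A` -/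
theorem exists_sections_eq_sum_tmul_pow {A : (CohB1.ProjSpace n k).Modules} (hA : Coh.IsQCoh A)
    (h : Curv2.IsMRegular k n A 0) (e : ℕ) (x : Γ(twF A (e : ℤ), ⊤)) :
    ∃ (N : ℕ) (a : Fin N → Γ(A, ⊤)) (t : Fin N → Γ(twistProjSpace n k (e : ℤ), ⊤)),
      x = ∑ l, Props.GenTensor.tmul (a l) (t l) := by
  induction e with
  | zero =>
    let s₀ : Coh.structureModule (CohB1.ProjSpace n k) ⟶ twistProjSpace n k ((0 : ℕ) : ℤ) :=
      oneHom (CohB1.polyGrading n k)
    have hgen : Props.GenLocus.IsGen (twistProjSpace n k ((0 : ℕ) : ℤ)) ⊤ (Props.GenLocus.sec s₀ ⊤) := by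
      refine (Props.GenLocus.isIso_restrict_iff s₀ ⊤).mp ?_
      haveI : IsIso s₀ := isIso_oneHom (CohB1.polyGrading n k)
      infer_instance
    obtain ⟨g, hg⟩ := (mulSecHom_bijective _ s₀ ⊤ hgen A ⊤ le_rfl).2 x
    refine ⟨1, fun _ => g, fun _ => Props.GenLocus.sec s₀ ⊤, ?_⟩
    rw [Fin.sum_univ_one]
    exact hg.symm
  | succ e ih =>
    let ν := twTwNat (n := n) (R := k) (e : ℤ) 1 ((e + 1 : ℕ) : ℤ) (by push_cast; ring)
    have hreg : Curv2.IsMRegular k n (twF A (e : ℤ)) 0 :=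
      isMRegular_twF (e : ℤ) (isMRegular_of_le hA h (show (0 : ℤ) ≤ (e : ℤ) by omega)) (by ring)
    obtain ⟨y, hy⟩ := exists_sections_eq_sum_tmul (isQCoh_tw A hA (e : ℤ)) hreg
      ((ν.inv.app A).app ⊤ x)
    have hx : x = (ν.hom.app A).app ⊤ ((ν.inv.app A).app ⊤ x) := by
      rw [← ConcreteCategory.comp_apply, ← Scheme.Modules.Hom.comp_app, ν.inv_hom_id_app]
      rfl
    choose N a t ht using fun j => ih (y j)
    have hw : ∀ (j : Fin (n + 1)) (l : Fin (N j)), ∃ w : Γ(twistProjSpace n k ((e + 1 : ℕ) : ℤ), ⊤),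
        (ν.hom.app A).app ⊤ (Props.GenTensor.tmul (Props.GenTensor.tmul (a j l) (t j l)) (xSec j)) =
          Props.GenTensor.tmul (a j l) w :=
      fun j l => twTwNat_tmul A _ 1 _ _ ⊤ (a j l) (t j l) (xSec j)
    choose w hw using hw
    let E := finSigmaFinEquiv (n := N)
    refine ⟨∑ j, N j, fun l => a (E.symm l).1 (E.symm l).2, fun l => w (E.symm l).1 (E.symm l).2, ?_⟩
    rw [← E.sum_comp]
    rw [Fintype.sum_sigma, hx, hy]
    refine (map_sum ((ν.hom.app A).app ⊤).hom _ _).trans ?_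
    refine Finset.sum_congr rfl fun j _ => ?_
    rw [ht j]
    let L : Γ(twF A (e : ℤ), ⊤) →+ Γ(twF A ((e + 1 : ℕ) : ℤ), ⊤) :=
      ((ν.hom.app A).app ⊤).hom.comp (AddMonoidHom.mk'
        (fun g => Props.GenTensor.tmul g (xSec (R := k) j)) fun g g' => by
          show Props.GenTensor.tmul (g + g') _ = _
          rw [Props.GenTensor.tmul, TensorProduct.add_tmul]
          exact map_add ((Props.GenTensor.η _ _).app (op ⊤)).hom _ _)
    exact (map_sum L _ _).trans (Finset.sum_congr rfl fun l _ => (hw j l).trans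
      (congrArg (fun p : Σ j, Fin (N j) => Props.GenTensor.tmul (a p.1 p.2) (w p.1 p.2))
        (E.symm_apply_apply ⟨j, l⟩).symm))

/-- the sheafification map is surjective on global sections as soon as every section is a sum of `tmul`s -/
theorem toSheafify_surjective_of_sum {X : Scheme.{u}} {M N : X.Modules}
    (h : ∀ x : Γ(CohB1.tensorMod M N, ⊤), ∃ (c : ℕ) (a : Fin c → Γ(M, ⊤)) (t : Fin c → Γ(N, ⊤)),
      x = ∑ l, Props.GenTensor.tmul (a l) (t l)) :
    Function.Surjective ((toSheafify (Opens.grothendieckTopology X)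
      (Props.GenTensor.pre M N).presheaf).app (op ⊤)) := by
  rw [← Props.GenTensor.η_eq]
  intro x
  obtain ⟨c, a, t, hx⟩ := h x
  exact ⟨∑ l, (show (Props.GenTensor.pre M N).obj (op ⊤) from
    (a l ⊗ₜ[Γ(X, ⊤)] t l : TensorProduct Γ(X, ⊤) Γ(M, ⊤) Γ(N, ⊤))),
    (map_sum ((Props.GenTensor.η M N).app (op ⊤)).hom _ _).trans hx.symm⟩

end Groth.Agent.ProjTwist.Pn
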