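import Groth.Agent.ProjTwist.Pn.Mumford
import Groth.Agent.ProjTwist.Pn.SupportVanish

/-!
Regularity of the cokernel of the last map of a complex with regular terms and small homology.
-/

set_option autoImplicit false

open CategoryTheory CategoryTheory.Limits AlgebraicGeometry TopologicalSpace Opposite

universe u

noncomputable section

namespace Groth.Agent.ProjTwist.Pn

open Twist

variable {n : ℕ} {k : Type u} [Field k]

theorem topologicalKrullDim_support_twF_le (M : (CohB1.ProjSpace n k).Modules) (d : ℤ) :
    topologicalKrullDim (CohB1.support (twF M d)) ≤ topologicalKrullDim (CohB1.support M) := by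
  have hsub : CohB1.support (twF M d) ⊆ CohB1.support M := fun x hx hM => hx <| by
    haveI : Subsingleton (M.presheaf.stalk x) := hM
    haveI : Subsingleton (TensorProduct ((CohB1.ProjSpace n k).presheaf.stalk x) (M.presheaf.stalk x)
        ((twistProjSpace n k d).presheaf.stalk x)) :=
      subsingleton_of_forall_eq 0 fun z => by
        induction z using TensorProduct.induction_on with
        | zero => rfl
        | tmul a b => rw [Subsingleton.elim a 0, TensorProduct.zero_tmul]
        | add a b ha hb => rw [ha, hb, add_zero]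
    exact (KFlat.StalkTensor.stalkTensorEquiv M (twistProjSpace n k d) x).injective.subsingleton
  exact (Topology.IsEmbedding.inclusion hsub).isInducing.topologicalKrullDim_le

theorem regularity_of_chain (E : ChainComplex ((CohB1.ProjSpace n k).Modules) ℕ) (t : ℕ)
    (hbdd : ∀ s : ℕ, t < s → IsZero (E.X s)) (hcoh : ∀ s : ℕ, Coh.IsCoh (E.X s)) (d : ℤ)
    (hreg : ∀ s : ℕ, Curv2.IsMRegular k n (E.X s) (d + s))
    (hsupp : ∀ i : ℕ, 0 < i → topologicalKrullDim (CohB1.support (E.homology i)) ≤ 1) :
    Curv2.IsMRegular k n (cokernel (E.d 1 0)) d ∧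
      Curv2.IsMRegular k n (Abelian.image (E.d 1 0)) (d + 1) := by
  haveI := isLocallyNoetherian_projSpace n k
  have : IsProper (CohB1.ProjSpace.toSpec n k) := ProjProper.Basic.isProper_toSpec n k
  have : CompactSpace (CohB1.ProjSpace n k) :=
    QuasiCompact.compactSpace_of_compactSpace (CohB1.ProjSpace.toSpec n k)
  have : IsNoetherian (CohB1.ProjSpace n k) := ⟨⟩
  -- the images
  let B : ℕ → (CohB1.ProjSpace n k).Modules := fun s => Abelian.image (E.d (s + 1) s)
  suffices H : ∀ (c s : ℕ), t ≤ s + c → ∀ (i : ℕ) (e : ℤ), 1 ≤ i → e = d + s + 1 - i →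
      Subsingleton (Coh.HH (CohB1.ProjSpace n k) (twF (B s) e) i) by
    refine ⟨fun i hi hin => ?_, fun i hi hin => H t 0 (by omega) i _ hi (by push_cast; ring)⟩
    let S : ShortComplex (CohB1.ProjSpace n k).Modules :=
      ShortComplex.mk (Abelian.image.ι (E.d 1 0)) (cokernel.π (E.d 1 0)) (kernel.condition _)
    have hS : S.ShortExact := ShortComplex.ShortExact.mk'
      (ShortComplex.exact_of_f_is_kernel _ (kernelIsKernel _)) inferInstance
      (inferInstanceAs (Epi (cokernel.π _)))
    have : Subsingleton (Coh.HH (CohB1.ProjSpace n k) (S.map (twFun n k (d - i))).X₂ i) := by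
      have h0 := hreg 0 i hi hin
      rw [Nat.cast_zero, add_zero] at h0
      exact h0
    have : Subsingleton (Coh.HH (CohB1.ProjSpace n k) (S.map (twFun n k (d - i))).X₁ (i + 1)) :=
      H t 0 (by omega) (i + 1) _ (Nat.le_add_left 1 i) (by push_cast; ring)
    exact CohLin.subsingleton_X₃ (shortExact_tw hS _)
  intro c
  induction c with
  | zero =>
    intro s hs i e _ _
    refine subsingleton_of_isZero ((twFun n k e).map_isZero ?_) i
    exact IsZero.of_epi (Abelian.factorThruImage (E.d (s + 1) s)) (hbdd (s + 1) (by omega))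
  | succ c ih =>
    intro s hs i e hi he
    -- `0 → B (s+1) → Z → H → 0`
    let Z := kernel (E.d (s + 1) s)
    let α : E.X (s + 2) ⟶ Z := kernel.lift _ (E.d (s + 2) (s + 1)) (E.d_comp_d _ _ _)
    let SE : ShortComplex (CohB1.ProjSpace n k).Modules :=
      ShortComplex.mk (kernel.ι (E.d (s + 1) s)) (Abelian.factorThruImage (E.d (s + 1) s)) (by
        rw [← cancel_mono (Abelian.image.ι (E.d (s + 1) s)), Category.assoc, Abelian.image.fac,
          kernel.condition, zero_comp])
    have hSE : SE.ShortExact := by
      refine ShortComplex.ShortExact.mk' (ShortComplex.exact_of_f_is_kernel _ ?_) inferInstance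
        (inferInstanceAs (Epi (Abelian.factorThruImage _)))
      refine KernelFork.IsLimit.ofι' _ _ fun {A} g hg => ⟨kernel.lift _ g ?_, kernel.lift_ι _ _ _⟩
      rw [← Abelian.image.fac (E.d (s + 1) s), ← Category.assoc]
      exact (congrArg (· ≫ Abelian.image.ι (E.d (s + 1) s)) hg).trans zero_comp
    have hX₂ : Subsingleton (Coh.HH (CohB1.ProjSpace n k) (SE.map (twFun n k e)).X₂ i) :=
      subsingleton_of_isMRegular (hcoh (s + 1)).1 (hreg (s + 1)) hi (by rw [he]; push_cast; ring)
    have hX₁ : Subsingleton (Coh.HH (CohB1.ProjSpace n k) (SE.map (twFun n k e)).X₁ (i + 1)) := by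
      let SH : ShortComplex (CohB1.ProjSpace n k).Modules :=
        ShortComplex.mk (Abelian.image.ι α) (cokernel.π α) (kernel.condition _)
      have hSH : SH.ShortExact := ShortComplex.ShortExact.mk'
        (ShortComplex.exact_of_f_is_kernel _ (kernelIsKernel _)) inferInstance
        (inferInstanceAs (Epi (cokernel.π α)))
      -- `image α ≅ B (s+1)`
      have hBiso : Nonempty (Abelian.image α ≅ B (s + 1)) := by
        have hfac : (Abelian.factorThruImage α) ≫ (Abelian.image.ι α ≫ kernel.ι (E.d (s + 1) s)) =
            E.d (s + 2) (s + 1) := by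
            rw [← Category.assoc, Abelian.image.fac, kernel.lift_ι]
        haveI : StrongEpi (Abelian.factorThruImage α) := strongEpi_of_epi _
        exact ⟨((image.isoStrongEpiMono (Abelian.factorThruImage α)
          (Abelian.image.ι α ≫ kernel.ι (E.d (s + 1) s)) hfac)).trans
          (Abelian.imageIsoImage (E.d (s + 2) (s + 1))).symm⟩
      have h₁ : Subsingleton (Coh.HH (CohB1.ProjSpace n k) (SH.map (twFun n k e)).X₁ (i + 1)) := by
        have := ih (s + 1) (by omega) (i + 1) e (Nat.le_add_left 1 i) (by rw [he]; push_cast; ring)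
        exact subsingleton_of_iso (twCongr hBiso.some.symm e) (i + 1)
      have h₃ : Subsingleton (Coh.HH (CohB1.ProjSpace n k) (SH.map (twFun n k e)).X₃ (i + 1)) := by
        have hcohZ : Coh.IsCoh Z := CohDev.isCoh_kernel _ (hcoh (s + 1)) (hcoh s).1
        have hcohH : Coh.IsCoh (cokernel α) := CohDev.isCoh_cokernel α (hcoh (s + 2)).1 hcohZ
        have e1 : E.homology (s + 1) ≅ cokernel α :=
          (E.homologyIsoSc' (s + 2) (s + 1) s (by simp) (by simp)) ≪≫
            (ShortComplex.LeftHomologyData.ofHasKernelOfHasCokernel (E.sc' (s + 2) (s + 1) s)).homologyIso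
        have hdim : topologicalKrullDim (CohB1.support (cokernel α)) ≤ (1 : ℕ) := by
          have hsub : CohB1.support (cokernel α) ⊆ CohB1.support (E.homology (s + 1)) := fun x hx h0 => by
            haveI : Subsingleton ((E.homology (s + 1)).presheaf.stalk x) := h0
            exact hx ((stalkLin_iso_bijective e1 x).2.subsingleton)
          exact ((Topology.IsEmbedding.inclusion hsub).isInducing.topologicalKrullDim_le).trans
            (hsupp (s + 1) (Nat.succ_pos s))
        exact subsingleton_of_supportDim_le (isCoh_tw hcohH e) 1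
          ((topologicalKrullDim_support_twF_le _ e).trans hdim) (i + 1) (by omega)
      exact CohLin.subsingleton_X₂ (shortExact_tw hSH e)
    exact CohLin.subsingleton_X₃ (shortExact_tw hSE e)

end Groth.Agent.ProjTwist.Pn
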