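import Groth.Agent.ProjTwist.Pn.Twist
import Groth.Prelude.Def_Curv2

/-!
Castelnuovo-Mumford regularity on `P^n_k`: behaviour in short exact sequences.
-/

open CategoryTheory CategoryTheory.Limits AlgebraicGeometry TopologicalSpace Opposite

universe u

noncomputable section

namespace Groth.Agent.ProjTwist.Pn

open Twist

variable {n : ℕ} {k : Type u} [Field k]

theorem subsingleton_of_isMRegular {F : (CohB1.ProjSpace n k).Modules} (hF : Coh.IsQCoh F) {m : ℤ}
    (h : Curv2.IsMRegular k n F m) {i : ℕ} (hi : 1 ≤ i) {d : ℤ} (hd : d = m - i) :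
    Subsingleton (Coh.HH (CohB1.ProjSpace n k) (twF F d) i) := by
  subst hd
  rcases le_or_gt i n with h1 | h1
  · exact h i hi h1
  · exact subsingleton_above _ (isQCoh_tw F hF _) i h1

theorem isMRegular_X₂ {S : ShortComplex (CohB1.ProjSpace n k).Modules} (hS : S.ShortExact) {m : ℤ}
    (h₁ : Curv2.IsMRegular k n S.X₁ m) (h₃ : Curv2.IsMRegular k n S.X₃ m) :
    Curv2.IsMRegular k n S.X₂ m := fun i hi hin => by
  have : Subsingleton (Coh.HH (CohB1.ProjSpace n k) (S.map (twFun n k (m - i))).X₁ i) := h₁ i hi hin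
  have : Subsingleton (Coh.HH (CohB1.ProjSpace n k) (S.map (twFun n k (m - i))).X₃ i) := h₃ i hi hin
  exact CohLin.subsingleton_X₂ (shortExact_tw hS _)

theorem isMRegular_cokernel {F : (CohB1.ProjSpace n k).Modules} (hF : Coh.IsQCoh F) {m : ℤ}
    (h : Curv2.IsMRegular k n F m) (ι : twF F (-1) ⟶ F) [Mono ι] :
    Curv2.IsMRegular k n (cokernel ι) m := fun i hi hin => by
  let S : ShortComplex (CohB1.ProjSpace n k).Modules :=
    ShortComplex.mk ι (cokernel.π ι) (cokernel.condition ι)
  have hS : S.ShortExact :=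
    ShortComplex.ShortExact.mk' (ShortComplex.exact_cokernel ι) ‹Mono ι›
      (inferInstanceAs (Epi (cokernel.π ι)))
  have : Subsingleton (Coh.HH (CohB1.ProjSpace n k) (S.map (twFun n k (m - i))).X₂ i) := h i hi hin
  have : Subsingleton (Coh.HH (CohB1.ProjSpace n k) (S.map (twFun n k (m - i))).X₁ (i + 1)) := by
    have := subsingleton_of_isMRegular hF h (Nat.le_add_left 1 i) (d := m - ((i + 1 : ℕ) : ℤ)) rfl
    exact subsingleton_of_iso
      (twTw F (-1) (m - i) (m - ((i + 1 : ℕ) : ℤ)) (by push_cast; ring)).symm (i + 1)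
  exact CohLin.subsingleton_X₃ (shortExact_tw hS _)

end Groth.Agent.ProjTwist.Pn
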