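import Groth.Agent.ProjTwist.Pn.HyperSection
import Groth.Agent.ProjTwist.Pn.Extension
import Groth.Agent.ProjTwist.Pn.Regular
import Groth.Agent.ProjTwist.Pn.Chain
import Groth.Agent.ProjTwist.Pn.Linear
import Groth.Agent.ProjProper.Basic
import Groth.Agent.EulerChar.Basic
import Groth.Agent.PerfTri.Bounded
import Groth.Agent.PlanePts.Forms
import Groth.Agent.S10829

/-!
Mumford's uniform bound for the regularity of submodules of a fixed regular module with given
Euler characteristics, over infinite fields.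
-/

set_option autoImplicit false

open CategoryTheory CategoryTheory.Limits AlgebraicGeometry TopologicalSpace Opposite
open Groth.Agent.PullStalk.Exact Polynomial

universe u

noncomputable section

namespace Groth.Agent.ProjTwist.Pn

open Twist

variable {n : ℕ} {k : Type u} [Field k]

/-- `χ(F(t))` -/
def chi (F : (CohB1.ProjSpace n k).Modules) (t : ℤ) : ℤ :=
  Curv2.euler k (CohB1.ProjSpace n k) (twF F t)

/-- `h⁰(F(t))` -/
def h0Tw (F : (CohB1.ProjSpace n k).Modules) (t : ℤ) : ℕ :=
  Module.finrank k (Coh.HH (CohB1.ProjSpace n k) (twF F t) 0)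

theorem euler_add_map {X : Scheme.{u}} [X.Over (Spec (CommRingCat.of k))]
    [IsProper (X ↘ Spec (CommRingCat.of k))] (T : X.Modules ⥤ X.Modules) [T.PreservesZeroMorphisms]
    {S : ShortComplex X.Modules} (hS : (S.map T).ShortExact)
    (h₁ : Coh.IsCoh (T.obj S.X₁)) (h₂ : Coh.IsCoh (T.obj S.X₂)) (h₃ : Coh.IsCoh (T.obj S.X₃)) :
    Curv2.euler k X (S.map T).X₂ = Curv2.euler k X (S.map T).X₁ + Curv2.euler k X (S.map T).X₃ :=
  @EulerChar.euler_add k _ X _ _ (S.map T) hS h₁ h₂ h₃

set_option maxHeartbeats 400000 in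
theorem chi_add {S : ShortComplex (CohB1.ProjSpace n k).Modules} (hS : S.ShortExact)
    (h₁ : Coh.IsCoh S.X₁) (h₂ : Coh.IsCoh S.X₂) (h₃ : Coh.IsCoh S.X₃) (t : ℤ) :
    chi S.X₂ t = chi S.X₁ t + chi S.X₃ t :=
  @euler_add_map k _ (CohB1.ProjSpace n k) _ (ProjProper.Basic.isProper_toSpec n k) (twFun n k t) _ S
    (shortExact_tw hS t) (isCoh_tw h₁ t) (isCoh_tw h₂ t) (isCoh_tw h₃ t)

theorem chi_tw (F : (CohB1.ProjSpace n k).Modules) (a t : ℤ) : chi (twF F a) t = chi F (a + t) := by
  have : IsProper (CohB1.ProjSpace n k ↘ Spec (CommRingCat.of k)) := ProjProper.Basic.isProper_toSpec n k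
  exact EulerChar.euler_iso k (twTw F a t (a + t) rfl)

theorem finrank_map_le {X : Scheme.{u}} [X.Over (Spec (CommRingCat.of k))] (T : X.Modules ⥤ X.Modules)
    [T.PreservesZeroMorphisms] {S : ShortComplex X.Modules} (hS : (S.map T).ShortExact)
    [Module.Finite k (Coh.HH X (T.obj S.X₂) 0)] :
    Module.finrank k (Coh.HH X (S.map T).X₁ 0) ≤ Module.finrank k (Coh.HH X (S.map T).X₂ 0) := by
  have : Module.Finite k (Coh.HH X (S.map T).X₂ 0) := ‹_›
  exact LinearMap.finrank_le_finrank_of_injective (CurveCoh.injective_mapL_zero k (S := S.map T) hS)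

set_option maxHeartbeats 400000 in
theorem h0Tw_le_of_mono {S : ShortComplex (CohB1.ProjSpace n k).Modules} (hS : S.ShortExact)
    (h₂ : Coh.IsCoh S.X₂) (t : ℤ) : h0Tw S.X₁ t ≤ h0Tw S.X₂ t :=
  @finrank_map_le k _ (CohB1.ProjSpace n k) _ (twFun n k t) _ S (shortExact_tw hS t)
    (finite_hh (isCoh_tw h₂ t) 0)

theorem chi_eq_of_vanishing {F : (CohB1.ProjSpace n k).Modules} {t : ℤ}
    (h : ∀ i, 2 ≤ i → Subsingleton (Coh.HH (CohB1.ProjSpace n k) (twF F t) i)) :
    chi F t = (h0Tw F t : ℤ) - h1Tw F t := by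
  have : IsProper (CohB1.ProjSpace n k ↘ Spec (CommRingCat.of k)) := ProjProper.Basic.isProper_toSpec n k
  rw [chi, EulerChar.euler_eq_sum k (t := 2) h]
  simp [Finset.sum_range_succ, h0Tw, h1Tw, sub_eq_add_neg]

variable (n) in
/-- The bound `m` works for `(c, N, P)`, the Euler characteristics being given from `a` on. -/
def Bounded (c N : ℕ) (P : ℚ[X]) (a m : ℕ) : Prop :=
  ∀ (k : Type u) [Field k] [Infinite k] (A G : (CohB1.ProjSpace n k).Modules) (φ : G ⟶ A), Mono φ →
    Coh.IsCoh A → Coh.IsCoh G → Curv2.IsMRegular k n A 0 →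
    (∀ t : ℕ, h0Tw A t ≤ N * (n + t).choose n) →
    topologicalKrullDim (CohB1.support A) < (c : WithBot ℕ∞) →
    (∀ t : ℤ, (a : ℤ) ≤ t → (chi G t : ℚ) = P.eval (t : ℚ)) → Curv2.IsMRegular k n G m

theorem bounded_zero (N : ℕ) (P : ℚ[X]) (a : ℕ) : Bounded.{u} n 0 N P a 0 := by
  intro k _ _ A G φ hφ hA hG _ _ hdim _ i hi _
  have := isLocallyNoetherian_projSpace n k
  have : IsProper (CohB1.ProjSpace n k ↘ Spec (CommRingCat.of k)) := ProjProper.Basic.isProper_toSpec n k
  have : CompactSpace (CohB1.ProjSpace n k) := EulerChar.compactSpace k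
  have : IsNoetherian (CohB1.ProjSpace n k) := {}
  refine subsingleton_of_supportDim_le (isCoh_tw hG _) 0 ?_ i (by omega)
  refine (topologicalKrullDim_support_twF_le G _).trans (le_trans ?_ hdim.le)
  refine (Topology.IsEmbedding.inclusion ?_).isInducing.topologicalKrullDim_le
  intro y hy hs
  have : Subsingleton (A.presheaf.stalk y) := hs
  exact hy (Omega.Stalks.stalkLin_injective_of_mono φ y).subsingleton

/-- The difference polynomial. -/
def delta (P : ℚ[X]) : ℚ[X] := P - P.comp (Polynomial.X - 1)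

theorem exists_bounded (c : ℕ) : ∀ (N : ℕ) (P : ℚ[X]) (a : ℕ), ∃ m : ℕ, Bounded.{u} n c N P a m := by
  induction c with
  | zero => exact fun N P a => ⟨0, bounded_zero N P a⟩
  | succ c ih =>
    intro N P a
    obtain ⟨m', hm'⟩ := ih N (delta P) (a + 1)
    let m₁ : ℕ := max m' (a + 1)
    let b : ℕ := ⌈((N * (n + (m₁ - 1)).choose n : ℕ) : ℚ) - P.eval ((m₁ - 1 : ℕ) : ℚ)⌉₊
    refine ⟨m₁ + b, ?_⟩
    intro k _ _ A G φ hφ hA hG hAreg hh0 hdim hchi
    have := isLocallyNoetherian_projSpace n k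
    let Q := cokernel φ
    have hQ : Coh.IsCoh Q := CohDev.isCoh_cokernel φ hG.1 hA
    let SA := ShortComplex.mk φ (cokernel.π φ) (cokernel.condition φ)
    have hSA : SA.ShortExact :=
      ShortComplex.ShortExact.mk' (ShortComplex.exact_cokernel φ) hφ (inferInstanceAs (Epi (cokernel.π φ)))
    obtain ⟨τ, hmono, hdrop⟩ := exists_hyperSection (fun b : Bool => bif b then A else Q)
      (fun b => by cases b; exacts [hQ, hA])
    have hτA : Mono (τ.app A) := hmono true
    have hτQ : Mono (τ.app Q) := hmono false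
    have hTφ : Mono ((twFun n k (-1)).map φ) := (shortExact_tw hSA (-1)).mono_f
    have hnat : (twFun n k (-1)).map φ ≫ τ.app A = τ.app G ≫ φ := τ.naturality φ
    have hτG : Mono (τ.app G) := by
      have h : Mono (τ.app G ≫ φ) := hnat ▸ mono_comp _ _
      exact mono_of_mono (τ.app G) φ
    let A' := cokernel (τ.app A)
    let G' := cokernel (τ.app G)
    let φ' : G' ⟶ A' := cokernel.map (τ.app G) (τ.app A) ((twFun n k (-1)).map φ) φ hnat.symm
    have hA' : Coh.IsCoh A' := CohDev.isCoh_cokernel _ (isCoh_tw hA (-1)).1 hA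
    have hG' : Coh.IsCoh G' := CohDev.isCoh_cokernel _ (isCoh_tw hG (-1)).1 hG
    let SG := ShortComplex.mk (τ.app G) (cokernel.π (τ.app G)) (cokernel.condition _)
    have hSG : SG.ShortExact :=
      ShortComplex.ShortExact.mk' (ShortComplex.exact_cokernel _) hτG
        (inferInstanceAs (Epi (cokernel.π (τ.app G))))
    let SA' := ShortComplex.mk (τ.app A) (cokernel.π (τ.app A)) (cokernel.condition _)
    have hSA' : SA'.ShortExact :=
      ShortComplex.ShortExact.mk' (ShortComplex.exact_cokernel _) hτA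
        (inferInstanceAs (Epi (cokernel.π (τ.app A))))
    have hφ' : Mono φ' := by
      refine Omega.Stalks.mono_of_stalk fun y => (injective_iff_map_eq_zero _).mpr fun z hz => ?_
      obtain ⟨a, rfl⟩ := stalk_surjective (cokernel.π (τ.app G)) y z
      have ha : stalkLin (cokernel.π (τ.app A)) y (stalkLin φ y a) = 0 := by
        rw [← Omega.Stalks.stalkLin_comp] at hz ⊢
        rwa [cokernel.π_desc] at hz
      obtain ⟨b, hb⟩ := ((stalk_exact hSA' y).2.1 _).mp ha
      have hb0 : stalkLin (τ.app Q) y (stalkLin ((twFun n k (-1)).map (cokernel.π φ)) y b) = 0 := by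
        rw [← Omega.Stalks.stalkLin_comp, show (twFun n k (-1)).map (cokernel.π φ) ≫ τ.app Q =
          τ.app A ≫ cokernel.π φ from τ.naturality (cokernel.π φ), Omega.Stalks.stalkLin_comp, hb,
          ← Omega.Stalks.stalkLin_comp, cokernel.condition]
        exact Omega.Stalks.stalkLin_zero y a
      have hb1 := (Omega.Stalks.stalkLin_injective_of_mono (τ.app Q) y) (hb0.trans (map_zero _).symm)
      obtain ⟨b', rfl⟩ := ((stalk_exact (shortExact_tw hSA (-1)) y).2.1 b).mp hb1
      have hab : stalkLin (τ.app G) y b' = a := by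
        refine Omega.Stalks.stalkLin_injective_of_mono φ y ?_
        refine Eq.trans ?_ hb
        refine (Omega.Stalks.stalkLin_comp (τ.app G) φ y b').symm.trans ?_
        refine (congrArg (fun g => stalkLin g y b') hnat.symm).trans ?_
        exact Omega.Stalks.stalkLin_comp ((twFun n k (-1)).map φ) (τ.app A) y b'
      rw [← hab]
      refine (Omega.Stalks.stalkLin_comp (τ.app G) (cokernel.π (τ.app G)) y b').symm.trans ?_
      exact (congrArg (fun g => stalkLin g y b') (cokernel.condition _)).trans (Omega.Stalks.stalkLin_zero y b')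
    have hA'reg : Curv2.IsMRegular k n A' 0 := @isMRegular_cokernel _ _ _ A hA.1 0 hAreg (τ.app A) hτA
    have hA'h0 : ∀ t : ℕ, h0Tw A' t ≤ N * (n + t).choose n := by
      intro t
      refine le_trans ?_ (hh0 t)
      have hvan : Subsingleton (Coh.HH (CohB1.ProjSpace n k) (SA'.map (twFun n k (t : ℤ))).X₁ 1) := by
        have := subsingleton_of_le hA.1 hAreg (i := 1) le_rfl (d := -1 + (t : ℤ)) (by omega)
        exact subsingleton_of_iso (twTw A (-1) t (-1 + t) rfl).symm 1
      have := finite_hh (isCoh_tw hA (t : ℤ)) 0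
      exact LinearMap.finrank_le_finrank_of_surjective
        (f := CohLin.overLin k (CohLin.hMap (SA'.map (twFun n k (t : ℤ))).g 0))
        fun x => CohLin.exists_hMap_g_eq (shortExact_tw hSA' (t : ℤ)) x (Subsingleton.elim _ _)
    have hA'dim : topologicalKrullDim (CohB1.support A') < (c : WithBot ℕ∞) := hdrop true c hdim
    have hG'chi : ∀ t : ℤ, ((a + 1 : ℕ) : ℤ) ≤ t → (chi G' t : ℚ) = (delta P).eval (t : ℚ) := by
      intro t ht
      have h : chi G t = chi (twF G (-1)) t + chi G' t := chi_add hSG (isCoh_tw hG (-1)) hG hG' t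
      rw [chi_tw] at h
      have h1 := hchi (-1 + t) (by push_cast at ht; omega)
      push_cast at h1
      rw [delta, eval_sub, eval_comp, eval_sub, eval_X, eval_one, ← hchi t (by push_cast at ht; omega),
        show (t : ℚ) - 1 = -1 + t by ring, ← h1, h]
      push_cast
      ring
    have hreg : Curv2.IsMRegular k n G' m' :=
      hm' k A' G' φ' hφ' hA' hG' hA'reg hA'h0 hA'dim hG'chi
    have hreg1 : Curv2.IsMRegular k n G' (m₁ : ℤ) :=
      isMRegular_of_le hG'.1 hreg (by exact_mod_cast le_max_left m' (a + 1))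
    have two : ∀ (i : ℕ) (j : ℤ), 2 ≤ i → (m₁ : ℤ) - i ≤ j →
        Subsingleton (Coh.HH (CohB1.ProjSpace n k) (twF G j) i) := fun i j hi hj =>
      extension_subsingleton (τ.app G) (cokernel.π (τ.app G)) (cokernel.condition _) hSG hG hG'.1 hreg1 i hi j hj
    have h1b : h1Tw G ((m₁ : ℤ) - 1) ≤ b := by
      have hm1 : a + 1 ≤ m₁ := le_max_right _ _
      have he : ((m₁ - 1 : ℕ) : ℤ) = (m₁ : ℤ) - 1 := by omega
      have h := chi_eq_of_vanishing (F := G) (t := (m₁ : ℤ) - 1) fun i hi => two i _ hi (by omega)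
      have h0 : h0Tw G ((m₁ : ℤ) - 1) ≤ N * (n + (m₁ - 1)).choose n := by
        refine (h0Tw_le_of_mono hSA hA _).trans ?_
        rw [← he]
        exact hh0 _
      have hq : (h1Tw G ((m₁ : ℤ) - 1) : ℚ) ≤
          ((N * (n + (m₁ - 1)).choose n : ℕ) : ℚ) - P.eval ((m₁ - 1 : ℕ) : ℚ) := by
        have hP := hchi ((m₁ : ℤ) - 1) (by omega)
        rw [h, ← he] at hP
        push_cast at hP
        rw [← hP, he]
        have : ((h0Tw G ((m₁ : ℤ) - 1) : ℕ) : ℚ) ≤ ((N * (n + (m₁ - 1)).choose n : ℕ) : ℚ) := by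
          exact_mod_cast h0
        linarith
      exact_mod_cast hq.trans (Nat.le_ceil _)
    intro i hi _
    rcases Nat.lt_or_ge i 2 with h | h
    · obtain rfl : i = 1 := by omega
      exact extension_subsingleton_one (τ.app G) (cokernel.π (τ.app G)) (cokernel.condition _) hSG hG hG'.1
        hreg1 _ (by push_cast; omega)
    · exact two i _ h (by push_cast; omega)

section Free

variable {X : Scheme.{u}} [X.Over (Spec (CommRingCat.of k))]

omit [X.Over (Spec (CommRingCat.of k))] in
theorem eq_sum_hMap' {κ : Type} [Fintype κ] (F : κ → X.Modules) [HasBiproduct F] (i : ℕ)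
    (x : Coh.HH X (⨁ F) i) :
    x = ∑ j, CohLin.hMap (biproduct.ι F j) i (CohLin.hMap (biproduct.π F j) i x) := by
  refine (CohLin.hMap_id (⨁ F) i x).symm.trans ?_
  refine (congrArg (CohLin.hMapHom (⨁ F) (⨁ F) i x) (biproduct.total (f := F)).symm).trans ?_
  refine (map_sum (CohLin.hMapHom (⨁ F) (⨁ F) i x) _ _).trans ?_
  exact Finset.sum_congr rfl fun j _ => CohLin.hMap_comp _ _ i x

/-- Sums of finitely many copies: `h⁰` is the sum. -/
theorem h0_sigma_eq {κ : Type} [Fintype κ] (T : X.Modules ⥤ X.Modules) [T.Additive] (F : κ → X.Modules)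
    [∀ j, Module.Finite k (Coh.HH X (T.obj (F j)) 0)] :
    Module.finrank k (Coh.HH X (T.obj (∐ F)) 0) = ∑ j, Module.finrank k (Coh.HH X (T.obj (F j)) 0) := by
  have : HasFiniteBiproducts X.Modules := Abelian.hasFiniteBiproducts
  let G : κ → X.Modules := fun j => T.obj (F j)
  let e : T.obj (∐ F) ≅ ⨁ G := T.mapIso (biproduct.isoCoproduct F).symm ≪≫ T.mapBiproduct F
  rw [← Module.finrank_pi_fintype k]
  let f := LinearMap.pi fun j => CohLin.overLin k (CohLin.hMap (e.hom ≫ biproduct.π G j) 0)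
  refine LinearEquiv.finrank_eq (LinearEquiv.ofBijective f ⟨?_, fun y => ?_⟩)
  swap
  · classical
    refine ⟨∑ l, CohLin.hMap (biproduct.ι G l ≫ e.inv) 0 (y l), funext fun j => ?_⟩
    show CohLin.hMap (e.hom ≫ biproduct.π G j) 0 _ = y j
    rw [map_sum, Finset.sum_eq_single j]
    · rw [← CohLin.hMap_comp, Category.assoc, Iso.inv_hom_id_assoc, biproduct.ι_π_self, CohLin.hMap_id]
    · intro l _ hl
      rw [← CohLin.hMap_comp, Category.assoc, Iso.inv_hom_id_assoc, biproduct.ι_π_ne _ hl]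
      exact map_zero (CohLin.hMapHom (G l) (G j) 0 (y l))
    · exact fun h => absurd (Finset.mem_univ j) h
  refine (injective_iff_map_eq_zero _).mpr fun x hx => ?_
  apply (CohLin.hIso e 0).injective
  rw [map_zero]
  refine (eq_sum_hMap' G 0 _).trans (Finset.sum_eq_zero fun j _ => ?_)
  have h : CohLin.hMap (e.hom ≫ biproduct.π G j) 0 x = 0 := congrFun hx j
  rw [CohLin.hMap_comp] at h
  exact (congrArg _ h).trans (map_zero _)

omit [X.Over (Spec (CommRingCat.of k))] in
theorem subsingleton_map_sigma {κ : Type} [Fintype κ] (T : X.Modules ⥤ X.Modules) [T.Additive]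
    (F : κ → X.Modules) (i : ℕ) (h : ∀ j, Subsingleton (Coh.HH X (T.obj (F j)) i)) :
    Subsingleton (Coh.HH X (T.obj (∐ F)) i) := by
  have : HasFiniteBiproducts X.Modules := Abelian.hasFiniteBiproducts
  let G : κ → X.Modules := fun j => T.obj (F j)
  let e : T.obj (∐ F) ≅ ⨁ G := T.mapIso (biproduct.isoCoproduct F).symm ≪≫ T.mapBiproduct F
  refine subsingleton_of_forall_eq 0 fun x => (CohLin.hIso e i).injective ?_
  rw [map_zero]
  refine (eq_sum_hMap' G i _).trans (Finset.sum_eq_zero fun j _ => ?_)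
  exact (congrArg _ (@Subsingleton.elim _ (h j) _ 0)).trans (map_zero _)

/-- `O(t)` as the twist of the structure module -/
def oneTw (t : ℤ) : twF (Coh.structureModule (CohB1.ProjSpace n k)) t ≅ twistProjSpace n k t :=
  oneTens (twistProjSpace n k t)

theorem isCoh_oneTw (t : ℤ) : Coh.IsCoh (twF (Coh.structureModule (CohB1.ProjSpace n k)) t) :=
  CohDev.isCoh_of_iso (oneTw t).symm (isCoh_twistProjSpace n k t)

set_option maxHeartbeats 400000 in
theorem h0Tw_free (N : ℕ) (t : ℕ) :
    h0Tw (FlatMod.freeMod (CohB1.ProjSpace n k) N) (t : ℤ) = N * (n + t).choose n := by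
  have := fun _ : Fin N => finite_hh (isCoh_oneTw (n := n) (k := k) (t : ℤ)) 0
  refine (@h0_sigma_eq k _ (CohB1.ProjSpace n k) _ (Fin N) _ (twFun n k (t : ℤ)) _
    (fun _ => Coh.structureModule (CohB1.ProjSpace n k)) this).trans ?_
  refine (Finset.sum_congr rfl fun j _ => (finrank_iso (oneTw (t : ℤ)) 0).trans
    ((h0Equiv n k t).finrank_eq.symm.trans (PlanePts.finrank_forms k n t))).trans ?_
  simp

set_option maxHeartbeats 400000 in
theorem isMRegular_free (N : ℕ) :
    Curv2.IsMRegular k n (FlatMod.freeMod (CohB1.ProjSpace n k) N) 0 := fun i hi _ => by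
  refine subsingleton_map_sigma (twFun n k (0 - i : ℤ)) (fun _ : Fin N => Coh.structureModule _) i fun _ => ?_
  have := subsingleton_twist_of_le (n := n) (k := k) i hi (d := 0 - (i : ℤ)) (by omega)
  exact subsingleton_of_iso (oneTw _).symm i

end Free

/-- Mumford: uniform regularity of submodules of `O^N` with given Euler characteristics. -/
theorem exists_bound_submodule_free (n N : ℕ) (P : ℚ[X]) (a : ℕ) :
    ∃ m : ℕ, ∀ (k : Type u) [Field k] [Infinite k] (G : (CohB1.ProjSpace n k).Modules)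
      (φ : G ⟶ FlatMod.freeMod (CohB1.ProjSpace n k) N), Mono φ → Coh.IsCoh G →
      (∀ t : ℤ, (a : ℤ) ≤ t → (chi G t : ℚ) = P.eval (t : ℚ)) → Curv2.IsMRegular k n G m := by
  obtain ⟨m, hm⟩ := exists_bounded.{u} (n := n) (n + 1) N P a
  refine ⟨m, fun k _ _ G φ hφ hG hchi => ?_⟩
  have := isLocallyNoetherian_projSpace n k
  refine hm k _ G φ hφ (PerfTri.Bounded.isCoh_freeMod N) hG (isMRegular_free N) (fun t => (h0Tw_free N t).le) ?_ hchi
  refine lt_of_le_of_lt ?_ (by exact_mod_cast Nat.lt_succ_self n : ((n : ℕ) : WithBot ℕ∞) < ((n + 1 : ℕ) : WithBot ℕ∞))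
  exact (Topology.IsEmbedding.subtypeVal.isInducing.topologicalKrullDim_le).trans
    (S10829.result k n).le

end Groth.Agent.ProjTwist.Pn
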