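import Groth.Agent.ProjTwist.Pn.HyperSection
import Groth.Agent.ProjTwist.Pn.Extension
import Groth.Agent.ProjTwist.Pn.Scalar
import Mathlib.LinearAlgebra.Eigenspace.Triangularizable
import Mathlib.FieldTheory.IsAlgClosed.Basic

/-!
`h⁰(F(-1)) < h⁰(F)` for a coherent module on `P^n_k` without closed associated points, `k` algebraically closed.
-/

set_option autoImplicit false

open CategoryTheory CategoryTheory.Limits AlgebraicGeometry TopologicalSpace Opposite
open Groth.Agent.PullStalk.Sky Groth.Agent.PullStalk.Exact Groth.Agent.QCoh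
open Groth.Agent.Props.GenTensor Groth.Agent.Props.GenLocus

universe u

noncomputable section

namespace Groth.Agent.ProjTwist.Pn.DimDrop

open Twist

variable {n : ℕ} {k : Type u} [Field k]

/-- `H⁰` as global sections -/
def e0 (M : (CohB1.ProjSpace n k).Modules) : Coh.HH (CohB1.ProjSpace n k) M 0 ≃+ Γ(M, ⊤) :=
  Sheaf.H.equiv₀ (Coh.toAb M) CategoryTheory.Limits.isTerminalTop

/-- the scalar `c` as a global function -/
abbrev scal (c : k) : Γ((CohB1.ProjSpace n k), ⊤) := Coh.toGlobal (CohB1.ProjSpace.toSpec n k) c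

theorem e0_smul (M : (CohB1.ProjSpace n k).Modules) (c : k) (x : Coh.HH (CohB1.ProjSpace n k) M 0) :
    e0 M (c • x) = scal (n := n) c • e0 M x := by
  show Sheaf.H.equiv₀ (Coh.toAb M) CategoryTheory.Limits.isTerminalTop
    (Sheaf.H.map (Coh.smulAb M (scal (n := n) c)) 0 x) = _
  rw [← Sheaf.H.equiv₀_naturality, Coh.smulAb_app]
  have h : Coh.resTop (CohB1.ProjSpace n k) (op ⊤) (scal (n := n) c) = scal (n := n) c :=
    congrArg (fun q : (CohB1.ProjSpace n k).ringCatSheaf.obj.obj (op ⊤) ⟶ _ => q.hom (scal (n := n) c))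
      ((CohB1.ProjSpace n k).ringCatSheaf.obj.map_id (op ⊤))
  rw [h]
  rfl

theorem e0_hMap {M N : (CohB1.ProjSpace n k).Modules} (φ : M ⟶ N) (x : Coh.HH (CohB1.ProjSpace n k) M 0) :
    e0 N (CohLin.hMap φ 0 x) = φ.app ⊤ (e0 M x) :=
  (Sheaf.H.equiv₀_naturality CategoryTheory.Limits.isTerminalTop _ x).symm

theorem mulForm_app_apply (a : Fin (n + 1) → k) (F : (CohB1.ProjSpace n k).Modules) (g : Γ(twF F (-1), ⊤)) :
    ((mulForm a).app F).app ⊤ g =
      (downUpNat.hom.app F).app ⊤ (tmul g (res _ le_top (formSec a))) :=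
  congrArg (fun z => (downUpNat.hom.app F).app ⊤ (tmul g z)) (sec_homOfSec (formSec a) ⊤)

theorem form_smul_add (c : k) (a b : Fin (n + 1) → k) :
    form (c • a + b) = MvPolynomial.C c * form a + form b := by
  rw [← formL_apply, map_add, map_smul, formL_apply, formL_apply, MvPolynomial.smul_eq_C_mul]

theorem mk_combination (z : ProjectiveSpectrum (CohB1.polyGrading n k)) (c : k)
    (f g : MvPolynomial (Fin (n + 1)) k) (s : z.asHomogeneousIdeal.toIdeal.primeCompl) :
    (Localization.mk (MvPolynomial.C c * f + g) s : Loc (CohB1.polyGrading n k) z) =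
      algebraMap (MvPolynomial (Fin (n + 1)) k) (Loc (CohB1.polyGrading n k) z) (MvPolynomial.C c) * Localization.mk f s +
        Localization.mk g s := by
  rw [mk_mul_algebraMap, Localization.add_mk_self]

theorem formSec_smul_add (c : k) (a b : Fin (n + 1) → k) :
    res (twistProjSpace n k 1) (le_refl ⊤) (formSec (c • a + b)) =
      scal (n := n) c • res (twistProjSpace n k 1) (le_refl ⊤) (formSec a) +
        res (twistProjSpace n k 1) (le_refl ⊤) (formSec b) := by
  refine sectN_ext (𝒜 := CohB1.polyGrading n k) fun x => ?_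
  have hs := val_scalarO c (op ⊤) x
  have hid : scalarO c (op (⊤ : (CohB1.ProjSpace n k).Opens)) = scal (n := n) c :=
    congrArg (fun q : (CohB1.ProjSpace n k).ringCatSheaf.obj.obj (op ⊤) ⟶ _ => q.hom (scal (n := n) c))
      ((CohB1.ProjSpace n k).ringCatSheaf.obj.map_id (op ⊤))
  show Localization.mk (form (c • a + b)) _ =
    ((show O (op (⊤ : (CohB1.ProjSpace n k).Opens)) from scal (n := n) c).1 x).val *
      Localization.mk (form a) _ + Localization.mk (form b) _
  rw [(congrArg (fun z : O (op (⊤ : (CohB1.ProjSpace n k).Opens)) => (z.1 x).val) hid).symm.trans hs]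
  rw [form_smul_add]
  exact mk_combination x.1 c (form a) (form b) _

variable (F : (CohB1.ProjSpace n k).Modules)

/-- multiplication by a linear form on `H⁰` -/
def mul0 (a : Fin (n + 1) → k) : Coh.HH (CohB1.ProjSpace n k) (twF F (-1)) 0 →ₗ[k] Coh.HH (CohB1.ProjSpace n k) F 0 :=
  CohLin.overLin k (CohLin.hMap ((mulForm a).app F) 0)

theorem e0_mul0 (a : Fin (n + 1) → k) (x : Coh.HH (CohB1.ProjSpace n k) (twF F (-1)) 0) :
    e0 F (mul0 F a x) = ((mulForm a).app F).app ⊤ (e0 (twF F (-1)) x) :=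
  e0_hMap ((mulForm a).app F) x

theorem mul0_smul_add (c : k) (a b : Fin (n + 1) → k) (x : Coh.HH (CohB1.ProjSpace n k) (twF F (-1)) 0) :
    mul0 F (c • a + b) x = c • mul0 F a x + mul0 F b x := by
  refine (e0 F).injective ?_
  rw [map_add, e0_smul, e0_mul0, e0_mul0, e0_mul0, mulForm_app_apply, mulForm_app_apply,
    mulForm_app_apply, formSec_smul_add]
  have h : ∀ (g : Γ(twF F (-1), (⊤ : (CohB1.ProjSpace n k).Opens))) (l₁ l₂ : Γ(twistProjSpace n k 1, (⊤ : (CohB1.ProjSpace n k).Opens))),
      tmul g (l₁ + l₂) = tmul g l₁ + tmul g l₂ := fun g l₁ l₂ => by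
    rw [tmul, TensorProduct.tmul_add]
    exact map_add ((η (twF F (-1)) (twistProjSpace n k 1)).app (op ⊤)).hom _ _
  refine (congrArg _ (h _ _ _)).trans ((map_add _ _ _).trans (congrArg (· + _) ?_))
  exact (congrArg _ (tmul_smul_right _ _ _)).trans (Scheme.Modules.Hom.app_smul _ _ _)

variable {F}

/-- where the form does not vanish, associated points of `F(-1)` are associated to `F` -/
theorem mem_ass_of_mem_ass_twist [Infinite k] {z : CohB1.ProjSpace n k} (hz : z ∈ _root_.AssSch.Ass (twF F (-1))) :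
    z ∈ _root_.AssSch.Ass F := by
  have := isLocallyNoetherian_projSpace n k
  obtain ⟨a, ha⟩ := exists_form_avoid (n := n) (k := k) (Set.finite_singleton z)
  obtain ⟨t, ht, hm⟩ := (AssSch.Quot.mem_ass_iff_exists _ z).mp hz
  refine (AssSch.Quot.mem_ass_iff_exists _ z).mpr
    ⟨stalkLin ((mulForm a).app F) z t, fun h0 => ht ?_, fun r hr => ?_⟩
  · exact (mulForm_bijAt a z (ha z rfl) F).1 (h0.trans (map_zero _).symm)
  · exact (map_smul _ r t).symm.trans ((congrArg _ (hm r hr)).trans (map_zero _))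

theorem finite_ass (M : (CohB1.ProjSpace n k).Modules) (hM : Coh.IsCoh M) : (_root_.AssSch.Ass M).Finite := by
  have := isLocallyNoetherian_projSpace n k
  have := hM.1
  have : (⋃ j : Fin (n + 1), _root_.AssSch.Ass M ∩ (stdOpen n k j : Set _)).Finite :=
    Set.finite_iUnion fun j => AssSch.Restrict.finite_ass_inter M hM (isAffineOpen_stdOpen n k j)
  refine this.subset fun x hx => ?_
  obtain ⟨j, hj⟩ := Opens.mem_iSup.mp ((iSup_stdOpen n k).ge (trivial : x ∈ (⊤ : (CohB1.ProjSpace n k).Opens)))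
  exact Set.mem_iUnion.mpr ⟨j, hx, hj⟩

theorem mul0_injective (hF : Coh.IsCoh F) (a : Fin (n + 1) → k)
    (ha : ∀ y ∈ _root_.AssSch.Ass (twF F (-1)), y ∈ Proj.basicOpen (CohB1.polyGrading n k) (form a)) :
    Function.Injective (mul0 F a) := by
  have := isLocallyNoetherian_projSpace n k
  have : Mono ((mulForm a).app F) := mono_of_injective_ass _ (isCoh_tw hF (-1)) hF fun z hz =>
    (mulForm_bijAt a z (ha z hz) F).1
  intro x y h
  refine (e0 (twF F (-1))).injective ?_
  refine QCoh.app_injective_of_mono ((mulForm a).app F) ⊤ ?_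
  rw [← e0_mul0, ← e0_mul0, h]

/-- the linear forms in the ideal of a point -/
def van (z : CohB1.ProjSpace n k) : Submodule k (Fin (n + 1) → k) :=
  Submodule.comap formL (Submodule.restrictScalars k
    (show ProjectiveSpectrum (CohB1.polyGrading n k) from z).asHomogeneousIdeal.toIdeal)

theorem mem_van {z : CohB1.ProjSpace n k} {a : Fin (n + 1) → k} (h : z ∉ Proj.basicOpen (CohB1.polyGrading n k) (form a)) :
    a ∈ van z := by
  by_contra hn
  refine h ((Proj.mem_basicOpen _ _ _).mpr fun hm => hn ?_)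
  simp only [van, Submodule.mem_comap, formL_apply]
  exact hm

/-- on a homogeneous polynomial, substituting multiples of one variable -/
theorem aeval_homogeneous {d : ℕ} {g : MvPolynomial (Fin (n + 1)) k} (hg : g.IsHomogeneous d)
    (t : Fin (n + 1) → k) (v : MvPolynomial (Fin (n + 1)) k) :
    MvPolynomial.aeval (fun i => MvPolynomial.C (t i) * v) g =
      MvPolynomial.C (MvPolynomial.eval t g) * v ^ d := by
  conv_lhs => rw [g.as_sum]
  conv_rhs => rw [g.as_sum]
  rw [map_sum, map_sum, map_sum, Finset.sum_mul]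
  refine Finset.sum_congr rfl fun e he => ?_
  have hd : ∑ i ∈ e.support, e i = d := by
    have := hg (MvPolynomial.mem_support_iff.mp he)
    rw [Finsupp.weight_apply] at this
    simpa [Finsupp.sum] using this
  rw [MvPolynomial.aeval_monomial, MvPolynomial.eval_monomial, map_mul, Finsupp.prod, Finsupp.prod,
    map_prod, MvPolynomial.algebraMap_eq, mul_assoc]
  congr 1
  simp_rw [mul_pow, Finset.prod_mul_distrib, Finset.prod_pow_eq_pow_sum, hd, ← map_pow]

/-- a point at which the linear forms contain a hyperplane is closed -/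
theorem isClosed_of_van (z : CohB1.ProjSpace n k) (a₀ : Fin (n + 1) → k) (h : van z ⊔ Submodule.span k {a₀} = ⊤) :
    IsClosed ({z} : Set (CohB1.ProjSpace n k)) := by
  classical
  refine closure_subset_iff_isClosed.mp fun w hw => ?_
  let z' : ProjectiveSpectrum (CohB1.polyGrading n k) := z
  let w' : ProjectiveSpectrum (CohB1.polyGrading n k) := w
  have hzw : z' ≤ w' := (ProjectiveSpectrum.le_iff_mem_closure (CohB1.polyGrading n k) z' w').mpr hw
  have hle : z'.asHomogeneousIdeal.toIdeal ≤ w'.asHomogeneousIdeal.toIdeal := hzw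
  obtain ⟨j, hj⟩ := Opens.mem_iSup.mp ((iSup_stdOpen n k).ge (trivial : w ∈ (⊤ : (CohB1.ProjSpace n k).Opens)))
  have hXw : MvPolynomial.X j ∉ w'.asHomogeneousIdeal.toIdeal :=
    not_mem_of_le_basicOpen (le_refl (stdOpen n k j)) ⟨w, hj⟩
  have dec : ∀ i : Fin (n + 1), ∃ c : k, Pi.single i 1 - c • a₀ ∈ van z := fun i => by
    obtain ⟨q, hq, y, hy, hqy⟩ := Submodule.mem_sup.mp (h.ge (Submodule.mem_top (x := Pi.single i (1 : k))))
    obtain ⟨c, rfl⟩ := Submodule.mem_span_singleton.mp hy
    exact ⟨c, by rwa [← hqy, add_sub_cancel_right]⟩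
  choose c hc using dec
  have hform : ∀ i, formL (n := n) (k := k) (Pi.single i 1) = MvPolynomial.X i := fun i => by
    simp [formL, Fintype.linearCombination_apply_single]
  have hcj : c j ≠ 0 := fun h0 => by
    refine hXw (hle ?_)
    have := hc j
    rw [h0, zero_smul, sub_zero] at this
    have h2 : formL (Pi.single j (1 : k)) ∈ z'.asHomogeneousIdeal.toIdeal := this
    rwa [hform] at h2
  let t : Fin (n + 1) → k := fun i => c i / c j
  let J := z'.asHomogeneousIdeal.toIdeal
  have hX : ∀ i, MvPolynomial.X i - MvPolynomial.C (t i) * MvPolynomial.X j ∈ J := fun i => by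
    have h1 : (Pi.single i 1 - c i • a₀) - t i • (Pi.single j 1 - c j • a₀) ∈ van z :=
      sub_mem (hc i) ((van z).smul_mem _ (hc j))
    rw [smul_sub, smul_smul, div_mul_cancel₀ _ hcj] at h1
    have h2 : formL ((Pi.single i 1 - c i • a₀) - (t i • Pi.single j (1 : k) - c i • a₀)) ∈ J := h1
    rw [sub_sub_sub_cancel_right, map_sub, map_smul, hform, hform, MvPolynomial.smul_eq_C_mul] at h2
    exact h2
  have hcong : ∀ g, g - MvPolynomial.aeval (fun i => MvPolynomial.C (t i) * MvPolynomial.X j) g ∈ J := fun g => by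
    rw [← Ideal.Quotient.eq]
    have : (Ideal.Quotient.mk J) =
        (Ideal.Quotient.mk J).comp (MvPolynomial.aeval fun i => MvPolynomial.C (t i) * MvPolynomial.X j).toRingHom :=
      MvPolynomial.ringHom_ext (fun r => by simp)
        (fun i => by simpa using Ideal.Quotient.eq.mpr (hX i))
    exact RingHom.congr_fun this g
  have hhom : ∀ d, ∀ g : MvPolynomial (Fin (n + 1)) k, g.IsHomogeneous d →
      g ∈ w'.asHomogeneousIdeal.toIdeal → g ∈ J := fun d g hg hgw => by
    have h1 := hcong g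
    rw [aeval_homogeneous hg] at h1
    by_cases h0 : MvPolynomial.eval t g = 0
    · rwa [h0, map_zero, zero_mul, sub_zero] at h1
    · exfalso
      have h2 := sub_mem hgw (hle h1)
      rw [sub_sub_cancel] at h2
      refine hXw (w'.isPrime.mem_of_pow_mem d ((Ideal.unit_mul_mem_iff_mem _ ?_).mp h2))
      exact (isUnit_iff_ne_zero.mpr h0).map MvPolynomial.C
  have hwz : w' ≤ z' := fun g hg => by
    rw [← DirectSum.sum_support_decompose (CohB1.polyGrading n k) g]
    exact Ideal.sum_mem _ fun d _ =>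
      hhom d _ ((MvPolynomial.mem_homogeneousSubmodule d _).mp (SetLike.coe_mem _))
        (w'.asHomogeneousIdeal.isHomogeneous d hg)
  exact (le_antisymm hwz hzw : w' = z')

variable [IsAlgClosed k]

theorem finrank_twist_le (hF : Coh.IsCoh F) :
    Module.finrank k (Coh.HH (CohB1.ProjSpace n k) (twF F (-1)) 0) ≤ Module.finrank k (Coh.HH (CohB1.ProjSpace n k) F 0) := by
  have := finite_hh hF 0
  obtain ⟨a, ha⟩ := exists_form_avoid (finite_ass _ (isCoh_tw hF (-1)))
  exact LinearMap.finrank_le_finrank_of_injective (mul0_injective hF a ha)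

/-- the main inequality -/
theorem finrank_twist_lt (hF : Coh.IsCoh F)
    (hass : ∀ x ∈ _root_.AssSch.Ass F, ¬ IsClosed ({x} : Set (CohB1.ProjSpace n k)))
    (h0 : 1 ≤ Module.finrank k (Coh.HH (CohB1.ProjSpace n k) F 0)) :
    Module.finrank k (Coh.HH (CohB1.ProjSpace n k) (twF F (-1)) 0) + 1 ≤ Module.finrank k (Coh.HH (CohB1.ProjSpace n k) F 0) := by
  classical
  have := finite_hh hF 0
  have := finite_hh (isCoh_tw hF (-1)) 0
  have hT := finite_ass _ (isCoh_tw hF (-1))
  obtain ⟨a₀, ha₀⟩ := exists_form_avoid hT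
  have hi := mul0_injective hF a₀ ha₀
  by_contra hlt
  have heq : Module.finrank k (Coh.HH (CohB1.ProjSpace n k) (twF F (-1)) 0) = Module.finrank k (Coh.HH (CohB1.ProjSpace n k) F 0) :=
    le_antisymm (LinearMap.finrank_le_finrank_of_injective hi) (by omega)
  let e := LinearEquiv.ofBijective (mul0 F a₀)
    ⟨hi, (LinearMap.injective_iff_surjective_of_finrank_eq_finrank heq).mp hi⟩
  have : Nontrivial (Coh.HH (CohB1.ProjSpace n k) F 0) := Module.nontrivial_of_finrank_pos h0
  have key : ∀ a, ∃ z : _root_.AssSch.Ass (twF F (-1)),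
      a ∈ van z.1 ⊔ Submodule.span k {a₀} := fun a => by
    obtain ⟨c, hc⟩ := Module.End.exists_eigenvalue ((mul0 F a).comp e.symm.toLinearMap)
    obtain ⟨v, hv⟩ := hc.exists_hasEigenvector
    have hv1 : mul0 F a (e.symm v) = c • v := hv.apply_eq_smul
    have hker : mul0 F ((-c) • a₀ + a) (e.symm v) = 0 := by
      rw [mul0_smul_add, hv1]
      show (-c) • e (e.symm v) + _ = _
      rw [e.apply_symm_apply, neg_smul, neg_add_cancel]
    have hni : ¬ ∀ y ∈ _root_.AssSch.Ass (twF F (-1)),
        y ∈ Proj.basicOpen (CohB1.polyGrading n k) (form ((-c) • a₀ + a)) := fun h => by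
      have := mul0_injective hF _ h (hker.trans (map_zero _).symm)
      exact hv.2 (e.symm.injective (this.trans (map_zero _).symm))
    push_neg at hni
    obtain ⟨z, hz, hzn⟩ := hni
    refine ⟨⟨z, hz⟩, ?_⟩
    have h1 := Submodule.add_mem_sup (mem_van hzn)
      (Submodule.smul_mem _ c (Submodule.mem_span_singleton_self a₀))
    rwa [add_right_comm, ← add_smul, neg_add_cancel, zero_smul, zero_add] at h1
  have := hT.to_subtype
  obtain ⟨z, hz⟩ : ∃ z : _root_.AssSch.Ass (twF F (-1)), van z.1 ⊔ Submodule.span k {a₀} = ⊤ := by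
    by_contra hne
    push_neg at hne
    obtain ⟨a, ha⟩ := Submodule.exists_forall_notMem_of_forall_ne_top _ hne
    obtain ⟨z, hz⟩ := key a
    exact ha z hz
  exact hass z.1 (mem_ass_of_mem_ass_twist z.2) (isClosed_of_van z.1 a₀ hz)

theorem finrank_twist_neg_le (hF : Coh.IsCoh F)
    (hass : ∀ x ∈ _root_.AssSch.Ass F, ¬ IsClosed ({x} : Set (CohB1.ProjSpace n k))) (m : ℕ) :
    Coh.IsCoh (twF F (-(m : ℤ))) ∧ _root_.AssSch.Ass (twF F (-(m : ℤ))) ⊆ _root_.AssSch.Ass F ∧
      Module.finrank k (Coh.HH (CohB1.ProjSpace n k) (twF F (-(m : ℤ))) 0) ≤ Module.finrank k (Coh.HH (CohB1.ProjSpace n k) F 0) - m := by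
  have := isLocallyNoetherian_projSpace n k
  induction m with
  | zero =>
    let e : twF F (-((0 : ℕ) : ℤ)) ≅ F := eqToIso (by simp) ≪≫ twZero F
    exact ⟨isCoh_tw hF _, AssSch.Quot.ass_subset_of_mono e.hom, (finrank_iso e 0).le.trans (by simp)⟩
  | succ m ih =>
    obtain ⟨hc, hsub, hle⟩ := ih
    let e : twF (twF F (-(m : ℤ))) (-1) ≅ twF F (-((m + 1 : ℕ) : ℤ)) :=
      twTw F _ _ _ (by push_cast; ring)
    refine ⟨isCoh_tw hF _, fun z hz => hsub (mem_ass_of_mem_ass_twist
      (AssSch.Quot.ass_subset_of_mono e.inv hz)), ?_⟩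
    rw [← finrank_iso e 0]
    by_cases h0 : 1 ≤ Module.finrank k (Coh.HH (CohB1.ProjSpace n k) (twF F (-(m : ℤ))) 0)
    · have := finrank_twist_lt hc (fun x hx => hass x (hsub hx)) h0
      omega
    · have := finrank_twist_le hc
      omega

end Groth.Agent.ProjTwist.Pn.DimDrop
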